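import Cfsg.Statements.S0168
import Cfsg.Agent.H3.Perm

set_option autoImplicit false
open Cfsg

namespace Cfsg.Agent.S0168
open H3
export H3 (inner_add_left inner_add_right inner_sub_left inner_sub_right inner_neg_left inner_neg_right
  inner_zero_left inner_zero_right inner_smul_left inner_smul_right inner_conj_symm inner_self_eq_zero
  inner_self_im)

/-- The Burnside–Brauer Theorem. Let χ be the character of a faithful complex representation of a finite group, taking m distinct values. Then every irreducible character has nonzero inner product with χ ^ i for some i < m. -/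
theorem result {G : Type*} [Group G] [Fintype G] {V : Type*} [AddCommGroup V] [Module ℂ V] [FiniteDimensional ℂ V] (ρ : Representation ℂ G V) (hfaithful : Function.Injective ρ) (ψ : G → ℂ) (hψ : Cfsg.IsIrrCharacter G ψ) : ∃ i : ℕ, i < Nat.card (Set.range ρ.character) ∧ Cfsg.classInner (fun g => ρ.character g ^ i) ψ ≠ 0 := by
  classical
  by_contra hc
  push Not at hc
  set χ := ρ.character with hχ
  let S : Finset ℂ := Finset.univ.image χ
  have hS : Nat.card (Set.range χ) = S.card := by
    rw [← Nat.card_eq_finsetCard]
    exact Nat.card_congr (Equiv.subtypeEquivRight (fun z => by simp [S]))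
  let P : Polynomial ℂ := ∏ z ∈ S.erase (χ 1), (Polynomial.X - Polynomial.C z)
  have hP : P.natDegree < S.card := by
    rw [Polynomial.natDegree_prod_of_monic _ _ (fun z _ => Polynomial.monic_X_sub_C z)]
    simp only [Polynomial.natDegree_X_sub_C, Finset.sum_const, smul_eq_mul, mul_one]
    exact Finset.card_erase_lt_of_mem (by simp [S])
  have h1 : Cfsg.classInner (fun g => P.eval (χ g)) ψ = 0 := by
    have : (fun g => P.eval (χ g)) =
        ∑ i ∈ Finset.range (P.natDegree + 1), P.coeff i • (fun g => χ g ^ i) := by
      ext g
      rw [Polynomial.eval_eq_sum_range]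
      simp
    rw [this, inner_sum_left]
    refine Finset.sum_eq_zero (fun i hi => ?_)
    rw [inner_smul_left, hc i (by rw [hS]; have := Finset.mem_range.1 hi; omega), mul_zero]
  rw [Cfsg.classInner, Finset.sum_eq_single 1] at h1
  · rw [conj_deg hψ.isCharacter] at h1
    simp only [mul_eq_zero, inv_eq_zero, card_ne_zero G, hψ.deg_ne_zero, false_or, or_false] at h1
    simp only [P, Polynomial.eval_prod, Finset.prod_eq_zero_iff] at h1
    obtain ⟨z, hz, h2⟩ := h1
    simp only [Polynomial.eval_sub, Polynomial.eval_X, Polynomial.eval_C, sub_eq_zero] at h2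
    exact (Finset.mem_erase.1 hz).1 h2.symm
  · intro g _ hg
    have : χ g ∈ S.erase (χ 1) := by
      refine Finset.mem_erase.2 ⟨fun h => hg ?_, by simp [S]⟩
      have h2 : g ∈ charKer χ := (isCharacter_character ρ).mem_charKer.2 h
      rw [hχ, charKer_character, (MonoidHom.ker_eq_bot_iff _).2 hfaithful] at h2
      exact h2
    simp only [P, Polynomial.eval_prod]
    rw [Finset.prod_eq_zero this (by simp), zero_mul]
  · simp

end Cfsg.Agent.S0168
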