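import Cfsg.Statements.S3681
import Mathlib
import Cfsg.Agent.H8.Perm3

set_option autoImplicit false
open Cfsg

namespace Cfsg.Agent.S3681

/-- Bochert's bound for primitive groups. Let a finite group G act faithfully and primitively on a finite set Ω with n elements, and suppose the image of G in the symmetric group of Ω does not contain the alternating group of Ω. Then |G| · ⌊(n + 1)/2⌋! ≤ n!, that is, the index of G in the symmetric group is at least ⌊(n + 1)/2⌋!. -/
theorem result {G Ω : Type*} [Group G] [Finite G] [MulAction G Ω] [FaithfulSMul G Ω] [Fintype Ω] [DecidableEq Ω]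
    (hprim : MulAction.IsPreprimitive G Ω) (hA : ¬ alternatingGroup Ω ≤ (MulAction.toPermHom G Ω).range) :
    Nat.card G * Nat.factorial ((Fintype.card Ω + 1) / 2) ≤ Nat.factorial (Fintype.card Ω) := by
  classical
  have hone : ∀ g : G, (∀ x : Ω, g • x = x) → g = 1 := fun g hg =>
    eq_of_smul_eq_smul (α := Ω) (by simpa using hg)
  obtain ⟨Γ, hΓ, hmin⟩ := Finset.exists_min_image
    (Finset.univ.filter fun Γ : Finset Ω => ∀ g : G, (∀ x ∈ Γ, g • x = x) → g = 1) Finset.card
    ⟨Finset.univ, by simpa using hone⟩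
  simp only [Finset.mem_filter, Finset.mem_univ, true_and] at hΓ hmin
  have hk := Finset.card_le_univ Γ
  have h1 : Nat.card G ≤ (Fintype.card Ω).descFactorial Γ.card := by
    rw [← Fintype.card_coe Γ, ← Fintype.card_embedding_eq, ← Nat.card_eq_fintype_card]
    refine Nat.card_le_card_of_injective (fun g => ⟨fun x => g • x.1, fun x y e =>
      Subtype.ext (MulAction.injective g e)⟩) fun g h e => ?_
    exact (inv_mul_eq_one.1 (hΓ (h⁻¹ * g) fun x hx => by
      rw [mul_smul, inv_smul_eq_iff]; exact DFunLike.congr_fun e ⟨x, hx⟩)).symm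
  have h2 : 2 * Γ.card ≤ Fintype.card Ω := by
    by_contra hlt
    have hc := Finset.card_compl_add_card Γ
    have h3 : ¬ ∀ g : G, (∀ x ∈ Γᶜ, g • x = x) → g = 1 := fun h => by have := hmin _ h; omega
    push Not at h3
    obtain ⟨g, hg, hg1⟩ := h3
    obtain ⟨a, ha⟩ := not_forall.1 fun h => hg1 (hone g h)
    have haΓ : a ∈ Γ := by by_contra h; exact ha (hg a (by simpa using h))
    have h4 : ¬ ∀ g : G, (∀ x ∈ Γ.erase a, g • x = x) → g = 1 := fun h => by
      have := hmin _ h
      have := Finset.card_erase_lt_of_mem haΓ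
      omega
    push Not at h4
    obtain ⟨h, hh, hh1⟩ := h4
    refine hA (H8.alternating_le_of_support_inter _ (H8.isPreprimitive_range hprim) ⟨g, rfl⟩ ⟨h, rfl⟩
      (a := a) (fun x h1 h2 => ?_) ha fun e => hh1 (hΓ h fun x hx => ?_))
    · by_contra hxa
      exact h2 (hh x (Finset.mem_erase.2 ⟨hxa, by by_contra h; exact h1 (hg x (by simpa using h))⟩))
    · by_cases hxa : x = a
      · exact hxa ▸ e
      · exact hh x (Finset.mem_erase.2 ⟨hxa, hx⟩)
  rw [← Nat.factorial_mul_descFactorial hk, mul_comm]
  exact Nat.mul_le_mul (Nat.factorial_le (by omega)) h1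

end Cfsg.Agent.S3681
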