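import Cfsg.Statements.S4275
import Mathlib
import Cfsg.Agent.H8.Misc1

set_option autoImplicit false
open Cfsg

namespace Cfsg.Agent.S4275

/-- Let G be a transitive group of permutations of a finite set Ω, let o ∈ Ω, and let α be an automorphism of G. Then α is induced by conjugation by a permutation of Ω normalizing G if and only if the image under α of the stabilizer of o fixes some point of Ω. -/
theorem result {Ω : Type*} [Fintype Ω] (G : Subgroup (Equiv.Perm Ω)) (htr : MulAction.IsPretransitive G Ω) (o : Ω) (α : G ≃* G) : (∃ σ : Equiv.Perm Ω, σ ∈ Subgroup.normalizer (G : Set (Equiv.Perm Ω)) ∧ ∀ g : G, ((α g : G) : Equiv.Perm Ω) = σ * (g : Equiv.Perm Ω) * σ⁻¹) ↔ ∃ ω : Ω, ∀ g ∈ (MulAction.stabilizer G o).map α.toMonoidHom, g • ω = ω := by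
  constructor
  · rintro ⟨σ, -, hσ⟩
    refine ⟨σ o, ?_⟩
    rintro _ ⟨g, hg, rfl⟩
    have : (g : Equiv.Perm Ω) o = o := hg
    show ((α g : G) : Equiv.Perm Ω) (σ o) = σ o
    rw [hσ]; simp [this]
  · rintro ⟨ω, hω⟩
    choose t ht using fun x => htr.exists_smul_eq o x
    let f : Ω → Ω := fun x => α (t x) • ω
    have hf : ∀ (g : G) (x : Ω), f (g • x) = α g • f x := by
      intro g x
      have h1 : (t (g • x))⁻¹ * (g * t x) ∈ MulAction.stabilizer G o := by
        rw [MulAction.mem_stabilizer_iff, mul_smul, mul_smul, ht, inv_smul_eq_iff, ht]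
      have h2 := hω _ ⟨_, h1, rfl⟩
      simp only [MulEquiv.coe_toMonoidHom, map_mul, map_inv, mul_smul, inv_smul_eq_iff] at h2
      exact h2.symm
    have hsurj : Function.Surjective f := by
      intro y
      obtain ⟨g, rfl⟩ := htr.exists_smul_eq (f o) y
      exact ⟨α.symm g • o, by rw [hf]; simp⟩
    let σ : Equiv.Perm Ω := Equiv.ofBijective f (Finite.surjective_iff_bijective.1 hsurj)
    have hσ : ∀ g : G, ((α g : G) : Equiv.Perm Ω) = σ * (g : Equiv.Perm Ω) * σ⁻¹ := by
      intro g
      rw [eq_mul_inv_iff_mul_eq]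
      ext x
      exact (hf g x).symm
    refine ⟨σ, ?_, hσ⟩
    apply Subgroup.mem_normalizer_fintype
    intro g hg
    rw [← hσ ⟨g, hg⟩]; exact (α _).2

end Cfsg.Agent.S4275
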