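import Cfsg.Statements.S0251
import Cfsg.Agent.H4.Cover

set_option autoImplicit false
open Cfsg

namespace Cfsg.Agent.S0251


/-- PSL_2(3) is isomorphic to A_4. -/
theorem result {F : Type*} [Field F] [Fintype F] (hF : Fintype.card F = 3) : Nonempty (Matrix.ProjectiveSpecialLinearGroup (Fin 2) F ≃* alternatingGroup (Fin 4)) := by
  classical
  rw [← Nat.card_eq_fintype_card] at hF
  refine H4.equiv_alt_of_injective ((MulAction.toPermHom _ (OnePoint F)).comp H4.jL)
    (H4.pgl_toPerm_injective.comp H4.jL_injective) (by rw [H4.card_onePoint, hF]) ?_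
  have := H4.card_psl2_mul (K := F)
  rw [hF] at this
  exact this

end Cfsg.Agent.S0251
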