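import Cfsg.Statements.S0254
import Cfsg.Agent.H4.Cover

set_option autoImplicit false
open Cfsg

namespace Cfsg.Agent.S0254


/-- PSL_2(9) is isomorphic to A_6. -/
theorem result {F : Type*} [Field F] [Fintype F] (hF : Fintype.card F = 9) : Nonempty (Matrix.ProjectiveSpecialLinearGroup (Fin 2) F ≃* alternatingGroup (Fin 6)) := by
  rw [← Nat.card_eq_fintype_card] at hF
  haveI := Matrix.ProjectiveSpecialLinearGroup.rank_two_simple (F := F) (by omega)
  have h1 := H4.card_psl2_mul (K := F)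
  rw [hF, show Nat.gcd 2 (9 - 1) = 2 by decide] at h1
  obtain ⟨φ, hφ⟩ := H4.exists_a5_of_dvd (F := F) (by omega)
  obtain ⟨H, hH⟩ := H4.exists_psl_iff.2 ⟨φ, hφ, H4.a5_le_L φ⟩
  have h2 := H4.card_of_a5 hH
  have h3 := H.card_mul_index
  have h4 : H.index = 6 := by rw [h2] at h3; omega
  exact H4.equiv_alt_of_injective _ (H4.toPermHom_quot_injective H (by
    rintro rfl; simp at h4)) h4 (by rw [h1]; rfl)

end Cfsg.Agent.S0254
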