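import Cfsg.Statements.S3742
import Cfsg.Agent.H4.Tri

set_option autoImplicit false
open Cfsg

namespace Cfsg.Agent.S3742

open QuaternionGroup

def fa (x : QuaternionGroup 2) : QuaternionGroup 2 :=
  if x = a 1 then xa 0 else if x = a 3 then xa 2 else if x = xa 0 then a 1 else if x = xa 2 then a 3
  else if x = xa 3 then xa 1 else if x = xa 1 then xa 3 else x

def fb (x : QuaternionGroup 2) : QuaternionGroup 2 :=
  if x = a 1 then xa 0 else if x = a 3 then xa 2 else if x = xa 0 then xa 3 else if x = xa 2 then xa 1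
  else if x = xa 3 then a 1 else if x = xa 1 then a 3 else x

def ea : MulAut (QuaternionGroup 2) := ⟨⟨fa, fa, by decide, by decide⟩, by decide⟩

def eb : MulAut (QuaternionGroup 2) := ⟨⟨fb, fun x => fb (fb x), by decide, by decide⟩, by decide⟩

/-- The automorphism group of the quaternion group of order 8 is isomorphic to the symmetric group of degree 4. -/
theorem result : Nonempty (MulAut (QuaternionGroup 2) ≃* Equiv.Perm (Fin 4)) := by
  obtain ⟨φ, hφ, -⟩ := H4.exists_hom_s4 (a := ea) (b := eb) (MulEquiv.ext (by decide)) (MulEquiv.ext (by decide))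
    (MulEquiv.ext (by decide)) fun h => absurd (congrArg (fun e : MulAut (QuaternionGroup 2) => e (xa 0)) h)
      (by decide)
  have h1 : Nat.card (MulAut (QuaternionGroup 2)) ≤ Nat.card (Equiv.Perm (Fin 4)) := by
    have h2 : Nat.card {p : QuaternionGroup 2 × QuaternionGroup 2 // p.1 * p.2 ≠ p.2 * p.1} = 24 := by
      rw [Nat.card_eq_fintype_card]; decide
    rw [Nat.card_perm, Nat.card_fin, show Nat.factorial 4 = 24 by decide, ← h2]
    refine Nat.card_le_card_of_injective (fun e => ⟨(e (a 1), e (xa 0)), fun h => ?_⟩) fun e e' h => ?_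
    · simp only [← map_mul] at h
      exact absurd (e.injective h) (by decide)
    · have h3 : e (a 1) = e' (a 1) := congrArg (fun p => p.1.1) h
      have h4 : e (xa 0) = e' (xa 0) := congrArg (fun p => p.1.2) h
      have h5 : ∀ x : QuaternionGroup 2, ∃ i : Fin 4, x = a 1 ^ i.val ∨ x = xa 0 * a 1 ^ i.val := by decide
      refine MulEquiv.ext fun x => ?_
      obtain ⟨i, h | h⟩ := h5 x <;> rw [h] <;> simp only [map_mul, map_pow, h3, h4]
  exact ⟨(MulEquiv.ofBijective φ ((Nat.bijective_iff_injective_and_card φ).2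
    ⟨hφ, le_antisymm (Nat.card_le_card_of_injective φ hφ) h1⟩)).symm⟩

end Cfsg.Agent.S3742
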