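import Cfsg.Statements.S0389
import Cfsg.Agent.H6.Octad

set_option autoImplicit false
open scoped Pointwise
open Cfsg

namespace Cfsg.Agent.S0389
open H6 Finset MulAction
open scoped Pointwise
set_option maxRecDepth 100000

/-- The stabiliser of a dodecad and a point on it is 3-transitive on the complementary dodecad. -/
theorem result (d : Finset Cfsg.GolayPt) (hd : d ∈ Cfsg.dodecads) (p : Cfsg.GolayPt) (hp : p ∈ d) (x y : Fin 3 ↪ Cfsg.GolayPt) (hx : ∀ i, x i ∉ d) (hy : ∀ i, y i ∉ d) : ∃ g ∈ MulAction.stabilizer Cfsg.M24 d ⊓ MulAction.stabilizer Cfsg.M24 p, ∀ i, (g : Equiv.Perm Cfsg.GolayPt) (x i) = y i := by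
  obtain ⟨g, rfl, rfl⟩ := tr_dodecad_pt hd hp
  let x0 : Fin 3 ↪ GolayPt := ⟨![pt 5, pt 7, pt 10], by decide⟩
  have h1 := ((ckS 0x5335f).fxP 0).chain_mul_le [(5, [0xbb94f8928939650b2c61ab26643440, 0x89dd7b48a15d5ac7ce035128832440]), (7, [0x3d573b21ec550628dc81740a693520]), (10, [0x7dd53b19d0a2d81ac49238cad12120, 0xa2ef58a1ed9d92172a063c8ac18880])]
  rw [show chain _ _ = 1320 by decide +kernel] at h1
  have h2 := (tuple_trans (stabilizer M24 D0 ⊓ stabilizer M24 (pt 0)) D0ᶜ (fun g hg a ha => by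
    rw [mem_compl] at ha ⊢; exact mt (smul_mem_of_stab hg.1).1 ha) x0 (by decide +kernel) (by
      rw [card_compl, D0_mem.2, card_pt]
      refine le_trans (Nat.mul_le_mul_left _ (Subgroup.card_le_of_le fun g hg => ?_)) h1
      have h3 : ∀ i, g • x0 i = x0 i := fun i => DFunLike.congr_fun (mem_stabilizer_iff.1 hg.2) i
      refine ⟨hg.1, fun b hb => ?_⟩
      simp only [List.map_cons, List.map_nil, List.mem_cons, List.not_mem_nil, or_false] at hb
      rcases hb with rfl | rfl | rfl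
      exacts [h3 0, h3 1, h3 2])).1
  have h3 : ∀ x : Fin 3 ↪ GolayPt, (∀ i, x i ∉ g • D0) → g⁻¹ • x ∈ orb (stabilizer M24 D0 ⊓ stabilizer M24 (pt 0)) x0 :=
    fun x hx => h2 _ fun i => mem_compl.2 fun h => hx i (Finset.inv_smul_mem_iff.1 h)
  obtain ⟨k, hk, e⟩ := ((Cj.stab g D0).inf (Cj.stab g (pt 0))).trans_of (orb_trans (h3 x hx) (h3 y hy))
  exact ⟨k, hk, fun i => DFunLike.congr_fun e i⟩

end Cfsg.Agent.S0389
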