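import Cfsg.Statements.S0214
import Cfsg.Agent.H1.Inv

set_option autoImplicit false
open Cfsg

namespace Cfsg.Agent.S0214

open H7 H1B Subgroup

/-- Let H be a proper subgroup of the finite group G and P a nontrivial Sylow 2-subgroup of H. Then H is strongly embedded in G if and only if N_G(X) ≤ H for every nontrivial subgroup X of P. -/
theorem result {G : Type*} [Group G] [Finite G] (H : Subgroup G) (hH : H ≠ ⊤) (P : Sylow 2 ↥H) (hP : (P : Subgroup ↥H) ≠ ⊥) : Cfsg.IsStronglyEmbedded H ↔ (∀ X : Subgroup ↥H, X ≤ (P : Subgroup ↥H) → X ≠ ⊥ → Subgroup.normalizer ((X.map H.subtype : Subgroup G) : Set G) ≤ H) := by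
  rw [se_iff_nrm hH (H2.isSylowIn_map_subtype P) (by simpa [Subgroup.map_eq_bot_iff] using hP)]
  refine ⟨fun h X hX h1 => h _ (map_mono hX) (by simpa [Subgroup.map_eq_bot_iff] using h1), fun h X hX h1 => ?_⟩
  have l : X ≤ H := hX.trans (map_subtype_le _)
  have := h (X.subgroupOf H) (by rwa [le_iff_map, subgroupOf_map l]) fun e => h1 (by
    rw [← subgroupOf_map l, e, Subgroup.map_bot])
  rwa [subgroupOf_map l] at this

end Cfsg.Agent.S0214
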