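import Cfsg.Statements.S0223
import Cfsg.Agent.H1.Inv

set_option autoImplicit false
open Cfsg

namespace Cfsg.Agent.S0223

open H7 H1B Subgroup

/-- Let H be a proper subgroup of even order of the finite group G. Then H is strongly embedded if and only if (i) C_G(t) ≤ H for every involution t of H and (ii) H controls fusion of its involutions: involutions of H conjugate in G are conjugate in H. -/
theorem result {G : Type*} [Group G] [Finite G] (H : Subgroup G) (hH : H ≠ ⊤) (heven : Even (Nat.card H)) : Cfsg.IsStronglyEmbedded H ↔ ((∀ t ∈ H, orderOf t = 2 → Subgroup.centralizer ({t} : Set G) ≤ H) ∧ (∀ t ∈ H, ∀ s ∈ H, orderOf t = 2 → orderOf s = 2 → IsConj t s → ∃ h ∈ H, h * t * h⁻¹ = s)) := by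
  constructor
  · exact fun h => ⟨fun t ht e => SE.cen_le h e ht, fun t ht s hs e _ hc => by
      obtain ⟨g, rfl⟩ := isConj_iff.1 hc
      exact ⟨g, SE.mem h e ht hs, rfl⟩⟩
  · rintro ⟨h1, h2⟩
    refine se_iff.2 ⟨hH, exists_inv heven, fun g t e ht hg => ?_⟩
    obtain ⟨k, hk, e'⟩ := h2 t ht _ hg e ((ord_conj _ _).trans e) (isConj_iff.2 ⟨g, rfl⟩)
    refine (mul_mem_cancel_left (H.inv_mem hk)).1 (h1 t ht e (mem_cen1.2 ?_))
    calc _ = k⁻¹ * (g * t * g⁻¹) * g := by group
      _ = _ := by rw [← e']; group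

end Cfsg.Agent.S0223
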