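import Cfsg.Statements.S0224
import Cfsg.Agent.H1.Inv

set_option autoImplicit false
open Cfsg

namespace Cfsg.Agent.S0224

open H7 H1B Subgroup

/-- Let H be a proper subgroup of even order of the finite group G. Then H is strongly embedded if and only if each involution of H fixes exactly one point (namely the coset H) in the action of G on the cosets of H. -/
theorem result {G : Type*} [Group G] [Finite G] (H : Subgroup G) (hH : H ≠ ⊤) (heven : Even (Nat.card H)) : Cfsg.IsStronglyEmbedded H ↔ ∀ t ∈ H, orderOf t = 2 → Nat.card {c : G ⧸ H // t • c = c} = 1 := by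
  constructor
  · intro h t _ e
    obtain ⟨x, hx⟩ := SE.exists_fix h (ord2.1 e).1
    exact Nat.card_eq_one_iff_exists.2 ⟨⟨x, hx⟩, fun y => Subtype.ext (SE.fix_unique h e y.2 hx)⟩
  · intro h
    refine se_iff.2 ⟨hH, exists_inv heven, fun g t e ht hg => ?_⟩
    haveI := (Nat.card_eq_one_iff_unique.1 (h t ht e)).1
    have := Subsingleton.elim (⟨(g⁻¹ : G), smul_mk_eq_iff.2 (by simpa)⟩ : {c : G ⧸ H // t • c = c})
      ⟨(1 : G), smul_mk_eq_iff.2 (by simpa)⟩
    simpa using QuotientGroup.eq.1 (congrArg Subtype.val this)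

end Cfsg.Agent.S0224
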