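import Cfsg.Statements.S0647
import Cfsg.Agent.H2.ZJ

set_option autoImplicit false
open Cfsg

namespace Cfsg.Agent.S0647

open Subgroup H2 Cfsg.FusionSystem


/-- For a nonempty family of maximal abelian subgroups of a finite group, the intersection of the family is the centre of the subgroup it generates, which is also the full centralizer of that subgroup. -/
theorem result {S : Type*} [Group S] [Finite S] (𝒜 : Set (Subgroup S)) (hne : 𝒜.Nonempty) (hab : ∀ A ∈ 𝒜, IsMulCommutative A) (hmax : ∀ A ∈ 𝒜, ∀ B : Subgroup S, IsMulCommutative B → A ≤ B → B = A) : sInf 𝒜 = sSup 𝒜 ⊓ Subgroup.centralizer ((sSup 𝒜 : Subgroup S) : Set S) ∧ sInf 𝒜 = Subgroup.centralizer ((sSup 𝒜 : Subgroup S) : Set S) := by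
  have h : sInf 𝒜 = centralizer ((sSup 𝒜 : Subgroup S) : Set S) := by
    refine le_antisymm (H7.le_cen_sSup fun A hA => (sInf_le hA).trans (H7.isComm_iff.1 (hab A hA)))
      (le_sInf fun A hA x hx => ?_)
    rw [← hmax A hA (A ⊔ zpowers x) (H7.isComm_sup (hab A hA) (H7.isComm_zpowers x)
      (H7.le_cen_symm (zpowers_le.2 (H7.cen_anti (le_sSup hA) hx)))) le_sup_left]
    exact mem_sup_right (mem_zpowers x)
  obtain ⟨A, hA⟩ := hne
  exact ⟨le_antisymm (le_inf ((sInf_le hA).trans (le_sSup hA)) h.le) (inf_le_right.trans h.ge), h⟩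

end Cfsg.Agent.S0647
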