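import Cfsg.Statements.S0651
import Cfsg.Agent.H2.ZJ

set_option autoImplicit false
open Cfsg

namespace Cfsg.Agent.S0651

open Subgroup H2 Cfsg.FusionSystem

theorem mem_iff {S : Type*} [Group S] (D A : Subgroup S) :
    A ∈ (Set.image (fun A : Subgroup ↥D => A.map D.subtype) (maxAbelianSubgroups ↥D)) ↔ MX 0 D A := by
  rw [← maxIn_comm_iff]
  constructor
  · rintro ⟨B, hB, rfl⟩
    refine ⟨map_subtype_le B, (isMulCommutative_map_subtype B).1 hB.1, fun C hC hC' => ?_⟩
    rw [H7.card_map_subtype, ← card_subgroupOf hC]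
    exact hB.2 _ ((isMulCommutative_map_subtype _).2 (by rwa [H7.subgroupOf_map hC]))
  · intro h
    refine ⟨A.subgroupOf D, ⟨(isMulCommutative_map_subtype _).2 (by rw [H7.subgroupOf_map h.1]; exact h.2.1),
      fun C hC => ?_⟩, H7.subgroupOf_map h.1⟩
    rw [card_subgroupOf h.1, ← H7.card_map_subtype]
    exact h.2.2 _ (map_subtype_le C) ((isMulCommutative_map_subtype C).1 hC)

/-- For odd p and D normal in the p-group S, the abelian subgroups of D of largest order satisfy the replacement property: a class-2 normal subgroup B of S with a member containing [B, B] but not B normalizes some such member. -/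
theorem result {S : Type*} [Group S] [Finite S] {p : ℕ} [Fact p.Prime] (hS : IsPGroup p S) (hp : p ≠ 2) (D : Subgroup S) [D.Normal] : ∀ (B : Subgroup S) [B.Normal], ⁅⁅B, B⁆, B⁆ = ⊥ → (∃ U ∈ (Set.image (fun A : Subgroup ↥D => A.map D.subtype) (Cfsg.maxAbelianSubgroups ↥D)), ⁅B, B⁆ ≤ U ∧ ¬ B ≤ U) → ∃ A ∈ (Set.image (fun A : Subgroup ↥D => A.map D.subtype) (Cfsg.maxAbelianSubgroups ↥D)), ⁅B, B⁆ ≤ A ∧ ¬ B ≤ A ∧ B ≤ Subgroup.normalizer (A : Set S) := by
  intro B _ _ ⟨U, h1, h2, h3⟩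
  simp only [mem_iff] at h1 ⊢
  exact replacement (P := ⊤) (Or.inl hp) (Or.inl rfl) (hS.to_subgroup ⊤) le_top
    (H7.le_nrm_of_normal ⊤ D) le_top (H7.le_nrm_of_normal ⊤ B) h1 h2 h3

end Cfsg.Agent.S0651
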