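import Cfsg.Statements.S0654
import Cfsg.Agent.H2.FS18

set_option autoImplicit false
open Cfsg

namespace Cfsg.Agent.S0654

open Subgroup H2 Cfsg.FusionSystem


/-- The ZJ-Theorem for the elementary-abelian Thompson subgroup: for an odd prime p, a finite group G with C_G(O_p(G)) ≤ O_p(G) acting p-stably on its normal p-subgroups, and a Sylow p-subgroup S of G, the subgroup generated by the elements of order dividing p in Z(J_e(S)) is characteristic in G. -/
theorem result {G : Type*} [Group G] [Finite G] {p : ℕ} [Fact p.Prime] (hp : p ≠ 2) (hc : Subgroup.centralizer (Cfsg.pCore p G : Set G) ≤ Cfsg.pCore p G) (hst : ∀ (P : Subgroup G) [P.Normal], IsPGroup p P → Cfsg.IsPStableOn p P) (S : Sylow p G) : ((Cfsg.omegaCenterThompson p ↥(S : Subgroup G)).map (S : Subgroup G).subtype).Characteristic := by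
  have hS := sylow_isSylowIn_top S
  have e : (omegaCenterThompson p ↥(S : Subgroup G)).map (S : Subgroup G).subtype =
      H7.Om p (ZJ p (S : Subgroup G)) := by
    refine (H7.map_Om (S : Subgroup G).subtype_injective).trans (congrArg _ ?_)
    rw [map_inf_eq _ _ _ (S : Subgroup G).subtype_injective, H7.map_cen_subtype]
    exact le_antisymm (inf_le_inf_left _ inf_le_right)
      (le_inf inf_le_left (le_inf (inf_le_left.trans (thompsonE_le _)) inf_le_right))
  rw [e]
  exact (pf_OZ (p := p) (Or.inr rfl)).characteristic hS
    (ozj_normal hp (Or.inr rfl) hS (pst_of_stableOn hst) (chP_top.2 hc) le_rfl fun _ _ _ _ h => h)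

end Cfsg.Agent.S0654
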