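import Cfsg.Statements.S0655
import Cfsg.Agent.H2.FS18

set_option autoImplicit false
open Cfsg

namespace Cfsg.Agent.S0655

open Subgroup H2 Cfsg.FusionSystem


/-- In a p-group the intersection of all elementary abelian subgroups of largest order is the subgroup generated by the elements of order dividing p in the centre (equivalently the centralizer) of the elementary-version Thompson subgroup. -/
theorem result {S : Type*} [Group S] [Finite S] {p : ℕ} [Fact p.Prime] (hS : IsPGroup p S) : sInf (Cfsg.maxElementaryAbelianSubgroups p S) = Cfsg.omegaCenterThompson p S ∧ Cfsg.omegaCenterThompson p S = Cfsg.omegaOne p (Subgroup.centralizer (Cfsg.thompsonSubgroup p S : Set S)) := by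
  have e0 : maxElementaryAbelianSubgroups p S = {A | MX p ⊤ A} :=
    Set.ext fun A => ⟨fun h => ⟨le_top, h.1, fun B _ hB => h.2 B hB⟩,
      fun h => ⟨h.2.1, fun B hB => h.2.2 B le_top hB⟩⟩
  have e : thompsonSubgroup p S = JJ p ⊤ := by rw [thompsonE_eq, thompsonSubgroup, e0]
  have e1 : omegaCenterThompson p S = H7.Om p (ZJ p ⊤) := by rw [omegaCenterThompson, e]; rfl
  obtain ⟨A, hA⟩ := exists_mx (P := (⊤ : Subgroup S)) p
  have e2 := fI_mx' (Q := ⊤) ⟨A, hA, le_top⟩
  rw [fI_eq (fun _ _ => le_top), inf_idem] at e2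
  refine ⟨by rw [e0, e1, ← e2, sInf_eq_iInf], le_antisymm (H7.Om_mono inf_le_right) ?_⟩
  rw [e1, e]
  refine H7.Om_le_iff.2 fun x hx hx' => H7.mem_Om ⟨hA.le_J (hA.mem trivial
    (H7.cen_anti hA.le_J hx) hx'), hx⟩ hx'

end Cfsg.Agent.S0655
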