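import Cfsg.Statements.S1154
import Cfsg.Agent.H5.RE2
import Cfsg.Agent.H5.RE6

set_option autoImplicit false
open Cfsg

namespace Cfsg.Agent.S1154



/-- In the small Ree group ²G₂(q), q = 3^(2m+1) with m ≥ 1, realised as G¹ inside the Chevalley group G₂ over the field with q elements (θ the 3^m-th power map), with `U¹ = G¹ ∩ U` (U the positive unipotent subgroup of the ambient G₂): `U¹` has exactly `q² - 1` elements of order 3. -/
theorem result {K : Type*} [Field K] [Fintype K] {m : ℕ} (hm : 1 ≤ m) (hK : Fintype.card K = 3 ^ (2 * m + 1)) :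
    Nat.card {u : ↥(Cfsg.Lie.chevG2.posUnipotent K ⊓ Cfsg.Lie.twistedG2 K (3 ^ m)) // orderOf u = 3} = (3 ^ (2 * m + 1)) ^ 2 - 1 := by
  obtain ⟨R, hU, -, -⟩ := H5.Chev.exists_reeS hK
  have := R.finite
  have := Fact.mk Nat.prime_three
  have hU' : ∀ g : Cfsg.Lie.twistedG2 K (3 ^ m), g ∈ R.U ↔ g.1 ∈ Cfsg.Lie.chevG2.posUnipotent K := by
    rw [hU]; exact fun _ => Iff.rfl
  have key : ∀ g ∈ R.U, orderOf g = 3 ↔ g ∈ (R.Y : Set _) \ {1} := by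
    rintro _ ⟨a, b, c, rfl⟩
    rw [orderOf_eq_prime_iff, R.u_cube_eq_one]
    exact and_congr_left' ⟨by rintro rfl; exact R.y_mem _ _, fun ⟨_, _, h⟩ => (R.u_inj h).1⟩
  rw [← hK, ← R.card_Y, ← SetLike.coe_sort_coe R.Y, Nat.card_coe_set_eq,
    ← Set.ncard_sdiff_singleton_of_mem R.Y.one_mem, ← Nat.card_coe_set_eq]
  refine Nat.card_congr ⟨fun x => ⟨⟨x.1.1, x.1.2.2⟩, (key _ ((hU' _).2 x.1.2.1)).1 ?_⟩,
    fun y => ⟨⟨y.1.1, ⟨(hU' _).1 (R.Y_le_U y.2.1), y.1.2⟩⟩, ?_⟩, fun _ => rfl, fun _ => rfl⟩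
  · rw [Subgroup.orderOf_mk, Subgroup.orderOf_coe]; exact x.2
  · rw [← Subgroup.orderOf_coe]
    show orderOf (y.1.1 : GL _ K) = 3
    rw [Subgroup.orderOf_coe]
    exact (key _ (R.Y_le_U y.2.1)).2 y.2

end Cfsg.Agent.S1154
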