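import Cfsg.Statements.S1159
import Cfsg.Agent.H5.RE2
import Cfsg.Agent.H5.RE10

set_option autoImplicit false
open Cfsg

namespace Cfsg.Agent.S1159

open H5.Ree H5.Ree.ReeS

/-- In the small Ree group ²G₂(q), q = 3^(2m+1) with m ≥ 1, realised as G¹ inside the Chevalley group G₂ over the field with q elements (θ the 3^m-th power map), with `r = 3^(m+1)`: a natural number is the order of an element of `G¹` iff it divides one of `6`, `9`, `q - 1`, `(q + 1)/2`, `q - r + 1`, `q + r + 1`. -/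
theorem result {K : Type*} [Field K] [Fintype K] {m : ℕ} (hm : 1 ≤ m) (hK : Fintype.card K = 3 ^ (2 * m + 1)) (d : ℕ) :
    (∃ g : ↥(Cfsg.Lie.twistedG2 K (3 ^ m)), orderOf g = d) ↔
      (d ∣ 6 ∨ d ∣ 9 ∨ d ∣ 3 ^ (2 * m + 1) - 1 ∨ d ∣ (3 ^ (2 * m + 1) + 1) / 2 ∨
        d ∣ 3 ^ (2 * m + 1) - 3 ^ (m + 1) + 1 ∨ d ∣ 3 ^ (2 * m + 1) + 3 ^ (m + 1) + 1) := by
  obtain ⟨R⟩ := H5.Chev.ree hK
  have := R.finite
  obtain ⟨A, B, hA, hB, a, b, -, -, -, e⟩ := R.tori hm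
  have h1 : 2 * n4 K = (3 ^ (2 * m + 1) + 1) / 2 := by rw [← hK, ← R.n4_spec.1]; omega
  rw [← a, ← b, ← h1, ← hK, ← R.card_A1]
  constructor
  · rintro ⟨g, rfl⟩
    have := R.order_cases hm g
    have := e g
    tauto
  · have key : ∀ g : Cfsg.Lie.twistedG2 K (3 ^ m), d ∣ orderOf g →
        ∃ g : Cfsg.Lie.twistedG2 K (3 ^ m), orderOf g = d := fun g h =>
      (exists_prime_pow h).imp fun _ h => h.1
    have key2 : ∀ X : Subgroup (Cfsg.Lie.twistedG2 K (3 ^ m)), IsCyclic X → d ∣ Nat.card X →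
        ∃ g : Cfsg.Lie.twistedG2 K (3 ^ m), orderOf g = d := fun X hX h => by
      obtain ⟨g, hg⟩ := hX.exists_ofOrder_eq_natCard
      exact key g (by rwa [Subgroup.orderOf_coe, hg])
    rintro (h | h | h | h | h | h)
    · exact key _ (by rwa [(R.order_six_iff.2 ⟨(0, 1, 0), rfl⟩).2])
    · exact key (R.u 1 0 0) (by
        rwa [(R.order_nine_iff.2 ⟨R.u_mem _ _ _, fun ⟨_, _, h⟩ => one_ne_zero (R.u_inj h).1⟩).2])
    · exact key2 _ R.isCyclic_H (by rwa [R.card_T, ← R.card_A1])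
    · exact key2 _ R.isCyclic_R (by rwa [R.card_R])
    · exact key2 _ hA.cyc h
    · exact key2 _ hB.cyc h

end Cfsg.Agent.S1159
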