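import Cfsg.Statements.S1249
import Cfsg.Agent.H1.Inv2

set_option autoImplicit false
open Cfsg

namespace Cfsg.Agent.S1249

open H7 H1B Subgroup

/-- Let P and Q be Sylow p-subgroups of the finite group G both containing the subgroup A. If A is strongly closed in P, then A is strongly closed in Q. -/
theorem result {G : Type*} [Group G] [Finite G] {p : ℕ} [Fact p.Prime] (P Q : Sylow p G) (A : Subgroup G) (hAQ : A ≤ Q) (hA : Cfsg.IsStronglyClosed A (P : Subgroup G)) : Cfsg.IsStronglyClosed A (Q : Subgroup G) := by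
  obtain ⟨h, hh⟩ := H2.sylow_exists_cj_eq Q P
  have hn : h ∈ nrm A := by
    refine H2.mem_normalizer_of_conj_mem fun x hx => hA.2 x hx h ?_
    rw [← hh]; exact conj_mem_cj.2 (hAQ hx)
  refine ⟨hAQ, fun x hx g hg => ?_⟩
  have := hA.2 x hx (h * g) (by
    rw [← hh, show h * g * x * (h * g)⁻¹ = h * (g * x * g⁻¹) * h⁻¹ by group]; exact conj_mem_cj.2 hg)
  have := nconj_mem' hn this
  rwa [show h⁻¹ * (h * g * x * (h * g)⁻¹) * h = g * x * g⁻¹ by group] at this

end Cfsg.Agent.S1249
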