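import Cfsg.Statements.S1250
import Cfsg.Agent.H1.Inv2

set_option autoImplicit false
open Cfsg

namespace Cfsg.Agent.S1250

open H7 H1B Subgroup

/-- Let S be a Sylow p-subgroup of the finite group G, A ≤ S strongly closed in S, and N a normal subgroup. Then the image of A in G ⧸ N is strongly closed in the image of S (which is a Sylow p-subgroup of G ⧸ N). -/
theorem result {G : Type*} [Group G] [Finite G] {p : ℕ} [Fact p.Prime] (S : Sylow p G) (A : Subgroup G) (hA : Cfsg.IsStronglyClosed A (S : Subgroup G)) (N : Subgroup G) [N.Normal] : Cfsg.IsStronglyClosed (A.map (QuotientGroup.mk' N)) ((S : Subgroup G).map (QuotientGroup.mk' N)) := by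
  refine ⟨map_mono hA.1, ?_⟩
  rintro _ ⟨x, hx, rfl⟩ g hg
  obtain ⟨g, rfl⟩ := QuotientGroup.mk'_surjective N g
  rw [← map_inv, ← map_mul, ← map_mul] at hg ⊢
  have hy : g * x * g⁻¹ ∈ (S : Subgroup G) ⊔ N := by
    rw [← QuotientGroup.ker_mk' N, ← comap_map_eq]; exact hg
  have py : IsPGroup p (zpowers (g * x * g⁻¹)) := by
    rw [← H7.cj_zpowers, isPGroup_cj]
    exact S.isPGroup'.to_le (zpowers_le.2 (hA.1 hx))
  obtain ⟨h, hh, e⟩ := (H2.sylow_isSylowIn S le_sup_left).exists_cj_le py (zpowers_le.2 hy)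
  have e1 := e (conj_mem_cj.2 (mem_zpowers _))
  have e2 := hA.2 x hx (h * g) (by
    rwa [show h * g * x * (h * g)⁻¹ = h * (g * x * g⁻¹) * h⁻¹ by group])
  obtain ⟨s, hs, n, hn, rfl⟩ := (mem_sup_nrm (le_nrm_of_normal _ N)).1 hh
  have e3 := hA.2 _ e2 s⁻¹ (mul_mem (mul_mem (inv_mem hs) (hA.1 e2)) (inv_mem (inv_mem hs)))
  refine ⟨_, e3, ?_⟩
  have : QuotientGroup.mk' N n = 1 := (QuotientGroup.eq_one_iff n).2 hn
  simp only [map_mul, map_inv, this]
  group

end Cfsg.Agent.S1250
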