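import Cfsg.Statements.S1251
import Cfsg.Agent.H1.Inv2
import Cfsg.Agent.S1249

set_option autoImplicit false
open Cfsg

namespace Cfsg.Agent.S1251

open H7 H1B Subgroup
open scoped commutatorElement

/-- Let S be a Sylow 2-subgroup of the finite group G and A ≤ S strongly closed in S. If H is a subgroup normalized by A with no nontrivial normal subgroup of odd order and A ∩ H = 1, then A ≤ C_G(H). -/
theorem result {G : Type*} [Group G] [Finite G] (S : Sylow 2 G) (A : Subgroup G) (hA : Cfsg.IsStronglyClosed A (S : Subgroup G)) (H : Subgroup G) (hAH : A ≤ Subgroup.normalizer (H : Set G)) (hO : Cfsg.oddCore ↥H = ⊥) (hdisj : A ⊓ H = ⊥) : A ≤ Subgroup.centralizer (H : Set G) := by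
  have pA : IsPGroup 2 A := S.isPGroup'.to_le hA.1
  have hO' : Op' 2 H = ⊥ := pPrimeCore_eq_bot_iff.1 hO
  -- key: `a` is weakly closed
  have key : ∀ a ∈ A, ∀ h ∈ H, IsPGroup 2 (closure ({a, h * a * h⁻¹} : Set G)) → h * a * h⁻¹ = a := by
    intro a ha h hh hp
    obtain ⟨T, hT, hAT⟩ := exists_syl_ge pA (le_sup_left : A ≤ A ⊔ H)
    obtain ⟨Q, hQ⟩ := hT.isPGroup.exists_le_sylow
    have hs := Cfsg.Agent.S1249.result S Q A (hAT.trans hQ) hA
    obtain ⟨x, hx, e⟩ := hT.exists_cj_le hp ((closure_le _).2 (by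
      rintro _ (rfl | rfl)
      · exact mem_sup_left ha
      · exact mul_mem (mul_mem (mem_sup_right hh) (mem_sup_left ha)) (inv_mem (mem_sup_right hh))))
    have e1 := hs.2 a ha x (hQ (e (conj_mem_cj.2 (subset_closure (by simp)))))
    have e2 := hs.2 a ha (x * h) (by
      rw [show x * h * a * (x * h)⁻¹ = x * (h * a * h⁻¹) * x⁻¹ by group]
      exact hQ (e (conj_mem_cj.2 (subset_closure (by simp)))))
    have xn : x ∈ nrm H := sup_le hAH (le_nrm_self H) hx
    have m : x * (h * (a * h⁻¹ * a⁻¹)) * x⁻¹ ∈ A ⊓ H := by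
      refine ⟨?_, nconj_mem xn (mul_mem hh (nconj_mem (hAH ha) (inv_mem hh)))⟩
      rw [show x * (h * (a * h⁻¹ * a⁻¹)) * x⁻¹ = x * h * a * (x * h)⁻¹ * (x * a * x⁻¹)⁻¹ by group]
      exact A.mul_mem e2 (A.inv_mem e1)
    rw [hdisj, mem_bot] at m
    calc h * a * h⁻¹ = x⁻¹ * (x * (h * (a * h⁻¹ * a⁻¹)) * x⁻¹) * x * a := by group
      _ = a := by rw [m]; group
  have main : ∀ k, ∀ a ∈ A, a ^ 2 ^ k = 1 → a ∈ cen H := by
    intro k
    induction k with
    | zero => intro a _ h; rw [show a = 1 by simpa using h]; exact one_mem _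
    | succ k ih =>
      intro a ha h
      have h2 : a ^ 2 ∈ cen H := ih _ (pow_mem ha 2) (by rwa [← pow_mul, ← pow_succ'])
      obtain ⟨Z, hZ⟩ : ∃ Z, Z = zpowers (a ^ 2) := ⟨_, rfl⟩
      have ZA : Z ≤ A := by rw [hZ]; exact zpowers_le.2 (pow_mem ha 2)
      have HZ : H ≤ cen Z := by rw [hZ, cen_zpowers]; exact le_cen1_iff.2 h2
      have HN : H ≤ nrm Z := le_nrm_of_le_cen HZ
      have aN : a ∈ nrm Z := cen_le_nrm _ (by
        rw [hZ, cen_zpowers]; exact mem_cen1.2 ((Commute.refl a).pow_right 2))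
      have hk : H ⊓ kr (qm Z) = ⊥ := by
        rw [kr_qm, eq_bot_iff, ← hdisj]; exact le_inf (inf_le_right.trans ZA) inf_le_left
      have z1 := zstar_amb (K := im (qm Z) H) (t := ev (qm Z) a)
        (im_le_nrm _ (zpowers_le.2 (hAH ha)) (ev_mem_im (mem_zpowers a)))
        (by rw [← ev_pow aN, ev_eq_one_iff (pow_mem aN 2), kr_qm, hZ]; exact mem_zpowers _) (by
          intro g hg hc
          obtain ⟨h, hh, rfl⟩ := (mem_im_of_le HN).1 hg
          have bN : h * a * h⁻¹ ∈ nrm Z := mul_mem (mul_mem (HN hh) aN) (inv_mem (HN hh))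
          rw [← ev_conj (HN hh) aN] at hc ⊢
          rw [key a ha h hh ?_]
          have le : closure ({a, h * a * h⁻¹} : Set G) ≤ nrm Z := (closure_le _).2 (by
            rintro _ (rfl | rfl)
            exacts [aN, bN])
          refine isPGroup_of_im (f := qm Z) le ?_ (pA.to_le (by rw [kr_qm]; exact inf_le_right.trans ZA))
          rw [im_closure (subset_closure.trans le), Set.image_pair]
          have sa : ev (qm Z) a * ev (qm Z) a = 1 := by
            rw [← pow_two, ← ev_pow aN, ev_eq_one_iff (pow_mem aN 2), kr_qm, hZ]; exact mem_zpowers _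
          have sb : ev (qm Z) (h * a * h⁻¹) * ev (qm Z) (h * a * h⁻¹) = 1 := by
            rw [ev_conj (HN hh) aN, conj_mul, sa]; group
          refine dih_pgroup sa sb (k := 1) ?_
          rw [pow_one, hc.mul_pow, pow_two, pow_two, sa, sb, one_mul])
      rw [← im_Opi_of_inj _ HN hk, hO', ← im_zpowers aN, ← im_commutator HN (zpowers_le.2 aN),
        im_le_im_iff (comm_le_of_le HN (zpowers_le.2 aN)) bot_le, bot_sup_eq] at z1
      have : ⁅H, zpowers a⁆ = ⊥ := by
        rw [eq_bot_iff, ← hk]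
        exact le_inf (comm_le_left (zpowers_le.2 (hAH ha))) z1
      exact comm_eq_bot'.1 this (mem_zpowers a)
  intro a ha
  obtain ⟨k, hk⟩ := H7.isPGroup_iff_mem.1 pA a ha
  exact main k a ha hk

end Cfsg.Agent.S1251
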