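import Cfsg.Statements.S1292
import Cfsg.Agent.H7.Elem

set_option autoImplicit false
open Cfsg

namespace Cfsg.Agent.S1292
open H7
open scoped commutatorElement

/-- Let G be a finite group such that F*(C_G(t)) = O_2(C_G(t)) for every involution t. Then F*(N_G(T)) = O_2(N_G(T)) for every nontrivial 2-subgroup T of G. -/
theorem result {G : Type*} [Group G] [Finite G] (h : ∀ t : G, orderOf t = 2 → Cfsg.generalizedFittingSubgroup ↥(Subgroup.centralizer ({t} : Set G)) = Cfsg.pCore 2 ↥(Subgroup.centralizer ({t} : Set G))) (T : Subgroup G) (hT : IsPGroup 2 ↥T) (hT1 : T ≠ ⊥) : Cfsg.generalizedFittingSubgroup ↥(Subgroup.normalizer (T : Set G)) = Cfsg.pCore 2 ↥(Subgroup.normalizer (T : Set G)) := by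
  open Subgroup in
  rw [gfit_eq_pCore_iff]
  obtain ⟨z, hz, hz2⟩ := exists_orderOf_of_pgroup (hT.to_le inf_le_left)
    (pgroup_inf_cen_ne_bot' hT hT (le_nrm_self T) hT1)
  have h1 := Fst_cen_eq_Op (gfit_eq_pCore_iff.1 (h z hz2)) hT
    (nrm_cen1 (le_cen1_iff.2 hz.2))
  rw [inf_eq_right.2 (cen_le_cen1 hz.1)] at h1
  exact Fst_eq_Op_of_sub (.of_normal (cen_le_nrm T) (nrm_cen le_rfl)) h1
    (PLay_sup_le_cen hT (le_nrm_self T) le_rfl)

end Cfsg.Agent.S1292
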