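import Cfsg.Statements.S1322
import Cfsg.Agent.H7.Tk1

set_option autoImplicit false
open Cfsg

namespace Cfsg.Agent.S1322
open H7
open scoped commutatorElement

/-- Let G be finite with L_{2'}(G) = E(G), t an involution and L ≤ C_G(t) a component of C_G(t). Then there is a component D of G with: L = D; or L < D and D = ⁅D, ⟨t⟩⁆; or tDt⁻¹ ≠ D and L is the layer of C_{D ⊔ tDt⁻¹}(t). -/
theorem result {G : Type*} [Group G] [Finite G] (hL2 : Cfsg.pLayer 2 G = Cfsg.layer G) (t : G) (ht : orderOf t = 2) (L : Subgroup G) (hLt : L ≤ Subgroup.centralizer ({t} : Set G)) (hL : Cfsg.IsComponent (L.subgroupOf (Subgroup.centralizer ({t} : Set G)))) : ∃ D : Subgroup G, Cfsg.IsComponent D ∧ (L = D ∨ (L < D ∧ D = ⁅D, Subgroup.zpowers t⁆) ∨ (D.map (MulAut.conj t).toMonoidHom ≠ D ∧ L = (Cfsg.layer ↥((D ⊔ D.map (MulAut.conj t).toMonoidHom) ⊓ Subgroup.centralizer ({t} : Set G))).map ((D ⊔ D.map (MulAut.conj t).toMonoidHom) ⊓ Subgroup.centralizer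 ({t} : Set G)).subtype)) := by
  open Subgroup in
    rw [pLayer_eq, layer_eq] at hL2
    have hL := (isComponent_subgroupOf hLt).1 hL
    rw [← top_inf_eq (cen1 t)] at hL
    have h2 := sq_of_ord2 ht
    have n : t ∈ nrm (⊤ : Subgroup G) := le_nrm_self _ (mem_top t)
    obtain ⟨D, hD, h⟩ := comp_trich n h2 (hL.lay_of_bal1 ht (mem_top t) hL2.le)
    refine ⟨D, isComponent_iff.2 hD, h.imp_right (Or.imp (fun h => ⟨h.1, h.2.2⟩) fun h => ⟨h.1, ?_⟩)⟩
    rw [layer_map]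
    exact h.2.trans (Lay_Dg hD.qs (hD.le_cen_cj n h.1) h2).symm

end Cfsg.Agent.S1322
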