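import Cfsg.Statements.S1323
import Cfsg.Agent.H7.GK

set_option autoImplicit false
open Cfsg

namespace Cfsg.Agent.S1323
open H7
open scoped commutatorElement

section
open Subgroup

open Equiv Equiv.Perm Subgroup in
theorem cen_R {α : Type*} [Fintype α] [DecidableEq α] (s : Finset α) (hs : 4 ≤ s.card) :
    centralizer ((alternatingGroup.ofSubtype s).range : Set (alternatingGroup α)) = (alternatingGroup.ofSubtype sᶜ).range := by
  ext g
  rw [alternatingGroup.mem_range_ofSubtype_iff, mem_centralizer_iff]
  constructor
  · intro h x hx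
    rw [Finset.mem_compl]
    intro hxs
    rw [mem_support] at hx
    obtain ⟨y, hy, hy'⟩ := Finset.exists_mem_notMem_of_card_lt_card (s := {x, (g : Perm α) x}) (t := s)
      (Finset.card_le_two.trans_lt (by omega))
    obtain ⟨z, hz, hz'⟩ := Finset.exists_mem_notMem_of_card_lt_card (s := {x, (g : Perm α) x, y}) (t := s)
      (Finset.card_le_three.trans_lt (by omega))
    simp only [Finset.mem_insert, Finset.mem_singleton, not_or] at hy' hz'
    have h3 := isThreeCycle_swap_mul_swap_same (Ne.symm hy'.1) (Ne.symm hz'.1) (Ne.symm hz'.2.2)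
    have := h ⟨_, h3.mem_alternatingGroup⟩ ((alternatingGroup.mem_range_ofSubtype_iff _ _).2 (by
      intro w hw
      by_contra hws
      have a1 : w ≠ x := fun e => hws (e ▸ hxs)
      have a2 : w ≠ y := fun e => hws (e ▸ hy)
      have a3 : w ≠ z := fun e => hws (e ▸ hz)
      simp [swap_apply_of_ne_of_ne, a1, a2, a3] at hw))
    have e := congrArg (fun k : alternatingGroup α => (k : Perm α) x) this
    change swap x y (swap x z ((g : Perm α) x)) = (g : Perm α) (swap x y (swap x z x)) at e
    rw [swap_apply_left] at e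
    rw [swap_apply_of_ne_of_ne hx (Ne.symm hz'.2.1), swap_apply_of_ne_of_ne hx (Ne.symm hy'.2),
      swap_apply_of_ne_of_ne hz'.1 hz'.2.2] at e
    exact hz'.1 ((g : Perm α).injective e).symm
  · intro h k hk
    have hk' := (alternatingGroup.mem_range_ofSubtype_iff _ _).1 hk
    apply Subtype.ext
    refine (Disjoint.commute (disjoint_iff_disjoint_support.2 ?_)).eq
    exact Finset.disjoint_of_subset_left hk' (Finset.disjoint_of_subset_right h disjoint_compl_right)

end

/-- For n ≥ 9, the subgroup of the alternating group on Fin n fixing each of the points 0, 1, 2, 3 is a standard subgroup. -/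
theorem result (n : ℕ) (h4 : 4 ≤ n) (hn : 9 ≤ n) : Cfsg.IsStandardSubgroup (⨅ i : Fin 4, MulAction.stabilizer ↥(alternatingGroup (Fin n)) (Fin.castLE h4 i : Fin n)) := by
  open Subgroup in
  classical
  open Equiv Equiv.Perm Subgroup Pointwise in
  set D : Finset (Fin n) := Finset.univ.map (Fin.castLEEmb h4) with hD
  have cD : D.card = 4 := by simp [hD]
  have cD' : 5 ≤ Dᶜ.card := by rw [Finset.card_compl, cD, Fintype.card_fin]; omega
  have hL : (⨅ i : Fin 4, MulAction.stabilizer ↥(alternatingGroup (Fin n)) (Fin.castLE h4 i : Fin n)) =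
      (alternatingGroup.ofSubtype Dᶜ).range := by
    ext g
    rw [alternatingGroup.mem_range_ofSubtype_iff, mem_iInf]
    constructor
    · intro h x hx
      rw [Finset.mem_compl]
      intro hx'
      obtain ⟨i, -, rfl⟩ := Finset.mem_map.1 hx'
      exact mem_support.1 hx (h i)
    · intro h i
      by_contra h1
      exact Finset.mem_compl.1 (h (mem_support.2 h1)) (Finset.mem_map_of_mem _ (Finset.mem_univ i))
  rw [hL]
  have c1 := cen_R Dᶜ (by omega)
  rw [compl_compl] at c1
  have c2 := cen_R D cD.ge
  have hcj : ∀ (s : Finset (Fin n)) (g : alternatingGroup (Fin n)),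
      (alternatingGroup.ofSubtype s).range.map (MulAut.conj g).toMonoidHom = (alternatingGroup.ofSubtype (g • s)).range :=
    fun s g => alternatingGroup.conj_smul_range_ofSubtype s g
  haveI : Nontrivial D := Finite.one_lt_card_iff_nontrivial.1 (by rw [Nat.card_eq_finsetCard, cD]; norm_num)
  refine ⟨?_, ⟨?_, ?_⟩, ?_, ?_⟩
  · refine H7.isQuasisimple_of_equiv (MonoidHom.ofInjective alternatingGroup.ofSubtype_injective) ?_
    have h5 : 5 ≤ Nat.card (Dᶜ : Finset (Fin n)) := by rw [Nat.card_eq_finsetCard]; exact cD'
    haveI := alternatingGroup.isSimpleGroup h5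
    exact ⟨⟨commutator_alternatingGroup_eq_top h5⟩,
      ((QuotientGroup.quotientMulEquivOfEq (alternatingGroup.center_eq_bot (by omega))).trans QuotientGroup.quotientBot).isSimpleGroup⟩
  · rw [c1, ← Nat.card_congr (MonoidHom.ofInjective alternatingGroup.ofSubtype_injective).toEquiv]
    have := two_mul_nat_card_alternatingGroup (α := D)
    rw [Nat.card_perm, Nat.card_eq_finsetCard, cD] at this
    rw [show Nat.factorial 4 = 24 from rfl] at this
    exact ⟨6, by omega⟩
  · intro g hg
    rw [c1] at hg ⊢
    rw [hcj]
    have hne : g • D ≠ D := fun e => hg (H2.mem_normalizer_iff_cj.2 ((hcj D g).trans (by rw [e])))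
    have hlt : (D ∩ g • D).card < 4 := by
      rw [← cD]
      refine Finset.card_lt_card ⟨Finset.inter_subset_left, fun h => hne ?_⟩
      exact (Finset.eq_of_subset_of_card_le (h.trans Finset.inter_subset_right) (by rw [Finset.card_smul_finset])).symm
    haveI : Fact (Nat.Prime 3) := Nat.fact_prime_three
    have h3 : IsPGroup 3 ((alternatingGroup.ofSubtype D).range ⊓ (alternatingGroup.ofSubtype (g • D)).range : Subgroup _) := by
      rintro ⟨k, k1, k2⟩
      refine ⟨1, Subtype.ext (Subtype.ext ?_)⟩
      show (k : Perm (Fin n)) ^ 3 ^ 1 = 1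
      have := Finset.card_le_card (Finset.subset_inter ((alternatingGroup.mem_range_ofSubtype_iff _ _).1 k1)
        ((alternatingGroup.mem_range_ofSubtype_iff _ _).1 k2))
      have h1 : (k : Perm (Fin n)).support.card ≤ 1 ∨ (k : Perm (Fin n)).support.card = 2 ∨ (k : Perm (Fin n)).support.card = 3 := by omega
      rcases h1 with h1 | h1 | h1
      · rw [card_support_le_one.1 h1, one_pow]
      · have := (card_support_eq_two.1 h1).sign_eq
        rw [mem_alternatingGroup.1 k.2] at this
        exact absurd this (by decide)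
      · rw [pow_one, ← (card_support_eq_three_iff.1 h1).orderOf, pow_orderOf_eq_one]
    obtain ⟨m, hm⟩ := h3.exists_card_eq
    rw [hm]
    exact Odd.pow (by decide)
  · intro g _ h
    rw [commutator_comm, commutator_eq_bot_iff_le_centralizer, c1, hcj] at h
    have := card_le_of_le h
    rw [← Nat.card_congr (MonoidHom.ofInjective alternatingGroup.ofSubtype_injective).toEquiv,
      ← Nat.card_congr (MonoidHom.ofInjective alternatingGroup.ofSubtype_injective).toEquiv] at this
    have a1 := two_mul_nat_card_alternatingGroup (α := D)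
    haveI : Nontrivial (g • Dᶜ : Finset (Fin n)) := Finite.one_lt_card_iff_nontrivial.1 (by
      rw [Nat.card_eq_finsetCard, Finset.card_smul_finset]; omega)
    have a2 := two_mul_nat_card_alternatingGroup (α := (g • Dᶜ : Finset (Fin n)))
    rw [Nat.card_perm, Nat.card_eq_finsetCard, cD] at a1
    rw [Nat.card_perm, Nat.card_eq_finsetCard, Finset.card_smul_finset] at a2
    have a3 := Nat.factorial_le cD'
    rw [show Nat.factorial 4 = 24 from rfl] at a1
    rw [show Nat.factorial 5 = 120 from rfl] at a3
    omega
  · refine le_antisymm (H7.nrm_cen le_rfl) ?_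
    conv_rhs => rw [← c2, ← c1]
    exact H7.nrm_cen le_rfl

end Cfsg.Agent.S1323
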