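import Cfsg.Statements.S1339
import Cfsg.Agent.H2.TvQ
import Cfsg.Agent.H4.SLBasic

set_option autoImplicit false
open Cfsg

namespace Cfsg.Agent.S1339

open Subgroup hiding upperCentralSeries
open H2 Cfsg.FusionSystem

open Subgroup H2 H7 H1B

/-- Let F be a field with 2 elements, n ≥ 3, and t ∈ SL(n, F) a transvection (t = 1 + E_{ij}, i ≠ j). Then the generalized Fitting subgroup of C(t) is O_2(C(t)). -/
theorem result {F : Type*} [Field F] [Fintype F] [DecidableEq F] (hF : Fintype.card F = 2) (n : ℕ) (hn : 3 ≤ n) (i j : Fin n) (hij : i ≠ j) (t : Matrix.SpecialLinearGroup (Fin n) F) (ht : (t : Matrix (Fin n) (Fin n) F) = Matrix.transvection i j 1) : Cfsg.generalizedFittingSubgroup ↥(Subgroup.centralizer ({t} : Set (Matrix.SpecialLinearGroup (Fin n) F))) = Cfsg.pCore 2 ↥(Subgroup.centralizer ({t} : Set (Matrix.SpecialLinearGroup (Fin n) F))) := by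
  obtain rfl : t = tv hij := Subtype.ext ht
  have h2 : ∀ a : F, a = 0 ∨ a = 1 := fun a => by
    by_contra! c
    have := Finset.card_le_univ ({0, 1, a} : Finset F)
    rw [Finset.card_eq_three.2 ⟨0, 1, a, zero_ne_one, c.1.symm, c.2.symm, rfl⟩] at this
    omega
  obtain ⟨k, a, b⟩ := H4.exists_third (by simpa using hn) i j
  have s := lx_tv h2 hij a.symm b.symm
  exact gfit_eq_pCore_iff.2 (Fst_eq_Op_iff.2 (inf_le_right.trans ((cen_anti s.le_Op).trans
    (s.cQ.trans s.le_Op))))

end Cfsg.Agent.S1339
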