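import Cfsg.Statements.S1340
import Cfsg.Agent.H7.Comp
import Cfsg.Agent.H4.SLBasic
import Cfsg.Agent.H1.Fitting

set_option autoImplicit false
open Cfsg

namespace Cfsg.Agent.S1340

open Matrix

/-- block matrices -/
def bl {F : Type*} [Field F] {m : ℕ} : Matrix (Fin m) (Fin m) F × F →* Matrix (Fin (m + 1)) (Fin (m + 1)) F where
  toFun p := of (vecCons (vecCons p.2 0) fun i => vecCons 0 (p.1 i))
  map_one' := by
    ext i j; cases i using Fin.cases <;> cases j using Fin.cases <;> simp [one_apply, (Fin.succ_ne_zero _).symm]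
  map_mul' p q := by
    ext i j; cases i using Fin.cases <;> cases j using Fin.cases <;> simp [mul_apply, Fin.sum_univ_succ]

theorem bl_inj {F : Type*} [Field F] {m : ℕ} : Function.Injective (bl (F := F) (m := m)) := fun _ _ h =>
  Prod.ext (Matrix.ext fun i j => congrFun₂ h i.succ j.succ) (congrFun₂ h 0 0)

/-- Let F be a finite field of odd order and n ≥ 3 with (n, |F|) ≠ (3, 3). Then GL(n, F) has a non-central involution t such that C(t) / O(C(t)) has a component. -/
theorem result {F : Type*} [Field F] [Fintype F] [DecidableEq F] (hF : Odd (Fintype.card F)) (n : ℕ) (hn : 3 ≤ n) (h33 : ¬ (n = 3 ∧ Fintype.card F = 3)) : ∃ t : Matrix.GeneralLinearGroup (Fin n) F, orderOf t = 2 ∧ t ∉ Subgroup.center (Matrix.GeneralLinearGroup (Fin n) F) ∧ Cfsg.HasComponent (↥(Subgroup.centralizer ({t} : Set (Matrix.GeneralLinearGroup (Fin n) F))) ⧸ Cfsg.oddCore ↥(Subgroup.centralizer ({t} : Set (Matrix.GeneralLinearGroup (Fin n) F)))) := by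
  obtain ⟨m, rfl⟩ : ∃ m, n = m + 2 + 1 := ⟨n - 3, by omega⟩
  have h2 : (2 : F) ≠ 0 := Ring.two_ne_zero fun h => (Nat.not_even_iff_odd.2 hF) (FiniteField.even_card_iff_char_two.1 h |> Nat.even_iff.2)
  have n1 : (-1 : F) ≠ 1 := fun h => h2 (by linear_combination -h)
  have q : IsQuasisimple (SpecialLinearGroup (Fin (m + 2)) F) := by
    rcases m with _ | m
    · have : 4 ≤ Nat.card F := by
        have := Fintype.one_lt_card (α := F)
        obtain ⟨k, hk⟩ := hF
        rw [Nat.card_eq_fintype_card]; omega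
      obtain ⟨x, hx⟩ : IsCyclic Fˣ := inferInstance
      refine ⟨⟨SL2.commutator_eq_top x.ne_zero fun h => ?_⟩, ProjectiveSpecialLinearGroup.rank_two_simple this⟩
      grw [Nat.card_eq_card_units_add_one F, ← orderOf_eq_card_of_forall_mem_zpowers hx,
        orderOf_le_of_pow_eq_one zero_lt_two (Units.ext <| by simpa using h)] at this
      omega
    exact ⟨⟨H4.sl_commutator_eq_top (by simp)⟩, H4.psl_isSimpleGroup (by simp)⟩
  let t : GL (Fin (m + 2 + 1)) F := Units.map bl ⟨(1, -1), (1, -1), by simp, by simp⟩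
  let ι := (Units.map ((bl (F := F)).comp (.inl _ _))).comp (SpecialLinearGroup.toGL (n := Fin (m + 2)))
  have hι : ∀ S, ι S ∈ Subgroup.centralizer {t} := fun S => Subgroup.mem_centralizer_singleton_iff.2 (Units.ext (by
    show bl _ * bl _ = bl _ * bl _
    rw [← map_mul, ← map_mul]; simp))
  have s : ∀ g ∈ Subgroup.centralizer {t}, ∃ p, bl p = g.1 := fun g h => ⟨(g.1.submatrix Fin.succ Fin.succ, g.1 0 0), by
    have h : g.1 * bl (1, -1) = bl (1, -1) * g.1 := congrArg Units.val (Subgroup.mem_centralizer_singleton_iff.1 h)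
    ext i j
    have h := congrFun₂ h i j
    cases i using Fin.cases <;> cases j using Fin.cases <;> simp [bl, mul_apply, Fin.sum_univ_succ, one_apply] at h ⊢ <;> grind⟩
  let ρ := ι.codRestrict _ hι
  have N : ρ.range.Normal := ⟨by
    rintro _ ⟨S, rfl⟩ g
    obtain ⟨p, hp⟩ := s _ g.2
    obtain ⟨p', hp'⟩ := s _ g⁻¹.2
    have : p * p' = 1 := bl_inj (by rw [map_mul, hp, hp', map_one]; exact g.1.mul_inv)
    refine ⟨⟨p.1 * S.1 * p'.1, by rw [det_mul, det_mul, S.2, mul_one, ← det_mul, ← Prod.fst_mul, this]; simp⟩, Subtype.ext (Units.ext ?_)⟩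
    show bl _ = g.1.1 * bl _ * g⁻¹.1.1
    rw [← hp, ← hp', ← map_mul, ← map_mul]
    exact congrArg _ (Prod.ext rfl (by simpa using (congrArg Prod.snd this).symm))⟩
  refine ⟨t, orderOf_eq_prime (Units.ext ?_) fun h => n1 (congrArg (fun g : GL _ F => g.1 0 0) h), fun h => ?_,
    ρ.range.map (QuotientGroup.mk' _), (N.map _ (QuotientGroup.mk'_surjective _)).isSubnormal, H7.qs_iff.2 ?_⟩
  · show bl _ ^ 2 = 1
    rw [← map_pow, sq]
    exact (congrArg bl (Prod.ext (by simp) (by simp))).trans (map_one _)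
  · have := congrArg (fun g : GL _ F => g.1 0 1) (Subgroup.mem_center_iff.1 h (SpecialLinearGroup.toGL (.transvection (i := 0) (j := 1) (by simp) 1)))
    simp [t, bl, mul_apply, Fin.sum_univ_succ, SpecialLinearGroup.transvection] at this
    change transvection (0 : Fin (m + 2 + 1)) 1 (1 : F) 0 1 = -transvection (0 : Fin (m + 2 + 1)) 1 (1 : F) 0 1 at this
    exact n1 (by simpa [transvection] using this.symm)
  rw [MonoidHom.range_eq_map, Subgroup.map_map]
  refine (H7.qs_top_iff.2 q).map _ fun h => ?_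
  let d : SpecialLinearGroup (Fin (m + 2)) F := .diag2n (i := 0) (j := 1) (by simp) (-1) (by simp)
  have o : orderOf (ρ d) = 2 := orderOf_eq_prime (by
    rw [← map_pow, show d ^ 2 = 1 from Subtype.ext (by
      show diagonal _ ^ 2 = 1
      rw [sq, diagonal_mul_diagonal, ← diagonal_one]; congr 1; ext i; split_ifs <;> simp), map_one])
    fun h => n1 (by simpa [ρ, ι, d, bl, SpecialLinearGroup.diag2n_coe] using congrArg (fun g => g.1.1 (Fin.succ 0) (Fin.succ 0)) h)
  have := (QuotientGroup.eq_one_iff _).1 (Subgroup.mem_bot.1 (h.le ⟨d, trivial, rfl⟩))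
  exact absurd (Nat.Coprime.eq_one_of_dvd H1.coprime_pPrimeCore.symm (o ▸ Subgroup.orderOf_dvd_natCard _ this)) (by norm_num)

end Cfsg.Agent.S1340
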