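import Cfsg.Statements.S1349
import Cfsg.Agent.H7.Tk6
import Cfsg.Agent.H8.Dihedral

set_option autoImplicit false
open Cfsg

namespace Cfsg.Agent.S1349
open H7
open scoped commutatorElement

section
open Subgroup

variable {G : Type*} [Group G] [Finite G]

theorem eig {A B W U : Subgroup G} (hA : EA 2 A) (hB : B ≤ A) (i : B.relIndex A = 2) (nW : A ≤ nrm W) (nU : A ≤ nrm U)
    (hc : W ≤ cen U) (h : ¬ W ⊓ cen B ≤ U) : ∃ d ∈ W, d ∉ U ∧ A ≤ nrm (zpowers d ⊔ U : Subgroup G) := by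
  obtain ⟨w, hw, wU⟩ := SetLike.not_le_iff_exists.1 h
  obtain ⟨a, ha, e⟩ := exists_sup_zp hA.isPGroup hB (card_of_hyper hB i).le
  have a2 : a * a = 1 := by rw [← sq]; exact hA.pow ha
  have k : ∀ d ∈ W ⊓ cen B, a * d * a⁻¹ ∈ zpowers d ⊔ U → A ≤ nrm (zpowers d ⊔ U : Subgroup G) := fun d hd k => by
    rw [← e]
    refine sup_le (nrm_sup (le_nrm_of_le_cen (le_cen_symm (zpowers_le.2 hd.2))) (hB.trans nU)) (zpowers_le.2 (mem_nrm_of_cj_le ?_))
    rw [cj_sup, cj_zpowers, cj_of_mem_nrm (nU ha)]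
    exact sup_le (zpowers_le.2 k) le_sup_right
  have m : w⁻¹ * (a * w * a⁻¹) ∈ W ⊓ cen B := mul_mem (inv_mem hw) (conj_mem (nrm_inf nW (nrm_cen (hA.le_nrm hB))) ha hw)
  by_cases y : w⁻¹ * (a * w * a⁻¹) ∈ U
  · exact ⟨w, hw.1, wU, k w hw (by simpa using mul_mem_sup (mem_zpowers w) y)⟩
  · refine ⟨_, m.1, y, k _ m (mem_sup_left ?_)⟩
    have : a * (w⁻¹ * (a * w * a⁻¹)) * a⁻¹ = (w⁻¹ * (a * w * a⁻¹))⁻¹ := by
      calc _ = a * w⁻¹ * a⁻¹ * ((a * a) * w * (a * a)⁻¹) := by group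
        _ = _ := by rw [a2]; group
    rw [this]; exact inv_mem (mem_zpowers _)

theorem ab (d : ℕ) : ∀ U A : Subgroup G, IsMulCommutative U → (ord U).Coprime 2 → EA 2 A → ord A = 2 ^ d → A ≤ nrm U →
    A ⊓ cen U = ⊥ → ∃ (Ai : Fin d → Subgroup G) (Li : Fin d → Subgroup G) (n : Fin d → ℕ), (∀ i, Ai i ≤ A ∧ ord (Ai i) = 2 ∧ Li i ≤ U ∧
      Odd (n i) ∧ 3 ≤ n i ∧ Nonempty (↥(Ai i ⊔ Li i) ≃* DihedralGroup (n i))) ∧ (⨆ i, Ai i) = A ∧
      ∀ i j, i ≠ j → Ai i ⊔ Li i ≤ cen (Ai j ⊔ Li j : Subgroup G) := by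
  induction d with
  | zero => exact fun U A _ _ _ h _ _ => ⟨Fin.elim0, Fin.elim0, Fin.elim0, fun i => i.elim0, by
      rw [card_eq_one.1 h]; exact iSup_of_empty _, fun i => i.elim0⟩
  | succ d ih =>
  intro U A cU oU hA oA n hf
  have co := cop_of_pgroup hA.isPGroup oU n
  have A1 := ne_bot_of_pow_le oA.ge
  obtain ⟨a, ⟨ha, a1⟩, hm⟩ := Set.exists_max_image {a | a ∈ A ∧ a ≠ 1} (fun a => ord (U ⊓ cen1 a)) (Set.toFinite _) (exists_ne_one A1)
  have nU : ¬ U ≤ cen1 a := fun l => a1 (mem_bot.1 (hf.le ⟨ha, le_cen1_iff.1 l⟩))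
  have o := hA.orderOf ha a1
  have e : A ⊓ cen (U ⊓ cen1 a : Subgroup G) = zpowers a := by
    have l : zpowers a ≤ A ⊓ cen (U ⊓ cen1 a : Subgroup G) := zpowers_le.2 ⟨ha, le_cen1_iff.1 inf_le_right⟩
    refine (eq_of_le_of_card_le l ?_).symm
    rw [card_zpowers_eq, o]
    refine (hA.of_le inf_le_left).card_le_of_cyc (by_contra fun k => nU ((co.left inf_le_left).le_of_cen1
      (hA.of_le inf_le_left).comm k fun b hb b1 => ?_))
    exact (eq_of_le_of_card_le (le_inf inf_le_left (le_cen1_iff.2 hb.2)) (hm b ⟨hb.1, b1⟩)).ge.trans inf_le_right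
  have za := zpowers_le.2 ha
  have nV := nrm_commutator n (hA.le_nrm za)
  have lV := comm_le_left (za.trans n)
  obtain ⟨B, hB, i, k⟩ : ∃ B ≤ A, B.relIndex A = 2 ∧ ¬ ⁅U, zpowers a⁆ ⊓ cen B ≤ ⊥ := by
    by_contra! k
    exact nU (by rw [← cen_zpowers]; exact comm_eq_bot.1 (le_bot_iff.1 ((co.right lV nV).le_of_hyper hA A1 k)))
  obtain ⟨x, hx, x1⟩ := SetLike.not_le_iff_exists.1 k
  have i0 := comm_inf_cen_of_comm cU (za.trans n) (co.left za).cop
  have a2 : a * a = 1 := by rw [← sq]; exact hA.pow ha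
  have inv : a * x * a⁻¹ = x⁻¹ := by
    have m := conj_mem nV ha hx.1
    refine eq_inv_of_mul_eq_one_right (mem_bot.1 (i0.le ⟨mul_mem hx.1 m, ?_⟩))
    rw [cen_zpowers]; refine mem_cen1.2 ?_
    have c := isComm_iff'.1 cU _ (lV hx.1) _ (lV m)
    calc _ = (a * x * a⁻¹) * x * a := by rw [c]
      _ = a * (x * ((a * a)⁻¹ * a * x * (a * a) * a⁻¹)) := by group
      _ = _ := by rw [a2]; group
  have aB : a ∉ B := fun h => x1 (i0.le ⟨hx.1, cen_anti (zpowers_le.2 h) hx.2⟩)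
  have iB : B ⊓ zpowers a = ⊥ := by
    rw [inf_comm]; by_contra h; exact aB (le_of_card_p (by rw [card_zpowers_eq, o]) h (mem_zpowers a))
  have oB := card_of_hyper hB i
  obtain ⟨Ai, Li, m, h1, h2, h3⟩ := ih (U ⊓ cen1 a) B (isComm_of_le cU inf_le_left) (coprime_of_le inf_le_left oU) (hA.of_le hB)
    (by omega) (hB.trans (nrm_inf n (nrm_cen1 (hA.le_cen1 ha)))) (eq_bot_of_le (le_inf inf_le_left ((inf_le_inf_right _ hB).trans e.le)) iB)
  have ox := odd_iff_coprime.2 (coprime_orderOf (lV hx.1) oU)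
  have c : ∀ j, zpowers a ⊔ zpowers x ≤ cen (Ai j ⊔ Li j : Subgroup G) := fun j => sup_le
    (le_cen_sup (le_cen_mono hA.le_cen za ((h1 j).1.trans hB)) (zpowers_le.2 (le_cen1_iff.1 ((h1 j).2.2.1.trans inf_le_right))))
    (le_cen_sup (zpowers_le.2 (cen_anti (h1 j).1 hx.2)) (le_cen_of_comm cU (zpowers_le.2 (lV hx.1)) ((h1 j).2.2.1.trans inf_le_left)))
  refine ⟨Fin.cons (zpowers a) Ai, Fin.cons (zpowers x) Li, Fin.cons (orderOf x) m, fun i => Fin.cases ⟨za, by simp [o],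
    zpowers_le.2 (lV hx.1), ox, ?g1, H8.nonempty_equiv_dihedral a2 inv (fun h => ?g2) _ ?g3⟩ (fun i => ⟨(h1 i).1.trans hB, (h1 i).2.1,
    (h1 i).2.2.1.trans inf_le_left, (h1 i).2.2.2⟩) i, ?_, fun i j => Fin.cases (Fin.cases (fun h => absurd rfl h) (fun j _ => c j) j)
    (fun i => Fin.cases (fun _ => le_cen_symm (c i)) (fun j h => h3 i j fun e => h (congrArg _ e)) j) i⟩
  case g1 =>
    have : orderOf x ≠ 1 := fun e => x1 (orderOf_eq_one_iff.1 e)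
    obtain ⟨k, hk⟩ := ox
    change 3 ≤ orderOf x; omega
  case g2 => exact (Nat.not_even_iff_odd.2 ox) (even_iff_two_dvd.2 (o ▸ orderOf_dvd_of_mem_zpowers h))
  case g3 =>
    change _ = zpowers a ⊔ zpowers x
    rw [zpowers_eq_closure, zpowers_eq_closure, ← Subgroup.closure_union, Set.union_comm]; rfl
  refine le_antisymm (iSup_le fun i => Fin.cases za (fun i => (h1 i).1.trans hB) i) ?_
  rw [← eq_of_le_of_card_le (sup_le hB za) (by rw [card_sup_of_inf_eq_bot (hB.trans (hA.le_nrm za)) iB, card_zpowers_eq, o]; omega), ← h2]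
  exact sup_le (iSup_le fun i => le_iSup_of_le i.succ le_rfl) (le_iSup_of_le 0 le_rfl)

end

/-- Let G be finite, L ≤ G solvable of odd order, and A an elementary abelian 2-subgroup of order 2^d (d ≥ 1) normalizing L with C_A(L) = 1. Then there are subgroups A_1, …, A_d of A of order 2 generating A and subgroups L_1, …, L_d of L such that each A_i ⊔ L_i is dihedral of order 2 n_i with n_i odd and at least 3, and A_i ⊔ L_i commutes elementwise with A_j ⊔ L_j for i ≠ j. -/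
theorem result {G : Type*} [Group G] [Finite G] (L A : Subgroup G) (hLs : Group.IsSolvable ↥L) (hLodd : Odd (Nat.card ↥L)) (hA : Cfsg.IsElementaryAbelian 2 A) (d : ℕ) (hd : 1 ≤ d) (hAd : Nat.card ↥A = 2 ^ d) (hAL : A ≤ Subgroup.normalizer (L : Set G)) (hfaith : A ⊓ Subgroup.centralizer (L : Set G) = ⊥) : ∃ (Ai : Fin d → Subgroup G) (Li : Fin d → Subgroup G) (n : Fin d → ℕ), (∀ i, Ai i ≤ A ∧ Nat.card ↥(Ai i) = 2 ∧ Li i ≤ L ∧ Odd (n i) ∧ 3 ≤ n i ∧ Nonempty (↥(Ai i ⊔ Li i) ≃* DihedralGroup (n i))) ∧ (⨆ i, Ai i) = A ∧ ∀ i j, i ≠ j → ∀ x ∈ Ai i ⊔ Li i, ∀ y ∈ Ai j ⊔ Li j, x * y = y * x := by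
  open Subgroup in
  have oL := odd_iff_coprime.1 hLodd
  have nF := nrm_Fit hAL
  have oF := coprime_of_le (Fit_le L) oL
  obtain ⟨U, ⟨u1, u2, u3⟩, hm⟩ := Set.exists_max_image {U : Subgroup G | U ≤ Fit L ∧ IsMulCommutative U ∧ A ≤ normalizer (U : Set G)}
    (fun U => Nat.card U) (Set.toFinite _) ⟨⊥, bot_le, isComm_bot, le_nrm_bot _⟩
  have sc : Fit L ⊓ centralizer (U : Set G) ≤ U := by
    have n := nrm_inf nF (nrm_cen u3)
    refine (cop_of_pgroup (EA.isPGroup hA) (coprime_of_le inf_le_left oF) n).le_of_hyper hA (ne_bot_of_pow_le (n := 0)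
      (hAd ▸ Nat.pow_le_pow_right two_pos hd)) fun B hB i => by_contra fun k => ?_
    obtain ⟨x, hx, xU, h⟩ := eig hA hB i n u3 inf_le_right k
    exact xU ((eq_of_le_of_card_le le_sup_right (hm _ ⟨sup_le (zpowers_le.2 hx.1) u1, isComm_sup (isComm_zpowers x) u2
      (zpowers_le.2 hx.2), h⟩)).ge (mem_sup_left (mem_zpowers x)))
  have pA : IsPGroup 2 (A ⊓ centralizer (U : Set G) : Subgroup G) := (EA.isPGroup hA).to_le inf_le_left
  have l : U ≤ Fit L ⊓ centralizer ((A ⊓ centralizer (U : Set G) : Subgroup G) : Set G) := le_inf u1 (le_cen_symm inf_le_right)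
  have c := cen_of_self_cen (nilp_Fit L) (inf_le_left.trans nF) (coprime_of_isPGroup pA oF).symm
    (((inf_le_inf_left _ (cen_anti l)).trans sc).trans l)
  have c2 := cen_of_chain (coprime_of_isPGroup pA oF).symm ((le_inf (comm_le_left (inf_le_left.trans hAL))
    (comm_le_of_le_nrm c (nrm_cen (le_nrm_Fit L)))).trans (cen_Fit_le hLs)) c
  obtain ⟨Ai, Li, n, h1, h2, h3⟩ := ab d U A u2 (coprime_of_le u1 oF) hA hAd u3 (eq_bot_of_le (le_inf inf_le_left c2) hfaith)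
  exact ⟨Ai, Li, n, fun i => ⟨(h1 i).1, (h1 i).2.1, (h1 i).2.2.1.trans (u1.trans (Fit_le L)), (h1 i).2.2.2⟩, h2,
    fun i j h => le_cen_iff.1 (h3 i j h)⟩

end Cfsg.Agent.S1349
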