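import Cfsg.Statements.S1910
import Cfsg.Agent.H7.Tk6

set_option autoImplicit false
open Cfsg

namespace Cfsg.Agent.S1910
open H7
open scoped commutatorElement

/-- Let Q be a tightly embedded subgroup of a finite group G, g an element outside N_G(Q), T a nontrivial Sylow 2-subgroup of Q^g ∩ N_G(Q), and S a Sylow 2-subgroup of QT containing T. Then T ∩ Q = 1, and N_S(T) is the direct product of T and N_S(T) ∩ Q, with N_S(T) ∩ Q isomorphic to T. -/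
theorem result {G : Type*} [Group G] [Finite G] (Q : Subgroup G) (hQ : Cfsg.IsTightlyEmbedded Q)
    (g : G) (hg : g ∉ Subgroup.normalizer (Q : Set G))
    (T : Subgroup G) (hT1 : T ≠ ⊥) (hT : T ≤ Q.map (MulAut.conj g).toMonoidHom ⊓ Subgroup.normalizer (Q : Set G))
    (hTsyl : IsPGroup 2 T ∧ ¬ 2 ∣ T.relIndex (Q.map (MulAut.conj g).toMonoidHom ⊓ Subgroup.normalizer (Q : Set G)))
    (S : Subgroup G) (hTS : T ≤ S) (hS : S ≤ Q ⊔ T) (hSsyl : IsPGroup 2 S ∧ ¬ 2 ∣ S.relIndex (Q ⊔ T)) :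
    T ⊓ Q = ⊥ ∧
      T ⊓ (S ⊓ Subgroup.normalizer (T : Set G) ⊓ Q) = ⊥ ∧
      ⁅T, S ⊓ Subgroup.normalizer (T : Set G) ⊓ Q⁆ = ⊥ ∧
      T ⊔ (S ⊓ Subgroup.normalizer (T : Set G) ⊓ Q) = S ⊓ Subgroup.normalizer (T : Set G) ∧
      Nonempty (↥(S ⊓ Subgroup.normalizer (T : Set G) ⊓ Q) ≃* T) := by
  open Subgroup in
  rw [← cj_def] at hT hTsyl
  have ne : H2.cj g Q ≠ Q := fun e => hg (cj_eq_self_iff.1 e)
  have sS : H2.IsSylowIn 2 S (Q ⊔ T) := ⟨hS, hSsyl.1, hSsyl.2⟩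
  obtain ⟨a, b, c, d, φ, hφ⟩ := te_emb hQ ne hT1 hT sS hTS
  refine ⟨a, eq_bot_of_le (inf_le_inf_left _ inf_le_right) a, b, c, ⟨(MulEquiv.ofBijective φ
    ((Nat.bijective_iff_injective_and_card φ).2 ⟨hφ, le_antisymm (Nat.card_le_card_of_injective φ hφ) ?_⟩)).symm⟩⟩
  have R1 : S ⊓ normalizer (T : Set G) ⊓ Q ≠ ⊥ := fun e => hT1 (by
    have := Nat.card_le_card_of_injective φ hφ
    rw [e, card_bot] at this
    exact card_le_one_iff_eq_bot _ |>.1 this)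
  have pR : IsPGroup 2 (S ⊓ normalizer (T : Set G) ⊓ Q : Subgroup G) := hSsyl.1.to_le (inf_le_left.trans inf_le_left)
  have lR : S ⊓ normalizer (T : Set G) ⊓ Q ≤ Q := inf_le_right
  generalize S ⊓ normalizer (T : Set G) ⊓ Q = R at *
  obtain ⟨U, hU, l⟩ := H2.exists_isSylowIn_ge pR (le_sup_right : R ≤ H2.cj g Q ⊔ R)
  obtain ⟨-, -, -, d', ψ, hψ⟩ := te_emb (g := g⁻¹) (te_cj hQ g) (by rw [cj_inv_cj]; exact ne.symm) R1
    (by rw [cj_inv_cj]; exact le_inf lR d) hU l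
  rw [cj_inv_cj] at d'
  exact (Nat.card_le_card_of_injective ψ hψ).trans (H2.IsSylowIn.card_le ⟨hT, hTsyl.1, hTsyl.2⟩
    (hU.isPGroup.to_le (inf_le_left.trans inf_le_left)) (le_inf inf_le_right d'))

end Cfsg.Agent.S1910
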