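import Cfsg.Statements.S1921
import Cfsg.Agent.H7.Tk1

set_option autoImplicit false
open Cfsg

namespace Cfsg.Agent.S1921
open H7
open scoped commutatorElement

/-- Let a be an involution of a finite group H and L a component of H with a L a⁻¹ ≠ L; put M = ⟨L, aLa⁻¹⟩ and let J be the subgroup generated by the elements x · a x a⁻¹ with x ∈ L (the diagonal). Then every element of M outside J·Z(M) generates M together with J. -/
theorem result {H : Type*} [Group H] [Finite H] (a : H) (ha : orderOf a = 2) (L : Subgroup H) (hL : Cfsg.IsComponent L)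
    (hLa : L.map (MulAut.conj a).toMonoidHom ≠ L) (x : H) (hxM : x ∈ L ⊔ L.map (MulAut.conj a).toMonoidHom)
    (hxJ : x ∉ Subgroup.closure {y : H | ∃ l ∈ L, y = l * (a * l * a⁻¹)} ⊔
      ((L ⊔ L.map (MulAut.conj a).toMonoidHom) ⊓ Subgroup.centralizer ((L ⊔ L.map (MulAut.conj a).toMonoidHom : Subgroup H) : Set H))) :
    Subgroup.closure {y : H | ∃ l ∈ L, y = l * (a * l * a⁻¹)} ⊔ Subgroup.zpowers x = L ⊔ L.map (MulAut.conj a).toMonoidHom := by
  open Subgroup in
    have hL := isComponent_iff.1 hL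
    have k : L ≤ cen (H2.cj a L) := hL.le_cen_cj (le_nrm_self _ (mem_top a)) hLa
    change Dg a L ⊔ zpowers x = L ⊔ H2.cj a L
    change x ∉ Dg a L ⊔ (L ⊔ H2.cj a L) ⊓ cen (L ⊔ H2.cj a L : Subgroup H) at hxJ
    set W := Dg a L ⊔ zpowers x
    obtain ⟨d, hd, _, he', rfl⟩ := (mem_sup_nrm (le_nrm_of_le_cen k)).1 hxM
    obtain ⟨e, he, rfl⟩ := mem_cj'.1 he'
    have e1 : d * (a * e * a⁻¹) = d * e⁻¹ * (e * (a * e * a⁻¹)) := by group
    have m : d * e⁻¹ ∈ L := mul_mem hd (inv_mem he)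
    have mW : d * e⁻¹ ∈ W := by
      rw [show d * e⁻¹ = d * (a * e * a⁻¹) * (e * (a * e * a⁻¹))⁻¹ by group]
      exact mul_mem (mem_sup_right (mem_zpowers _)) (inv_mem (mem_sup_left (mk_mem_Dg he)))
    have n : L ≤ nrm (L ⊓ W : Subgroup H) := le_nrm_iff_conj.2 fun l hl w hw => ⟨conj_mem (le_nrm_self L) hl hw.1, by
      have c := comm_of_le_cen k hw.1 (conj_mem_cj.2 hl : a * l * a⁻¹ ∈ H2.cj a L)
      have : l * w * l⁻¹ = (l * (a * l * a⁻¹)) * w * (l * (a * l * a⁻¹))⁻¹ := by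
        rw [mul_assoc l _ w, ← c]; group
      rw [this]
      exact conj_mem (le_nrm_self W) (mem_sup_left (mk_mem_Dg hl)) hw.2⟩
    have l1 : L ≤ W := ((hL.qs.normal _ inf_le_left n).resolve_left fun c => hxJ (by
      rw [e1, sup_comm]
      exact mul_mem_sup ⟨mem_sup_left m, le_cen_sup c (inf_le_left.trans k) ⟨m, mW⟩⟩ (mk_mem_Dg he))).ge.trans
        inf_le_right
    refine le_antisymm (sup_le (Dg_le a L) (zpowers_le.2 hxM)) (sup_le l1 fun y hy => ?_)
    obtain ⟨l, hl, rfl⟩ := mem_cj'.1 hy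
    simpa using mul_mem (inv_mem (l1 hl)) (mem_sup_left (mk_mem_Dg (a := a) hl) : _ ∈ W)

end Cfsg.Agent.S1921
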