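import Cfsg.Statements.S1922
import Cfsg.Agent.H7.Tk6

set_option autoImplicit false
open Cfsg

namespace Cfsg.Agent.S1922
open H7
open scoped commutatorElement

section
open Subgroup

theorem par {α : Type*} [Finite α] (f : α → α) (h : ∀ a, f (f a) = a) :
    Nat.card α ≡ Nat.card {a // f a = a} [MOD 2] := by
  classical
  haveI := Fintype.ofFinite α
  rw [Nat.card_eq_fintype_card, Nat.card_eq_fintype_card]
  exact Equiv.Perm.card_fixedPoints_modEq (p := 2) (n := 1) (f := f) (funext h)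

end

/-- Let z be an involution of a finite group G and H a proper subgroup such that z lies in gHg⁻¹ exactly when g ∈ H. Then the following are equivalent: (1) for every conjugate t ≠ z of z commuting with z, the product zt lies in gHg⁻¹ exactly when g ∈ H; (2) z lies in the centre of some Sylow 2-subgroup of G, and for every conjugate t ≠ z of z commuting with z, the centralizer of zt is contained in H. -/
theorem result {G : Type*} [Group G] [Finite G] (z : G) (hz : orderOf z = 2) (H : Subgroup G) (hH : H ≠ ⊤)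
    (h0 : ∀ g : G, z ∈ H.map (MulAut.conj g).toMonoidHom ↔ g ∈ H) :
    (∀ t : G, IsConj z t → t ≠ z → t * z = z * t → ∀ g : G, z * t ∈ H.map (MulAut.conj g).toMonoidHom ↔ g ∈ H) ↔
      ((∃ P : Sylow 2 G, z ∈ (Subgroup.center ↥(P : Subgroup G)).map (P : Subgroup G).subtype) ∧
        ∀ t : G, IsConj z t → t ≠ z → t * z = z * t → Subgroup.centralizer ({z * t} : Set G) ≤ H) := by
  open Subgroup in
  simp only [← cj_def, mem_cj] at h0 ⊢
  have z2 := sq_of_ord2 hz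
  have zH : z ∈ H := by simpa using (h0 1).2 H.one_mem
  have oi : ¬ 2 ∣ H.index := by
    have := par (fun t : G ⧸ H => z • t) fun t => by rw [← mul_smul, z2, one_smul]
    rw [← index_eq_card, Nat.card_eq_one_iff_exists.2 ⟨⟨((1 : G) : G ⧸ H), H1B.smul_mk_eq_iff.2 (by simpa using zH)⟩, fun ⟨t, ht⟩ =>
      Subtype.ext (by change t = _; rw [← QuotientGroup.out_eq' t, QuotientGroup.eq]; simpa using (h0 _).1 (smul_eq_iff_out.1 ht))⟩] at this
    unfold Nat.ModEq at this; omega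
  obtain ⟨S, hS⟩ := H2.exists_isSylowIn 2 H
  have sS := hS.trans le_top (by rwa [relIndex_top_right])
  refine ⟨fun h => ⟨?_, fun t a b c x hx => (h t a b c x).1 ?_⟩, fun ⟨⟨P, hP⟩, h⟩ t a b c g => ⟨fun k => ?_, fun k => ?_⟩⟩
  rotate_left
  · rw [mul_assoc, ← mem_cen1.1 hx, inv_mul_cancel_left]; simpa using (h t a b c 1).2 H.one_mem
  · rw [center_map_subtype] at hP
    have o : (z * t) ^ 2 ^ 1 = 1 := by
      have := sq_of_ord2 ((H1B.ord_isConj a).trans hz)
      calc _ = z * (t * z) * t := by simp [sq, mul_assoc]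
        _ = (z * z) * (t * t) := by rw [c]; group
        _ = 1 := by simp [z2, this]
    obtain ⟨m, hm, l⟩ := hS.exists_cj_le (isPGroup_cj (g := g⁻¹).2 (isPGroup_zpowers o)) (by rw [cj_zpowers, inv_inv]; exact zpowers_le.2 k)
    obtain ⟨x, -, e⟩ := sS.exists_cj_eq (H2.sylow_isSylowIn_top P)
    rw [← e, ← cj_cen, ← cj_inf, mem_cj] at hP
    have xH := (h0 x).1 (hS.le hP.1)
    rw [← cj_mul] at l
    have := mem_cen.1 hP.2 _ (l (conj_mem_cj.2 (mem_zpowers _)))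
    have k2 : (x * m * g⁻¹)⁻¹ * z * (x * m * g⁻¹) ∈ H := h t a b c (mem_cen1.2 (by
      calc _ = (m * g⁻¹)⁻¹ * (x⁻¹ * z * x * (m * g⁻¹ * (z * t) * (m * g⁻¹)⁻¹)) * (m * g⁻¹) := by group
        _ = _ := by rw [← this]; group))
    simpa [mul_assoc] using H.mul_mem (H.inv_mem ((h0 _).1 k2)) (H.mul_mem xH hm)
  · exact H.mul_mem (H.mul_mem (H.inv_mem k) (h t a b c (self_mem_cen1 _))) k
  have U : ∀ s t, IsConj z s → IsConj z t → s ≠ t → s * t = t * s → ∀ a b : G ⧸ H, (s * t) • a = a → (s * t) • b = b → a = b := by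
    intro s t hs ht ne c a b ha hb
    obtain ⟨x, rfl⟩ := isConj_iff.1 hs
    have k := fun (a : G ⧸ H) (ha : (x * z * x⁻¹ * t) • a = a) => (h (x⁻¹ * t * x) (ht.trans (isConj_iff.2 ⟨x⁻¹, by simp⟩))
      (fun e => ne (by rw [← e]; group)) (by
        calc _ = x⁻¹ * (t * (x * z * x⁻¹)) * x := by group
          _ = _ := by rw [← c]; group) (x⁻¹ * a.out)).1 (by convert smul_eq_iff_out.1 ha using 1; group)
    rw [← QuotientGroup.out_eq' a, ← QuotientGroup.out_eq' b, QuotientGroup.eq]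
    convert H.mul_mem (H.inv_mem (k a ha)) (k b hb) using 1; group
  have V : ∀ s, IsConj z s → ∀ a b : G ⧸ H, s • a = a → s • b = b → a = b := by
    intro s hs a b ha hb
    obtain ⟨x, rfl⟩ := isConj_iff.1 hs
    have k := fun (a : G ⧸ H) (ha : (x * z * x⁻¹) • a = a) => (h0 (x⁻¹ * a.out)).1 (by convert smul_eq_iff_out.1 ha using 1; group)
    rw [← QuotientGroup.out_eq' a, ← QuotientGroup.out_eq' b, QuotientGroup.eq]
    convert H.mul_mem (H.inv_mem (k a ha)) (k b hb) using 1; group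
  have s2 : ∀ s, IsConj z s → s * s = 1 := fun s a => sq_of_ord2 ((H1B.ord_isConj a).trans hz)
  have W : ∀ s t, IsConj z s → IsConj z t → ∀ a b : G ⧸ H, a ≠ b → Even (orderOf (s * t)) →
      ¬ (∀ w, Commute w s → Commute w t → w ∈ zpowers (s * t) → w • a = a ∧ w • b = b) := fun s t hs ht a b ne e k => by
    obtain ⟨o, c1, c2⟩ := H1B.dih_z (s2 s hs) (s2 t ht) e
    obtain ⟨k1, k2⟩ := k _ c1 c2 (pow_mem (mem_zpowers _) _)
    have f : ∀ n, IsConj z (s * (s * t) ^ n) := fun n => by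
      rcases Nat.even_or_odd' n with ⟨n, rfl | rfl⟩
      · obtain ⟨d, -, e⟩ := (H1B.dih_conj_iff (s2 s hs) (s2 t ht)).2 ⟨n, rfl⟩
        exact hs.trans (isConj_iff.2 ⟨d, e.trans (by norm_cast)⟩)
      · refine ht.trans (isConj_iff.2 ⟨((s * t) ^ n)⁻¹, ?_⟩)
        have := H1B.inverts_pow (s := t) (x := s * t) (by rw [mul_inv_rev, inv_of_sq (s2 s hs)]; simp [mul_assoc, inv_of_sq (s2 t ht), s2 t ht]) n
        rw [inv_inv, ← this, two_mul, pow_succ', pow_add, ← mul_assoc s, ← mul_assoc s, s2 s hs, one_mul]; group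
    have := f (orderOf (s * t) / 2)
    generalize (s * t) ^ (orderOf (s * t) / 2) = w at *
    have e : s * (s * w) = w := by rw [← mul_assoc, s2 s hs, one_mul]
    exact ne (U s _ hs this (fun k => ne_one_of_orderOf o (by simpa using k)) (by rw [e, mul_assoc, c1.eq, e]) a b (by rwa [e]) (by rwa [e]))
  have fx : ∀ s, IsConj z s → ∀ a : G ⧸ H, s • a = a → ∀ w, Commute w s → w • a = a := fun s hs a ha w c =>
    V s hs _ _ (by rw [← mul_smul, ← c.eq, mul_smul, ha]) ha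
  have od : ∀ s t, IsConj z s → IsConj z t → ∀ a b : G ⧸ H, a ≠ b → s • a = a → t • b = b → Odd (orderOf (s * t)) :=
    fun s t hs ht a b ne ha hb => Nat.not_even_iff_odd.1 fun e => W s t hs ht a b ne e fun w c1 c2 _ => ⟨fx s hs a ha w c1, fx t ht b hb w c2⟩
  obtain ⟨g, hg⟩ : ∃ g, g ∉ H := by by_contra! k; exact hH (eq_top_iff.2 fun x _ => k x)
  have za : z • ((1 : G) : G ⧸ H) = (1 : G) := H1B.smul_mk_eq_iff.2 (by simpa using zH)
  have ne : ((1 : G) : G ⧸ H) ≠ g⁻¹ := fun e => hg (by simpa using QuotientGroup.eq.1 e)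
  have zb : (g⁻¹ * z * g) • ((g⁻¹ : G) : G ⧸ H) = (g⁻¹ : G) := H1B.smul_mk_eq_iff.2 (by simpa [mul_assoc] using zH)
  have lb : ∀ x : G, x • ((g⁻¹ : G) : G ⧸ H) = (g⁻¹ : G) ↔ x ∈ H2.cj g⁻¹ H := fun x => H1B.smul_mk_eq_iff.trans mem_cj.symm
  generalize ((1 : G) : G ⧸ H) = a at *
  generalize ((g⁻¹ : G) : G ⧸ H) = b at *
  have sw : ∀ i, IsConj z i → i • a = b → i • b = a := fun i hi e => by rw [← e, ← mul_smul, s2 i hi, one_smul]
  let F : {i // IsConj z i ∧ i • a = b} → {s // IsConj z s ∧ s • b = b} := fun i => ⟨i * z * (i : G)⁻¹, isConj_iff.2 ⟨i, rfl⟩, by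
    rw [inv_of_sq (s2 _ i.2.1), mul_smul, mul_smul, sw _ i.2.1 i.2.2, za, i.2.2]⟩
  have sF : Function.Surjective F := fun ⟨s, hs, sb⟩ => by
    have o := od z s (IsConj.refl z) hs a b ne za sb
    obtain ⟨c, hc, e⟩ := H1B.dih_odd_conj z2 (s2 s hs) o
    have i := H1B.inverts_mem (by simpa only [zpow_one] using H1B.dih_conj z2 (s2 s hs) 1) hc
    have e2 : z * c * z * (z * c)⁻¹ = s := by
      calc _ = z * c * z⁻¹ * (z * z) * c⁻¹ * z⁻¹ := by group
        _ = c⁻¹ * z * (z⁻¹ * c⁻¹ * z⁻¹) := by rw [i, z2]; group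
        _ = c⁻¹ * z * (z * c * z⁻¹)⁻¹ := by rw [inv_of_sq z2]; simp [mul_assoc, inv_of_sq z2]
        _ = s := by rw [i, ← e]; group
    have hi : IsConj z (z * c) := H1B.isConj_of_odd z2 (by
      calc _ = z * c * z⁻¹ * (z * z) * c := by group
        _ = 1 := by rw [i, z2]; group) (by rw [← mul_assoc, z2, one_mul]; exact o.of_dvd_nat (orderOf_dvd_of_mem_zpowers hc))
    exact ⟨⟨z * c, hi, V s hs _ _ (by rw [← e2, ← mul_smul, inv_mul_cancel_right, mul_smul, za]) sb⟩, Subtype.ext e2⟩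
  have iF : Function.Injective F := fun ⟨i, hi, ia⟩ ⟨j, hj, ja⟩ e => Subtype.ext (by
    have e : i * z * i⁻¹ = j * z * j⁻¹ := congrArg Subtype.val e
    have o : Odd (orderOf (j * i)) := Nat.not_even_iff_odd.1 fun e => W j i hj hi a b ne e fun w _ _ hw =>
      ⟨(zpowers_le.2 (show j * i ∈ MulAction.stabilizer G a by rw [MulAction.mem_stabilizer_iff, mul_smul, ia, sw j hj ja]) hw :),
       (zpowers_le.2 (show j * i ∈ MulAction.stabilizer G b by rw [MulAction.mem_stabilizer_iff, mul_smul, sw i hi ia, ja]) hw :)⟩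
    obtain ⟨x, hx⟩ := isConj_iff.1 hj
    have jx : j • x • a = x • a := by rw [← hx, ← mul_smul, inv_mul_cancel_right, mul_smul, za]
    have o2 := od z j (IsConj.refl z) hj a (x • a) (fun k => ne (by rw [← ja, k, jx])) za jx
    have := H1B.eq_one_of_odd o (H1B.sq_eq_one_of_odd_inverts (s := z * j) (by
      calc _ = z * (j * j) * i * j⁻¹ * z⁻¹ := by group
        _ = z * (i * j⁻¹ * z⁻¹ * j * i⁻¹) * i * j⁻¹ := by rw [s2 j hj]; group
        _ = z * (i * (j * z * j⁻¹)⁻¹ * i⁻¹) * i * j⁻¹ := by simp [inv_of_sq (s2 j hj), mul_assoc]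
        _ = z * (i * i) * z⁻¹ * i⁻¹ * j⁻¹ := by rw [← e]; group
        _ = _ := by rw [s2 i hi]; group) o2)
    exact (eq_inv_of_mul_eq_one_right this).trans (inv_of_sq (s2 j hj)))
  obtain ⟨⟨i, hi, ia⟩, -⟩ := sF ⟨_, isConj_iff.2 ⟨g⁻¹, by simp⟩, zb⟩
  have pa := par (α := {i // IsConj z i ∧ i • a = b}) (fun j => ⟨i * j * i⁻¹, j.2.1.trans (isConj_iff.2 ⟨i, rfl⟩), by
      rw [inv_of_sq (s2 i hi), mul_smul, mul_smul, ia, sw _ j.2.1 j.2.2, ia]⟩) fun j => Subtype.ext (by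
    calc _ = (i * i) * j * (i * i)⁻¹ := by simp [mul_assoc]
      _ = _ := by simp [s2 i hi])
  replace pa := pa.trans (congrArg (· % 2) (Nat.card_eq_one_iff_exists.2 ⟨⟨⟨i, hi, ia⟩, Subtype.ext (by simp)⟩, fun ⟨⟨j, hj, ja⟩, e⟩ =>
    Subtype.ext (Subtype.ext (by_contra fun k => ne (U j i hj hi k (mul_inv_eq_iff_eq_mul.1 (congrArg Subtype.val e)).symm a b
      (by rw [mul_smul, ia, sw j hj ja]) (by rw [mul_smul, sw i hi ia, ja]))))⟩) : _ ≡ 1 [MOD 2])
  rw [Nat.card_eq_of_bijective F ⟨iF, sF⟩] at pa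
  have sT := syl_cj sS g⁻¹
  have lT := cj_mono g⁻¹ hS.le
  rw [cj_top] at sT
  generalize H2.cj g⁻¹ S = T at *
  let X : SubMulAction ↥(T.map ConjAct.toConjAct.toMonoidHom : Subgroup (ConjAct G)) G := ⟨{s | IsConj z s ∧ s • b = b}, by
    rintro ⟨_, x, hx, rfl⟩ s ⟨h1, h2⟩
    exact ⟨h1.trans (isConj_iff.2 ⟨x, rfl⟩), (lb _).2 (conj_mem (lT.trans (le_nrm_self _)) hx ((lb s).1 h2))⟩⟩
  obtain ⟨⟨s, hs, sb⟩, ht⟩ := (sT.isPGroup.map ConjAct.toConjAct.toMonoidHom).nonempty_fixed_point_of_prime_not_dvd_card X (by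
    change ¬ 2 ∣ Nat.card {s // IsConj z s ∧ s • b = b}; unfold Nat.ModEq at pa; omega)
  have c : s ∈ centralizer (T : Set G) := mem_cen.2 fun x hx =>
    mul_inv_eq_iff_eq_mul.1 (congrArg Subtype.val (ht ⟨_, x, hx, rfl⟩))
  have m := sT.le_of_le_normalizer (isPGroup_zpowers_of_orderOf ((H1B.ord_isConj hs).trans hz)) le_top (zpowers_le.2 (cen_le_nrm T c))
  obtain ⟨x, rfl⟩ := isConj_iff.1 hs
  refine ⟨(cj_top x⁻¹ ▸ syl_cj sT x⁻¹).toSylowTop, ?_⟩
  rw [center_map_subtype, H2.IsSylowIn.coe_toSylowTop, ← cj_cen, ← cj_inf, mem_cj_inv]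
  exact ⟨m (mem_zpowers _), c⟩

end Cfsg.Agent.S1922
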