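import Cfsg.Statements.S2065
import Cfsg.Agent.H0.MJ1.Main
import Cfsg.Agent.H0.OJ1.Main
import Cfsg.Agent.H6.Fus
import Cfsg.Agent.H0.IJ1


set_option autoImplicit false
open Cfsg

namespace Cfsg.Agent.S2065

/-- The outer automorphism group of the Janko group J₁ (the group generated by two explicit 7 × 7 matrices over the integers modulo 11) is trivial: every automorphism is inner. -/
theorem result : Nat.card (Cfsg.Out ↥Cfsg.Spor.J1) = 1 := by
  have := H0.MJ1.fin (H0.Pres.pg 8 H0.MJ1.B)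
  obtain ⟨e⟩ := H0.IJ1.iso
  exact (H6.card_out_congr e).symm.trans (H0.OJ1.out (H0.MJ1.m (H0.Pres.pg 8 H0.MJ1.B)) (H0.MJ1.mR (H0.Pres.pg 8 H0.MJ1.B)) (H0.MJ1.base (H0.Pres.pg 8 H0.MJ1.B)) (H0.MJ1.card (H0.Pres.pg 8 H0.MJ1.B)))

end Cfsg.Agent.S2065
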