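import Cfsg.Statements.S2066
import Cfsg.Agent.H0.Ico5
import Cfsg.Agent.H0.OJ2p.Main
import Cfsg.Agent.H6.Fus


set_option autoImplicit false
open Cfsg

namespace Cfsg.Agent.S2066

/-- The outer automorphism group of the Hall–Janko group J₂ (the icosian reflection group modulo its centre) has order 2. -/
theorem result : Nat.card (Cfsg.Out Cfsg.Spor.J2) = 2 := by
  have := H0.MJ2p.fin (H0.Pres.pg 12 H0.MJ2p.B)
  obtain ⟨e⟩ := H0.Ico.iso
  exact (H6.card_out_congr e).symm.trans (H0.OJ2p.out (H0.MJ2p.m (H0.Pres.pg 12 H0.MJ2p.B)) (H0.MJ2p.mR (H0.Pres.pg 12 H0.MJ2p.B)) (H0.MJ2p.base (H0.Pres.pg 12 H0.MJ2p.B)) (H0.MJ2p.card (H0.Pres.pg 12 H0.MJ2p.B)))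

end Cfsg.Agent.S2066
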