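import Cfsg.Statements.S2073
import Cfsg.Agent.H6.CoSub
import Cfsg.Agent.H0.OMcL.Main


set_option autoImplicit false
open Cfsg

namespace Cfsg.Agent.S2073

/-- The outer automorphism group of the McLaughlin group (as a two-vector stabiliser in the automorphism group of the rank-24 lattice) has order 2. -/
theorem result : Nat.card (Cfsg.Out ↥Cfsg.Spor.McL) = 2 := by
  haveI := H6M.MMcL.fin H6.PMcL
  exact H0.OMcL.out (H6M.MMcL.m H6.PMcL) (H6M.MMcL.mR H6.PMcL) (H6M.MMcL.base H6.PMcL) (H6M.MMcL.card H6.PMcL)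

end Cfsg.Agent.S2073
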