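import Cfsg.Statements.S2077
import Cfsg.Agent.H0.MRu.Main
import Cfsg.Agent.H0.ORu.Main
import Cfsg.Agent.H6.Fus
import Cfsg.Agent.H0.Ru.Iso


set_option autoImplicit false
open Cfsg

namespace Cfsg.Agent.S2077

/-- The outer automorphism group of the Rudvalis group (the unitary automorphism group of the rank-28 Gaussian lattice modulo its centre) is trivial: every automorphism is inner. -/
theorem result : Nat.card (Cfsg.Out Cfsg.Spor.Ru) = 1 := by
  have := H0.MRu.fin (H0.Pres.pg 12 H0.MRu.B)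
  obtain ⟨e⟩ := H0.Ru.iso
  exact (H6.card_out_congr e).symm.trans (H0.ORu.out (H0.MRu.m (H0.Pres.pg 12 H0.MRu.B)) (H0.MRu.mR (H0.Pres.pg 12 H0.MRu.B)) (H0.MRu.base (H0.Pres.pg 12 H0.MRu.B)) (H0.MRu.card (H0.Pres.pg 12 H0.MRu.B)))

end Cfsg.Agent.S2077
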