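import Cfsg.Statements.S2078
import Cfsg.Agent.H0.PON
import Cfsg.Agent.H0.OON.Main


set_option autoImplicit false
open Cfsg

namespace Cfsg.Agent.S2078

/-- The outer automorphism group of the O'Nan group (the finitely presented group of the definitions) has order 2. -/
theorem result : Nat.card (Cfsg.Out Cfsg.Spor.ON) = 2 := by
  haveI := H0.MON.fin H0.PON.P
  haveI := H0.MON.simple H0.PON.P
  exact H0.OON.out (H0.MON.m H0.PON.P) (H0.MON.mR H0.PON.P) (H0.MON.base H0.PON.P) (H0.MON.card H0.PON.P) ((H0.OON.m (H0.MON.m H0.PON.P) (H0.MON.mR H0.PON.P)).exists_outer_pres H0.PON.P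
    (fun x hx => (H0.OON.geq (H0.MON.m H0.PON.P) (H0.MON.mR H0.PON.P) hx).trans (H0.MON.g_eq H0.PON.P hx)) _ (H0.OON.arel (H0.MON.m H0.PON.P) (H0.MON.mR H0.PON.P) (H0.MON.base H0.PON.P) (H0.MON.card H0.PON.P)) (by decide +kernel)
    (H0.OON.xbdd (H0.MON.m H0.PON.P) (H0.MON.mR H0.PON.P) (H0.MON.base H0.PON.P) (H0.MON.card H0.PON.P)) (H0.OON.ninv (H0.MON.m H0.PON.P) (H0.MON.mR H0.PON.P) (H0.MON.base H0.PON.P) (H0.MON.card H0.PON.P)) (H0.OON.fpf (H0.MON.m H0.PON.P) (H0.MON.mR H0.PON.P) (H0.MON.base H0.PON.P) (H0.MON.card H0.PON.P)))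

end Cfsg.Agent.S2078
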