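import Cfsg.Statements.S2079
import Cfsg.Agent.H0.PFi22
import Cfsg.Agent.H0.OFi22.Main


set_option autoImplicit false
open Cfsg

namespace Cfsg.Agent.S2079

/-- The outer automorphism group of the Fischer group Fi₂₂ (the finitely presented group of the definitions) has order 2. -/
theorem result : Nat.card (Cfsg.Out Cfsg.Spor.Fi22) = 2 := by
  haveI := H0.MFi22.fin H0.PFi22.P
  exact H0.OFi22.out (H0.MFi22.m H0.PFi22.P) (H0.MFi22.mR H0.PFi22.P) (H0.MFi22.base H0.PFi22.P) (H0.MFi22.card H0.PFi22.P)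

end Cfsg.Agent.S2079
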