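import Cfsg.Statements.S2080
import Cfsg.Agent.H0.PFi23
import Cfsg.Agent.H0.OFi23.Main


set_option autoImplicit false
open Cfsg

namespace Cfsg.Agent.S2080

/-- The outer automorphism group of the Fischer group Fi₂₃ (the finitely presented group of the definitions) is trivial: every automorphism is inner. -/
theorem result : Nat.card (Cfsg.Out Cfsg.Spor.Fi23) = 1 := by
  haveI := H0.MFi23.fin H0.PFi23.P
  exact H0.OFi23.out (H0.MFi23.m H0.PFi23.P) (H0.MFi23.mR H0.PFi23.P) (H0.MFi23.base H0.PFi23.P) (H0.MFi23.card H0.PFi23.P)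

end Cfsg.Agent.S2080
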