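import Cfsg.Statements.S2247
import Cfsg.Agent.H5.SZ8

set_option autoImplicit false
open Cfsg

namespace Cfsg.Agent.S2247

/-- In the Suzuki group with q = 2^(2m+1), m ≥ 1 (realised as the stabiliser in SL₄ of the Suzuki–Tits ovoid), the normalizer of a Sylow 2-subgroup P is a maximal subgroup and is the only maximal subgroup containing P. -/
theorem result {F : Type*} [Field F] [Fintype F] {m : ℕ} (hm : 1 ≤ m) (hF : Fintype.card F = 2 ^ (2 * m + 1)) (P : Sylow 2 ↥(Cfsg.Sz F m)) :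
    IsCoatom (Subgroup.normalizer ((P : Subgroup ↥(Cfsg.Sz F m)) : Set ↥(Cfsg.Sz F m))) ∧
    ∀ M : Subgroup ↥(Cfsg.Sz F m), IsCoatom M → (P : Subgroup ↥(Cfsg.Sz F m)) ≤ M → M = Subgroup.normalizer ((P : Subgroup ↥(Cfsg.Sz F m)) : Set ↥(Cfsg.Sz F m)) := by
  let S := H5.Sz.ovS hm hF
  obtain ⟨ω, h⟩ := S.sylow_eq P
  rw [h, S.normalizer_P]
  refine ⟨S.isCoatom_stab ω, fun M hM h1 => ?_⟩
  exact (hM.le_iff_eq (S.stab_ne_top ω)).1 (S.le_stab_of_P h1 hM.1) |>.symm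

end Cfsg.Agent.S2247
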