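import Cfsg.Statements.S4010
import Cfsg.Agent.H7.GK
import Cfsg.Agent.H8.PermMod

set_option autoImplicit false
open Cfsg

namespace Cfsg.Agent.S4010
open H7
open scoped commutatorElement

section
open Subgroup

theorem der_succ_le (G : Type*) [Group G] (k : ℕ) :
    derivedSeries G (k + 1) ≤ (derivedSeries (_root_.commutator G) k).map (_root_.commutator G).subtype := by
  induction k with
  | zero =>
    intro x hx
    exact ⟨⟨x, hx⟩, trivial, rfl⟩
  | succ k ih =>
    rw [derivedSeries_succ, derivedSeries_succ (_root_.commutator G), map_commutator]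
    exact commutator_mono ih ih

theorem der_le_comm (G : Type*) [Group G] (k : ℕ) : derivedSeries G (k + 1) ≤ _root_.commutator G :=
  (der_succ_le G k).trans (map_subtype_le _)

theorem one_of_eig {K V G : Type*} [Field K] [IsAlgClosed K] [AddCommGroup V] [Module K V]
    [FiniteDimensional K V] [Group G] [Finite G] {p : ℕ} [Fact p.Prime] (hG : IsPGroup p G)
    (hp : (p : K) ≠ 0) (ρ : Representation K G V) (x g : G)
    (h : ∀ μ, ∀ v ∈ Module.End.eigenspace (ρ x) μ, ρ g v = v) : ρ g = 1 := by
  obtain ⟨a, ha⟩ := hG x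
  have hs : Module.End.IsSemisimple (ρ x) := by
    refine Module.End.isSemisimple_of_squarefree_aeval_eq_zero
      (Polynomial.separable_X_pow_sub_C (n := p ^ a) (1 : K) (by rw [Nat.cast_pow]; exact pow_ne_zero _ hp) one_ne_zero).squarefree ?_
    rw [map_sub, map_pow, Polynomial.aeval_X, ← map_pow, ha, map_one, Polynomial.C_1, map_one, sub_self]
  have ht := hs.iSup_eigenspace_eq_top
  have : (⊤ : Submodule K V) ≤ LinearMap.eqLocus (ρ g) 1 := by
    rw [← ht]
    exact iSup_le fun μ v hv => h μ v hv
  ext v
  exact this trivial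

universe u v in
theorem coprime_case {K : Type*} [Field K] [IsAlgClosed K] {p : ℕ} [Fact p.Prime] (hp : (p : K) ≠ 0) (k : ℕ) :
    ∀ (n : ℕ) (G : Type u) [Group G] [Finite G] (_ : IsPGroup p G) (V : Type v) [AddCommGroup V] [Module K V]
      [FiniteDimensional K V] (ρ : Representation K G V), Module.finrank K V = n → n < 2 ^ k →
      ∀ g ∈ derivedSeries G k, ρ g = 1 := by
  induction k with
  | zero =>
    intro n G _ _ hG V _ _ _ ρ hn hlt g _
    have : Module.finrank K V = 0 := by omega
    haveI : Subsingleton V := Module.finrank_zero_iff.1 this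
    exact Subsingleton.elim _ _
  | succ k ihk =>
    intro n
    induction n using Nat.strong_induction_on with
    | _ n ihn =>
    intro G _ _ hG V _ _ _ ρ hn hlt g hg
    rcases subsingleton_or_nontrivial V with hV | hV
    · exact Subsingleton.elim _ _
    let ρu : G →* (Module.End K V)ˣ := MonoidHom.toHomUnits ρ
    have hu : ∀ a b : G, ρu a * ρu b = ρu b * ρu a ↔ ρ a * ρ b = ρ b * ρ a := fun a b => Units.ext_iff
    let Z : Subgroup G := (centralizer (ρu.range : Set _)).comap ρu
    have hZ : ∀ z, z ∈ Z ↔ ∀ a, ρ a * ρ z = ρ z * ρ a := by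
      intro z
      simp only [Z, mem_comap, mem_centralizer_iff]
      constructor
      · intro h a; exact (hu _ _).1 (h _ ⟨a, rfl⟩)
      · rintro h _ ⟨a, rfl⟩; exact (hu _ _).2 (h a)
    by_cases hA : ∃ z ∈ Z, ∀ μ, Module.End.eigenspace (ρ z) μ ≠ ⊤
    · obtain ⟨z, hz, hne⟩ := hA
      refine one_of_eig hG hp ρ z g (fun μ w hw => ?_)
      have hinv : ∀ a, Module.End.eigenspace (ρ z) μ ≤ (Module.End.eigenspace (ρ z) μ).comap (ρ a) := by
        intro a y hy
        rw [Submodule.mem_comap, Module.End.mem_eigenspace_iff] at *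
        rw [← Module.End.mul_apply, ← (hZ z).1 hz a, Module.End.mul_apply, hy, map_smul]
      have hlt' : Module.finrank K (Module.End.eigenspace (ρ z) μ) < n := by
        rw [← hn]; exact Submodule.finrank_lt (hne μ)
      have := ihn _ hlt' G hG _ (ρ.subrepresentation _ hinv) rfl (by omega) g hg
      exact congrArg Subtype.val (LinearMap.congr_fun this ⟨w, hw⟩)
    push Not at hA
    have hsc : ∀ z ∈ Z, ∃ μ : K, ρ z = μ • (1 : Module.End K V) := by
      intro z hz
      obtain ⟨μ, hμ⟩ := hA z hz
      refine ⟨μ, LinearMap.ext fun y => ?_⟩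
      have : y ∈ Module.End.eigenspace (ρ z) μ := by rw [hμ]; trivial
      exact Module.End.mem_eigenspace_iff.1 this
    by_cases hT : Z = ⊤
    · have : _root_.commutator G ≤ ρu.ker := by
        rw [_root_.commutator_def, commutator_le]
        intro a _ b _
        rw [MonoidHom.mem_ker, map_commutatorElement, commutatorElement_eq_one_iff_mul_comm, hu]
        exact (hZ b).1 (by rw [hT]; trivial) a
      exact congrArg Units.val (this (der_le_comm G k hg))
    haveI hZn : Z.Normal := by
      refine ⟨fun z hz a => ?_⟩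
      have : ρu (a * z * a⁻¹) = ρu z := by
        rw [map_mul, map_mul, (hu _ _).2 ((hZ z).1 hz a), map_inv, mul_inv_cancel_right]
      rw [mem_comap, this]
      exact hz
    haveI : Nontrivial (G ⧸ Z) := QuotientGroup.nontrivial_iff.2 hT
    haveI := (hG.to_quotient Z).center_nontrivial
    obtain ⟨⟨xb, hxb⟩, hxb1⟩ := exists_ne (1 : center (G ⧸ Z))
    obtain ⟨x, rfl⟩ := QuotientGroup.mk_surjective xb
    have hxZ : x ∉ Z := fun h => hxb1 (Subtype.ext ((QuotientGroup.eq_one_iff x).2 h))
    have hR : ∀ a, ∃ c : K, ρ x * ρ a = c • (ρ a * ρ x) := by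
      intro a
      have h1 : x * a * (a * x)⁻¹ ∈ Z := by
        rw [← QuotientGroup.eq_one_iff, QuotientGroup.mk_mul, QuotientGroup.mk_inv, mul_inv_eq_one,
          QuotientGroup.mk_mul, QuotientGroup.mk_mul]
        exact (mem_center_iff.1 hxb _).symm
      obtain ⟨c, hc⟩ := hsc _ h1
      refine ⟨c, ?_⟩
      rw [← map_mul, ← map_mul, ← inv_mul_cancel_right (x * a) (a * x), map_mul ρ _ (a * x), hc,
        smul_mul_assoc, one_mul]
    choose c hc using hR
    have hinj : ∀ a, Function.Injective (ρ a) := fun a => by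
      intro y w h
      have := congrArg (ρ a⁻¹) h
      rwa [← Module.End.mul_apply, ← Module.End.mul_apply, ← map_mul, inv_mul_cancel, map_one] at this
    have huniq : ∀ a (d e : K), d • (ρ a * ρ x) = e • (ρ a * ρ x) → d = e := by
      intro a d e h
      obtain ⟨y, hy⟩ := exists_ne (0 : V)
      have h2 : ρ (a * x) y ≠ 0 := fun h3 => hy (hinj _ (by rw [h3, map_zero]))
      have h4 := LinearMap.congr_fun h y
      rw [← map_mul, LinearMap.smul_apply, LinearMap.smul_apply] at h4
      exact smul_left_injective K h2 h4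
    have hmul : ∀ a b, c (a * b) = c a * c b := by
      intro a b
      refine huniq (a * b) _ _ ?_
      rw [← hc, map_mul, ← mul_assoc, hc, smul_mul_assoc, mul_assoc, hc, mul_smul_comm, smul_smul, mul_assoc]
    have hone : c 1 = 1 := by
      refine huniq 1 _ _ ?_
      rw [← hc, map_one, one_smul, one_mul, mul_one]
    let χ : G →* K := ⟨⟨c, hone⟩, hmul⟩
    have hcomm : ∀ a ∈ _root_.commutator G, c a = 1 := by
      intro a ha
      have := Abelianization.commutator_subset_ker χ.toHomUnits ha
      exact congrArg Units.val this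
    obtain ⟨a0, ha0⟩ : ∃ a, c a ≠ 1 := by
      by_contra hcon
      push Not at hcon
      exact hxZ ((hZ x).2 fun a => by rw [hc, hcon, one_smul])
    refine one_of_eig hG hp ρ x g (fun μ w hw => ?_)
    obtain ⟨g', hg', rfl⟩ := der_succ_le G k hg
    set E := Module.End.eigenspace (ρ x) μ with hE
    let σ : Representation K (_root_.commutator G) V := MonoidHom.comp ρ (_root_.commutator G).subtype
    have hinv : ∀ a, E ≤ E.comap (σ a) := by
      intro a y hy
      rw [Submodule.mem_comap, Module.End.mem_eigenspace_iff] at *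
      change ρ x (ρ a y) = μ • ρ a y
      rw [← Module.End.mul_apply, hc, hcomm _ a.2, one_smul, Module.End.mul_apply, hy, map_smul]
    have hdim : Module.finrank K E < 2 ^ k := by
      have hi : Function.Injective (E.subtype.coprod ((ρ a0) ∘ₗ E.subtype)) := by
        rw [injective_iff_map_eq_zero]
        rintro ⟨⟨y, hy⟩, ⟨t, ht⟩⟩ h
        have h1 : y + ρ a0 t = 0 := h
        rw [Module.End.mem_eigenspace_iff] at hy ht
        have h2 := congrArg (ρ x) h1
        rw [map_add, map_zero, hy, ← Module.End.mul_apply, hc, LinearMap.smul_apply, Module.End.mul_apply,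
          ht, map_smul, eq_neg_of_add_eq_zero_left h1] at h2
        have h3 : ((c a0 - 1) * μ) • ρ a0 t = 0 := by
          rw [← h2]; module
        have ht0 : t = 0 := by
          rcases smul_eq_zero.1 h3 with h4 | h4
          · have hμ : μ = 0 := (mul_eq_zero.1 h4).resolve_left (sub_ne_zero.2 ha0)
            refine hinj x ?_
            rw [ht, hμ, zero_smul, map_zero]
          · exact hinj a0 (by rw [h4, map_zero])
        rw [ht0, map_zero, add_zero] at h1
        ext
        · exact h1
        · exact ht0
      have := LinearMap.finrank_le_finrank_of_injective hi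
      rw [Module.finrank_prod, hn] at this
      rw [pow_succ] at hlt
      omega
    have := ihk _ (_root_.commutator G) (hG.to_subgroup _) _ (σ.subrepresentation _ hinv) rfl hdim g' hg'
    exact congrArg Subtype.val (LinearMap.congr_fun this ⟨w, hw⟩)

/-- The ascending series of fixed points. -/
def WW {K V G : Type*} [Field K] [AddCommGroup V] [Module K V] [Group G] (ρ : Representation K G V) :
    ℕ → Submodule K V
  | 0 => ⊥
  | j + 1 => ⨅ g, (WW ρ j).comap (ρ g - 1)

theorem char_case {K V G : Type*} [Field K] [AddCommGroup V] [Module K V] [FiniteDimensional K V]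
    [Group G] [Finite G] {p : ℕ} [Fact p.Prime] [CharP K p] (hG : IsPGroup p G) (ρ : Representation K G V)
    (k : ℕ) (hk : Module.finrank K V ≤ 2 ^ k) : ∀ g ∈ derivedSeries G k, ρ g = 1 := by
  have hmem : ∀ j v, v ∈ WW ρ (j + 1) ↔ ∀ g, ρ g v - v ∈ WW ρ j := by
    intro j v
    simp [WW, Submodule.mem_iInf]
  have hmono : ∀ j, WW ρ j ≤ WW ρ (j + 1) := by
    intro j
    induction j with
    | zero => exact bot_le
    | succ j ih =>
      intro v hv
      rw [hmem] at hv ⊢
      exact fun g => ih (hv g)
  have hinv : ∀ j g, ∀ v ∈ WW ρ j, ρ g v ∈ WW ρ j := by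
    intro j g v hv
    cases j with
    | zero => rw [(Submodule.mem_bot K).1 hv, map_zero]; exact Submodule.zero_mem _
    | succ j =>
      have := Submodule.add_mem _ (hmono j ((hmem j v).1 hv g)) hv
      rwa [sub_add_cancel] at this
  have hlt : ∀ j, WW ρ j ≠ ⊤ → WW ρ j < WW ρ (j + 1) := by
    intro j hj
    haveI : Nontrivial (V ⧸ WW ρ j) := Submodule.Quotient.nontrivial_iff.2 hj
    obtain ⟨w, -, hw0, hw⟩ := H8.exists_fixed_vector hG (ρ.quotient (WW ρ j) (fun g v hv => hinv j g v hv)) ⊤
      (fun _ _ _ => trivial) top_ne_bot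
    obtain ⟨y, rfl⟩ := Submodule.Quotient.mk_surjective _ w
    refine lt_of_le_of_ne (hmono j) (fun h => hw0 ?_)
    rw [Submodule.Quotient.mk_eq_zero, h, hmem]
    intro g
    exact (Submodule.Quotient.eq _).1 (hw g)
  have hdim : ∀ j, WW ρ j = ⊤ ∨ j ≤ Module.finrank K (WW ρ j) := by
    intro j
    induction j with
    | zero => exact Or.inr (Nat.zero_le _)
    | succ j ih =>
      by_cases h : WW ρ j = ⊤
      · left; exact top_le_iff.1 (h ▸ hmono j)
      · right
        have := Submodule.finrank_lt_finrank_of_lt (hlt j h)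
        have := ih.resolve_left h
        omega
  have htop : WW ρ (2 ^ k) = ⊤ := by
    rcases hdim (2 ^ k) with h | h
    · exact h
    · exact Submodule.eq_top_of_finrank_eq (le_antisymm (Submodule.finrank_le _) (hk.trans h))
  let A : ℕ → Subgroup G := fun m =>
    { carrier := {g | ∀ j, ∀ v ∈ WW ρ (j + m), ρ g v - v ∈ WW ρ j}
      one_mem' := fun j v _ => by simp
      mul_mem' := fun {a b} ha hb j v hv => by
        have := Submodule.add_mem _ (hinv j a _ (hb j v hv)) (ha j v hv)
        rw [map_sub, sub_add_sub_cancel] at this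
        rw [map_mul]; exact this
      inv_mem' := fun {a} ha j v hv => by
        have := Submodule.neg_mem _ (hinv j a⁻¹ _ (ha j v hv))
        rwa [map_sub, ← Module.End.mul_apply, ← map_mul, inv_mul_cancel, map_one, neg_sub] at this }
  have hA : ∀ i, derivedSeries G i ≤ A (2 ^ i) := by
    intro i
    induction i with
    | zero => intro g _ j v hv; exact (hmem j v).1 hv g
    | succ i ih =>
      rw [derivedSeries_succ, commutator_le]
      intro a ha b hb j v hv
      have hw := hinv _ (a⁻¹ * b⁻¹) v hv
      set w := ρ (a⁻¹ * b⁻¹) v with hwd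
      rw [pow_succ, mul_two, ← add_assoc] at hw
      have h1 := ih ha j _ (ih hb _ w hw)
      have h2 := ih hb j _ (ih ha _ w hw)
      have e1 : ρ ⁅a, b⁆ v = ρ a (ρ b w) := by
        rw [hwd, ← Module.End.mul_apply, ← Module.End.mul_apply, ← map_mul, ← map_mul, commutatorElement_def]
        congr 2; group
      have e2 : v = ρ b (ρ a w) := by
        rw [hwd, ← Module.End.mul_apply, ← Module.End.mul_apply, ← map_mul, ← map_mul]
        have : b * a * (a⁻¹ * b⁻¹) = 1 := by group
        rw [this, map_one]; rfl
      have h3 := Submodule.sub_mem _ h1 h2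
      rw [map_sub, map_sub] at h3
      rw [e1]
      convert h3 using 1
      rw [← e2]; abel
  intro g hg
  ext v
  have := hA k hg 0 v (by rw [zero_add, htop]; trivial)
  exact sub_eq_zero.1 ((Submodule.mem_bot K).1 this)

end

/-- Let F be a field, n ≥ 1, and P a finite p-group (p a prime) admitting an injective homomorphism into the general linear group of degree n over F. Then the derived length of P is at most ⌊log₂ n⌋ + 1: that term of the derived series of P is trivial. -/
theorem result {P : Type*} [Group P] [Finite P] (p : ℕ) [Fact p.Prime] (hP : IsPGroup p P) (F : Type*) [Field F] (n : ℕ) (hn : 1 ≤ n) (ρ : P →* Matrix.GeneralLinearGroup (Fin n) F) (hρ : Function.Injective ρ) : derivedSeries P (Nat.log 2 n + 1) = ⊥ := by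
  open Subgroup in
  let K := AlgebraicClosure F
  let τ : Matrix (Fin n) (Fin n) F →* Module.End K (Fin n → K) :=
    (Matrix.toLinAlgEquiv' (R := K) (n := Fin n)).toMulEquiv.toMonoidHom.comp
      ((algebraMap F K).mapMatrix (m := Fin n)).toMonoidHom
  have hτ : Function.Injective τ :=
    (Matrix.toLinAlgEquiv' (R := K) (n := Fin n)).injective.comp (Matrix.map_injective (algebraMap F K).injective)
  let σ : Representation K P (Fin n → K) := τ.comp ((Units.coeHom _).comp ρ)
  have hσ : Function.Injective σ := hτ.comp (Units.val_injective.comp hρ)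
  have hlt : n < 2 ^ (Nat.log 2 n + 1) := Nat.lt_pow_succ_log_self (by norm_num) n
  have hd : Module.finrank K (Fin n → K) = n := by simp
  rw [eq_bot_iff_forall]
  intro g hg
  apply hσ
  rw [map_one]
  by_cases hp : (p : K) = 0
  · haveI : CharP K p := (CharP.charP_iff_prime_eq_zero Fact.out).2 hp
    exact char_case hP σ _ (by rw [hd]; exact hlt.le) g hg
  · exact coprime_case hp _ n P hP _ σ hd hlt g hg

end Cfsg.Agent.S4010
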