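import Cfsg.Statements.S2277
import Cfsg.Agent.H7.GK
import Cfsg.Agent.H7.BG13
import Cfsg.Agent.S4010

set_option autoImplicit false
open Cfsg

namespace Cfsg.Agent.S2277
open H7
open scoped commutatorElement

section
open Subgroup

theorem tri {K V G : Type*} [Field K] [AddCommGroup V] [Module K V] [Nontrivial V]
    [Group G] [Finite G] {p : ℕ} [Fact p.Prime] (hG : IsPGroup p G) (ρ : Representation K G V) :
    (∃ z, (∀ a, ρ a * ρ z = ρ z * ρ a) ∧ ∀ μ, Module.End.eigenspace (ρ z) μ ≠ ⊤) ∨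
    (∀ z, ∃ μ : K, ρ z = μ • (1 : Module.End K V)) ∨
    ∃ (x : G) (χ : G →* K), (∀ a, ρ x * ρ a = χ a • (ρ a * ρ x)) ∧ ∃ a, χ a ≠ 1 := by
  let ρu : G →* (Module.End K V)ˣ := MonoidHom.toHomUnits ρ
  have hu : ∀ a b : G, ρu a * ρu b = ρu b * ρu a ↔ ρ a * ρ b = ρ b * ρ a := fun a b => Units.ext_iff
  let Z : Subgroup G := (centralizer (ρu.range : Set _)).comap ρu
  have hZ : ∀ z, z ∈ Z ↔ ∀ a, ρ a * ρ z = ρ z * ρ a := by
    intro z
    simp only [Z, mem_comap, mem_centralizer_iff]
    constructor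
    · intro h a; exact (hu _ _).1 (h _ ⟨a, rfl⟩)
    · rintro h _ ⟨a, rfl⟩; exact (hu _ _).2 (h a)
  by_cases hA : ∃ z ∈ Z, ∀ μ, Module.End.eigenspace (ρ z) μ ≠ ⊤
  · obtain ⟨z, hz, hne⟩ := hA
    exact Or.inl ⟨z, (hZ z).1 hz, hne⟩
  right
  push Not at hA
  have hsc : ∀ z ∈ Z, ∃ μ : K, ρ z = μ • (1 : Module.End K V) := by
    intro z hz
    obtain ⟨μ, hμ⟩ := hA z hz
    refine ⟨μ, LinearMap.ext fun y => ?_⟩
    have : y ∈ Module.End.eigenspace (ρ z) μ := by rw [hμ]; trivial
    exact Module.End.mem_eigenspace_iff.1 this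
  by_cases hT : Z = ⊤
  · exact Or.inl fun z => hsc z (by rw [hT]; trivial)
  right
  haveI hZn : Z.Normal := by
    refine ⟨fun z hz a => ?_⟩
    have : ρu (a * z * a⁻¹) = ρu z := by
      rw [map_mul, map_mul, (hu _ _).2 ((hZ z).1 hz a), map_inv, mul_inv_cancel_right]
    rw [mem_comap, this]
    exact hz
  haveI : Nontrivial (G ⧸ Z) := QuotientGroup.nontrivial_iff.2 hT
  haveI := (hG.to_quotient Z).center_nontrivial
  obtain ⟨⟨xb, hxb⟩, hxb1⟩ := exists_ne (1 : center (G ⧸ Z))
  obtain ⟨x, rfl⟩ := QuotientGroup.mk_surjective xb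
  have hxZ : x ∉ Z := fun h => hxb1 (Subtype.ext ((QuotientGroup.eq_one_iff x).2 h))
  have hR : ∀ a, ∃ c : K, ρ x * ρ a = c • (ρ a * ρ x) := by
    intro a
    have h1 : x * a * (a * x)⁻¹ ∈ Z := by
      rw [← QuotientGroup.eq_one_iff, QuotientGroup.mk_mul, QuotientGroup.mk_inv, mul_inv_eq_one,
        QuotientGroup.mk_mul, QuotientGroup.mk_mul]
      exact (mem_center_iff.1 hxb _).symm
    obtain ⟨c, hc⟩ := hsc _ h1
    refine ⟨c, ?_⟩
    rw [← map_mul, ← map_mul, ← inv_mul_cancel_right (x * a) (a * x), map_mul ρ _ (a * x), hc,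
      smul_mul_assoc, one_mul]
  choose c hc using hR
  have hinj : ∀ a, Function.Injective (ρ a) := fun a => by
    intro y w h
    have := congrArg (ρ a⁻¹) h
    rwa [← Module.End.mul_apply, ← Module.End.mul_apply, ← map_mul, inv_mul_cancel, map_one] at this
  have huniq : ∀ a (d e : K), d • (ρ a * ρ x) = e • (ρ a * ρ x) → d = e := by
    intro a d e h
    obtain ⟨y, hy⟩ := exists_ne (0 : V)
    have h2 : ρ (a * x) y ≠ 0 := fun h3 => hy (hinj _ (by rw [h3, map_zero]))
    have h4 := LinearMap.congr_fun h y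
    rw [← map_mul, LinearMap.smul_apply, LinearMap.smul_apply] at h4
    exact smul_left_injective K h2 h4
  have hmul : ∀ a b, c (a * b) = c a * c b := by
    intro a b
    refine huniq (a * b) _ _ ?_
    rw [← hc, map_mul, ← mul_assoc, hc, smul_mul_assoc, mul_assoc, hc, mul_smul_comm, smul_smul, mul_assoc]
  have hone : c 1 = 1 := by
    refine huniq 1 _ _ ?_
    rw [← hc, map_one, one_smul, one_mul, mul_one]
  refine ⟨x, ⟨⟨c, hone⟩, hmul⟩, hc, ?_⟩
  by_contra hcon
  push Not at hcon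
  exact hxZ ((hZ x).2 fun a => by rw [hc, show c a = 1 from hcon a, one_smul])

theorem three_ker {K V : Type*} [Field K] [AddCommGroup V] [Module K V] [FiniteDimensional K V]
    (X T : Module.End K V) (hX : Function.Injective X) (a : K) (h : T * X = a • (X * T))
    (h0 : a ≠ 0) (h1 : a ≠ 1) (h2 : a ^ 2 ≠ 1) :
    2 * Module.finrank K V ≤ 3 * Module.finrank K (LinearMap.range (T - 1)) := by
  set E := LinearMap.ker (T - 1) with hE
  have hm : ∀ y ∈ E, T y = y := fun y hy => sub_eq_zero.1 (LinearMap.mem_ker.1 hy)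
  have hT : ∀ y, T (X y) = a • X (T y) := fun y => LinearMap.congr_fun h y
  have hi : Function.Injective (E.subtype.coprod ((X ∘ₗ E.subtype).coprod (X ∘ₗ X ∘ₗ E.subtype))) := by
    rw [injective_iff_map_eq_zero]
    rintro ⟨⟨u, hu⟩, ⟨y, hy⟩, ⟨z, hz⟩⟩ e
    have e1 : u + (X y + X (X z)) = 0 := e
    have e2 := congrArg T e1
    rw [map_zero, map_add, map_add, hm u hu, hT, hm y hy, hT, hT, hm z hz, map_smul] at e2
    have e3 := congrArg T e2
    rw [map_zero, map_add, map_add, map_smul, map_smul, map_smul, hm u hu, hT, hm y hy, hT, hT, hm z hz,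
      map_smul] at e3
    have e4 : ((a ^ 2 - 1) * (a * (a - 1))) • X (X z) = 0 := by
      linear_combination (norm := module) e3 - (a + 1) • e2 + a • e1
    have hz0 : z = 0 := by
      rcases smul_eq_zero.1 e4 with h4 | h4
      · exact absurd h4 (mul_ne_zero (sub_ne_zero.2 h2) (mul_ne_zero h0 (sub_ne_zero.2 h1)))
      · exact hX (hX (by rw [h4, map_zero, map_zero]))
    simp only [hz0, map_zero, smul_zero, add_zero] at e1 e2
    have e5 : (a - 1) • X y = 0 := by
      linear_combination (norm := module) e2 - e1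
    have hy0 : y = 0 := by
      rcases smul_eq_zero.1 e5 with h4 | h4
      · exact absurd h4 (sub_ne_zero.2 h1)
      · exact hX (by rw [h4, map_zero])
    rw [hy0, map_zero, add_zero] at e1
    ext
    · exact e1
    · exact hy0
    · exact hz0
  have := LinearMap.finrank_le_finrank_of_injective hi
  rw [Module.finrank_prod, Module.finrank_prod] at this
  have h3 := LinearMap.finrank_range_add_finrank_ker (T - 1)
  rw [← hE] at h3
  omega

universe u v in
theorem lin {K : Type*} [Field K] [IsAlgClosed K] {p : ℕ} [Fact p.Prime] (hp : (p : K) ≠ 0) (hp3 : 3 ≤ p)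
    {G : Type u} [Group G] [Finite G] (hG : IsPGroup p G) (C D : Set G) (hC : closure C = ⊤) (hD : closure D = ⊤) :
    ∀ (n : ℕ) (V : Type v) [AddCommGroup V] [Module K V]
      [FiniteDimensional K V] (ρ : Representation K G V), Module.finrank K V = n →
      (∀ c ∈ C, ∀ d ∈ D, ∀ u w, ρ c u - u = ρ d w - w → ρ c u - u = 0) → ∀ g, ρ g = 1 := by
  intro n
  induction n using Nat.strong_induction_on with
  | _ n ihn =>
  intro V _ _ _ ρ hn h g
  rcases subsingleton_or_nontrivial V with hV | hV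
  · exact Subsingleton.elim _ _
  have hgen : ∀ (S : Set G), closure S = ⊤ → ∀ {M : Type v} [Monoid M] (χ : G →* M), (∀ c ∈ S, χ c = 1) →
      ∀ a, χ a = 1 := by
    intro S hS M _ χ hχ a
    have : closure S ≤ χ.ker := (closure_le _).2 hχ
    exact this (by rw [hS]; trivial)
  have hgen' : ∀ (S : Set G), closure S = ⊤ → ∀ (χ : G →* K), (∀ c ∈ S, χ c = 1) →
      ∀ a, χ a = 1 := by
    intro S hS χ hχ a
    have : closure S ≤ χ.ker := (closure_le _).2 hχ
    exact this (by rw [hS]; trivial)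
  rcases tri hG ρ with ⟨z, hz, hne⟩ | hsc | ⟨x, χ, hc, a0, ha0⟩
  · refine S4010.one_of_eig hG hp ρ z g (fun μ w hw => ?_)
    have hinv : ∀ a, Module.End.eigenspace (ρ z) μ ≤ (Module.End.eigenspace (ρ z) μ).comap (ρ a) := by
      intro a y hy
      rw [Submodule.mem_comap, Module.End.mem_eigenspace_iff] at *
      rw [← Module.End.mul_apply, ← hz a, Module.End.mul_apply, hy, map_smul]
    have hlt' : Module.finrank K (Module.End.eigenspace (ρ z) μ) < n := by
      rw [← hn]; exact Submodule.finrank_lt (hne μ)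
    have := ihn _ hlt' _ (ρ.subrepresentation _ hinv) rfl (fun c hc d hd u w e =>
      Subtype.ext (h c hc d hd u w (congrArg Subtype.val e))) g
    exact congrArg Subtype.val (LinearMap.congr_fun this ⟨w, hw⟩)
  · by_cases h1 : ∀ c ∈ C, ρ c = 1
    · exact hgen C hC ρ h1 g
    push Not at h1
    obtain ⟨c, hc, hc1⟩ := h1
    refine hgen D hD ρ (fun d hd => ?_) g
    obtain ⟨μ, hμ⟩ := hsc c
    have hμ1 : μ - 1 ≠ 0 := fun e => hc1 (by rw [hμ, sub_eq_zero.1 e, one_smul])
    ext w
    have e : ρ c ((μ - 1)⁻¹ • (ρ d w - w)) - (μ - 1)⁻¹ • (ρ d w - w) = ρ d w - w := by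
      rw [hμ, LinearMap.smul_apply, Module.End.one_apply, ← one_smul K ((μ - 1)⁻¹ • (ρ d w - w)), smul_smul,
        ← sub_smul, mul_one, smul_smul, mul_inv_cancel₀ hμ1, one_smul]
    have := h c hc d hd _ w e
    rw [e] at this
    exact sub_eq_zero.1 this
  · exfalso
    have hinj : Function.Injective (ρ x) := by
      intro y w h
      have := congrArg (ρ x⁻¹) h
      rwa [← Module.End.mul_apply, ← Module.End.mul_apply, ← map_mul, inv_mul_cancel, map_one] at this
    have key : ∀ a, χ a ≠ 1 → 2 * n ≤ 3 * Module.finrank K (LinearMap.range (ρ a - 1)) := by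
      intro a ha
      have hi : χ a⁻¹ * χ a = 1 := by rw [← map_mul, inv_mul_cancel, map_one]
      have h0 : χ a⁻¹ ≠ 0 := left_ne_zero_of_mul_eq_one hi
      have h1 : χ a⁻¹ ≠ 1 := fun e => ha (by rwa [e, one_mul] at hi)
      rw [← hn]
      refine three_ker (ρ x) (ρ a) hinj (χ a⁻¹) (by rw [hc, smul_smul, hi, one_smul]) h0 h1 (fun e => h1 ?_)
      obtain ⟨k, hk⟩ := hG a⁻¹
      have hodd : Odd (p ^ k) := ((Fact.out : p.Prime).odd_of_ne_two (by omega)).pow
      obtain ⟨m, hm⟩ := hodd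
      have := congrArg χ hk
      rwa [map_pow, map_one, hm, pow_succ, pow_mul, e, one_pow, one_mul] at this
    obtain ⟨c, hc, hc1⟩ : ∃ c ∈ C, χ c ≠ 1 := by
      by_contra hcon
      push Not at hcon
      exact ha0 (hgen' C hC χ hcon a0)
    obtain ⟨d, hd, hd1⟩ : ∃ d ∈ D, χ d ≠ 1 := by
      by_contra hcon
      push Not at hcon
      exact ha0 (hgen' D hD χ hcon a0)
    have hdis : LinearMap.range (ρ c - 1) ⊓ LinearMap.range (ρ d - 1) = ⊥ := by
      rw [eq_bot_iff]
      rintro _ ⟨⟨u, rfl⟩, w, hw⟩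
      exact h c hc d hd u w hw.symm
    have h1 := Submodule.finrank_sup_add_finrank_inf_eq (LinearMap.range (ρ c - 1)) (LinearMap.range (ρ d - 1))
    rw [hdis, finrank_bot] at h1
    have h2 := Submodule.finrank_le (LinearMap.range (ρ c - 1) ⊔ LinearMap.range (ρ d - 1))
    have h3 := key c hc1
    have h4 := key d hd1
    have h5 : 0 < Module.finrank K V := Module.finrank_pos
    omega

/-- Additive functions on a group. -/
def Hm (K Q : Type*) [Field K] [Group Q] : Submodule K (Q → K) where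
  carrier := {f | ∀ x y, f (x * y) = f x + f y}
  zero_mem' := fun x y => by simp
  add_mem' := fun {f g} hf hg x y => by simp only [Pi.add_apply, hf x y, hg x y]; ring
  smul_mem' := fun c f hf x y => by simp only [Pi.smul_apply, hf x y, smul_add]

/-- The conjugation representation on functions. -/
def cr (K : Type*) [Field K] {G : Type*} [Group G] (P Q : Subgroup G) (hn : P ≤ nrm Q) :
    Representation K P (Q → K) where
  toFun a := LinearMap.funLeft K K (fun x : Q => ⟨(a : G)⁻¹ * x * a, (mem_normalizer_iff''.1 (hn a.2) x).1 x.2⟩)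
  map_one' := by ext f x; simp [LinearMap.funLeft]
  map_mul' a b := by ext f x; simp [LinearMap.funLeft, mul_assoc]

end

/-- Let p ≥ 3 be prime and G a finite group with a Sylow p-subgroup P and a normal p-complement N (N normal, of order prime to p, with NP = G). Suppose P is generated by a subset C and also by a subset D, and that ⟨x c x⁻¹, d⟩ is a p-group for all x ∈ N, c ∈ C, d ∈ D. Then P centralizes N, so that G = N × P. -/
theorem result {G : Type*} [Group G] [Finite G] (p : ℕ) [Fact p.Prime] (hp3 : 3 ≤ p) (P : Sylow p G)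
    (N : Subgroup G) [N.Normal] (hN : (Nat.card N).Coprime p) (hNP : N ⊔ (P : Subgroup G) = ⊤)
    (C D : Set G) (hC : Subgroup.closure C = (P : Subgroup G)) (hD : Subgroup.closure D = (P : Subgroup G))
    (h : ∀ x ∈ N, ∀ c ∈ C, ∀ d ∈ D, IsPGroup p ↥(Subgroup.closure ({x * c * x⁻¹, d} : Set G))) :
    ⁅(P : Subgroup G), N⁆ = ⊥ := by
  open Subgroup in
  have hcop : Cop (P : Subgroup G) N := cop_of_pgroup P.2 hN (le_top.trans (normal_iff_top_le_nrm.1 inferInstance))
  rw [comm_eq_bot]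
  by_contra hk
  obtain ⟨q, hq, hqN, Q, hQ, hPQ, hnc⟩ := hcop.exists_syl_not_cen hk
  haveI := Fact.mk hq
  have hc2 : Cop (P : Subgroup G) Q := hcop.right hQ.le hPQ
  have hbot := hc2.inf_eq_bot
  have hQp : (ord Q).Coprime p := hN.coprime_dvd_left (card_dvd_of_le hQ.le)
  have hfac : ∀ c ∈ C, ∀ d ∈ D, ∀ x ∈ Q, ∃ y ∈ Q, ∃ z ∈ Q, x = y * z ∧ d⁻¹ * y * d = y ∧ c⁻¹ * z * c = z := by
    intro c hc d hd x hx
    have hcP : c ∈ (P : Subgroup G) := hC ▸ subset_closure hc
    have hdP : d ∈ (P : Subgroup G) := hD ▸ subset_closure hd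
    have hle : closure ({x * c * x⁻¹, d} : Set G) ≤ (P : Subgroup G) ⊔ Q := by
      rw [closure_le]
      rintro _ (rfl | rfl)
      · exact mul_mem (mul_mem (mem_sup_right hx) (mem_sup_left hcP)) (inv_mem (mem_sup_right hx))
      · exact mem_sup_left hdP
    obtain ⟨n, hn, hcj⟩ := sz_conj_le (cop_of_pgroup (h x (hQ.le hx) c hc d hd) hQp
      (hle.trans (sup_le hPQ le_normalizer))) hPQ hle hc2.cop
    have fix : ∀ a ∈ (P : Subgroup G), ∀ m ∈ Q, m * a * m⁻¹ ∈ (P : Subgroup G) → a⁻¹ * m * a = m := by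
      intro a ha m hm hma
      have h1 : a⁻¹ * m * a * m⁻¹ ∈ (P : Subgroup G) ⊓ Q := by
        refine mem_inf.2 ⟨?_, mul_mem (conj_mem' hPQ ha hm) (inv_mem hm)⟩
        have := mul_mem (inv_mem ha) hma
        simpa only [mul_assoc] using this
      rw [hbot, mem_bot, mul_inv_eq_one] at h1
      exact h1
    have h1 := fix d hdP n hn (hcj (conj_mem_cj.2 (subset_closure (Or.inr rfl))))
    have h2 := fix c hcP (n * x) (mul_mem hn hx) (by
      have := hcj (conj_mem_cj.2 (subset_closure (Or.inl rfl)))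
      simpa only [mul_assoc, mul_inv_rev] using this)
    refine ⟨n⁻¹, inv_mem hn, n * x, mul_mem hn hx, by group, ?_, h2⟩
    rw [← inv_inj]
    simpa only [mul_assoc, mul_inv_rev, inv_inv] using h1
  let K := AlgebraicClosure (ZMod q)
  have hpK : (p : K) ≠ 0 := by
    intro e
    rw [CharP.cast_eq_zero_iff K q] at e
    exact hq.one_lt.ne' (Nat.eq_one_of_dvd_coprimes hN hqN e)
  have hinv : ∀ a, Hm K Q ≤ (Hm K Q).comap (cr K (P : Subgroup G) Q hPQ a) := by
    intro a f hf x y
    have := hf ⟨(a : G)⁻¹ * x * a, (mem_normalizer_iff''.1 (hPQ a.2) x).1 x.2⟩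
      ⟨(a : G)⁻¹ * y * a, (mem_normalizer_iff''.1 (hPQ a.2) y).1 y.2⟩
    refine Eq.trans ?_ this
    change f _ = f _
    congr 1
    ext
    simp [mul_assoc]
  have hpre : ∀ S : Set G, closure S = (P : Subgroup G) → closure ((P : Subgroup G).subtype ⁻¹' S) = ⊤ := by
    intro S hS
    rw [eq_top_iff']
    intro x
    have h1 : closure S ≤ (closure ((P : Subgroup G).subtype ⁻¹' S)).map (P : Subgroup G).subtype := by
      rw [closure_le]
      intro s hs
      exact ⟨⟨s, hS ▸ subset_closure hs⟩, subset_closure hs, rfl⟩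
    obtain ⟨y, hy, e⟩ := h1 (hS.ge x.2)
    have e' : y = x := Subtype.ext e
    rwa [← e']
  have htriv := lin hpK hp3 P.2 _ _ (hpre C hC) (hpre D hD) _ _
    ((cr K (P : Subgroup G) Q hPQ).subrepresentation _ hinv) rfl (by
      intro c hc d hd u w e
      set f := ((cr K (P : Subgroup G) Q hPQ).subrepresentation _ hinv) c u - u with hf
      ext x
      obtain ⟨y, hy, z, hz, hx, e1, e2⟩ := hfac c hc d hd x x.2
      have hx' : x = ⟨y, hy⟩ * ⟨z, hz⟩ := Subtype.ext hx
      have h1 : f.1 ⟨y, hy⟩ = 0 := by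
        rw [e]
        change w.1 _ - w.1 _ = 0
        rw [sub_eq_zero]
        exact congrArg w.1 (Subtype.ext e1)
      have h2 : f.1 ⟨z, hz⟩ = 0 := by
        change u.1 _ - u.1 _ = 0
        rw [sub_eq_zero]
        exact congrArg u.1 (Subtype.ext e2)
      rw [hx', f.2, h1, h2, add_zero]
      rfl)
  have hlt : Q ⊓ cen (P : Subgroup G) < Q := lt_of_le_of_ne inf_le_left (fun e => hnc (comm_eq_bot'.1 (comm_eq_bot.2 (e.ge.trans inf_le_right))))
  obtain ⟨B, hB1, hB2, hB3, hB4⟩ := exists_index_p hQ.isPGroup hlt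
  haveI := normal_subgroupOf hB4
  let e : (Q ⧸ B.subgroupOf Q) ≃* Multiplicative (ZMod q) := mulEquivOfPrimeCardEq (p := q) hB3 (by simp)
  let f : Hm K Q := ⟨fun x => algebraMap (ZMod q) K (e (QuotientGroup.mk x)).toAdd, fun x y => by
    simp only [QuotientGroup.mk_mul, map_mul, toAdd_mul, map_add]⟩
  have hle : ⁅Q, (P : Subgroup G)⁆ ≤ B := by
    rw [commutator_comm, commutator_le]
    intro a ha x hx
    have h1 := congrFun (congrArg Subtype.val (LinearMap.congr_fun (htriv ⟨a⁻¹, inv_mem ha⟩) f)) ⟨x, hx⟩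
    have h2 := e.injective (Multiplicative.toAdd.injective ((algebraMap (ZMod q) K).injective h1))
    have h3 := QuotientGroup.eq.1 h2.symm
    rw [mem_subgroupOf] at h3
    have h4 := (mem_normalizer_iff.1 (hB4 hx) _).1 h3
    simpa [commutatorElement_def, mul_assoc] using h4
  have h5 : Q ≤ B := hc2.comm_sup_cen.ge.trans (sup_le hle hB1)
  rw [relIndex_eq_one.2 h5] at hB3
  exact hq.one_lt.ne hB3

end Cfsg.Agent.S2277
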