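import Cfsg.Statements.S2280
import Cfsg.Agent.H7.GK
import Cfsg.Agent.H4.SLBasic

set_option autoImplicit false
open Cfsg

namespace Cfsg.Agent.S2280
open H7
open scoped commutatorElement

section
open Subgroup

section
open Matrix
variable {F ι : Type*} [Field F] [Fintype ι] [DecidableEq ι] {H : Subgroup (SpecialLinearGroup ι F)}

def MM (H : Subgroup (SpecialLinearGroup ι F)) (a φ : ι → F) : Prop :=
  φ ⬝ᵥ a = 0 ∧ ∃ g ∈ H, (g : Matrix ι ι F) = 1 + vecMulVec a φ

theorem mul_inv_coe (g : SpecialLinearGroup ι F) : (g : Matrix ι ι F) * (g⁻¹ : SpecialLinearGroup ι F) = 1 := by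
  rw [← Matrix.SpecialLinearGroup.coe_mul, mul_inv_cancel, Matrix.SpecialLinearGroup.coe_one]

theorem inv_mul_coe (g : SpecialLinearGroup ι F) : ((g⁻¹ : SpecialLinearGroup ι F) : Matrix ι ι F) * g = 1 := by
  rw [← Matrix.SpecialLinearGroup.coe_mul, inv_mul_cancel, Matrix.SpecialLinearGroup.coe_one]

theorem MM.conj {a φ : ι → F} (h : MM H a φ) {g : SpecialLinearGroup ι F} (hg : g ∈ H) {ψ : ι → F}
    (e : ψ ᵥ* (g : Matrix ι ι F) = φ) : MM H ((g : Matrix ι ι F) *ᵥ a) ψ := by
  obtain ⟨h0, t, ht, e1⟩ := h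
  refine ⟨by rw [dotProduct_mulVec, e, h0], g * t * g⁻¹, mul_mem (mul_mem hg ht) (inv_mem hg), ?_⟩
  rw [Matrix.SpecialLinearGroup.coe_mul, Matrix.SpecialLinearGroup.coe_mul, e1, mul_add, add_mul, mul_one, mul_inv_coe,
    mul_vecMulVec, vecMulVec_mul, ← e, vecMul_vecMul, mul_inv_coe, vecMul_one]

theorem MM.zero (φ : ι → F) : MM H 0 φ := ⟨by simp, 1, one_mem _, by ext; simp [vecMulVec_apply]⟩

theorem MM.add {a b φ : ι → F} (h : MM H a φ) (h' : MM H b φ) : MM H (a + b) φ := by
  obtain ⟨h0, t, ht, e1⟩ := h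
  obtain ⟨h1, s, hs, e2⟩ := h'
  refine ⟨by rw [dotProduct_add, h0, h1, add_zero], t * s, mul_mem ht hs, ?_⟩
  rw [Matrix.SpecialLinearGroup.coe_mul, e1, e2, mul_add, add_mul, add_mul, vecMulVec_mul_vecMulVec, h1, add_vecMulVec]
  ext; simp [vecMulVec_apply]; ring

theorem MM.neg {a φ : ι → F} (h : MM H a φ) : MM H (-a) φ := by
  obtain ⟨h0, t, ht, e1⟩ := h
  refine ⟨by rw [dotProduct_neg, h0, neg_zero], t⁻¹, inv_mem ht, ?_⟩
  have : (t : Matrix ι ι F) * (1 + vecMulVec (-a) φ) = 1 := by
    rw [e1, mul_add, add_mul, add_mul, vecMulVec_mul_vecMulVec, dotProduct_neg, h0]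
    ext; simp [vecMulVec_apply]
  calc ((t⁻¹ : SpecialLinearGroup ι F) : Matrix ι ι F) = (t⁻¹ : SpecialLinearGroup ι F) * ((t : Matrix ι ι F) * (1 + vecMulVec (-a) φ)) := by
        rw [this, mul_one]
    _ = _ := by rw [← mul_assoc, inv_mul_coe, one_mul]

theorem MM.sub {a b φ : ι → F} (h : MM H a φ) (h' : MM H b φ) : MM H (a - b) φ := by
  rw [sub_eq_add_neg]; exact h.add h'.neg

theorem MM.comm {a b φ ψ : ι → F} (h : MM H a φ) (h' : MM H b ψ) (e : ψ ⬝ᵥ a = 0) : MM H ((φ ⬝ᵥ b) • a) ψ := by
  obtain ⟨h0, t, ht, e1⟩ := h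
  have := (h'.conj ht (ψ := ψ) (by rw [e1, vecMul_add, vecMul_one, vecMul_vecMulVec, e, zero_smul, add_zero])).sub h'
  rw [e1, add_mulVec, one_mulVec, vecMulVec_mulVec, add_sub_cancel_left, op_smul_eq_smul] at this
  exact this

def PP (H : Subgroup (SpecialLinearGroup ι F)) (φ : ι → F) : Prop := ∀ a, φ ⬝ᵥ a = 0 → MM H a φ

theorem PP.conj {φ : ι → F} (h : PP H φ) {g : SpecialLinearGroup ι F} (hg : g ∈ H) : PP H (φ ᵥ* (g : Matrix ι ι F)) := by
  intro a ha
  have := (h ((g : Matrix ι ι F) *ᵥ a) (by rw [dotProduct_mulVec, ha])).conj (inv_mem hg) (ψ := φ ᵥ* (g : Matrix ι ι F))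
    (by rw [vecMul_vecMul, mul_inv_coe, vecMul_one])
  rwa [mulVec_mulVec, inv_mul_coe, one_mulVec] at this

theorem PP.of_smul {φ : ι → F} {c : F} (hc : c ≠ 0) (h : PP H (c • φ)) : PP H φ := by
  intro a ha
  obtain ⟨-, t, ht, e⟩ := h (c⁻¹ • a) (by simp [ha])
  refine ⟨ha, t, ht, ?_⟩
  rw [e, smul_vecMulVec, vecMulVec_smul, smul_smul, inv_mul_cancel₀ hc, one_smul]

theorem gen [Finite F] {n : ℕ} (u v : SpecialLinearGroup (Fin (n + 3)) F) (ε : Fin (n + 2) → F) (hε : ∀ k, ε k ≠ 0)
    (hu0 : u.1 *ᵥ Pi.single 0 1 = Pi.single 0 1)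
    (hu1 : u.1 *ᵥ Pi.single 1 1 = Pi.single 1 1 + Pi.single 0 1)
    (huL : Pi.single (Fin.last _) 1 ᵥ* u.1 = Pi.single (Fin.last _) 1)
    (hv : ∀ k : Fin (n + 2), v.1 *ᵥ Pi.single k.castSucc 1 = Pi.single k.castSucc 1 + ε k • Pi.single k.succ 1)
    (hv' : ∀ k : Fin (n + 2), Pi.single k.succ 1 ᵥ* v.1 = Pi.single k.succ 1 + ε k • Pi.single k.castSucc 1) :
    ∃ c : F, ∀ H : Subgroup (SpecialLinearGroup (Fin (n + 3)) F), u ∈ H → v ∈ H →
      MM H (c • Pi.single 0 1) (Pi.single (Fin.last _) 1) → H = ⊤ := by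
  set L := Fin.last (n + 2) with hL
  let y : Fin (n + 3) → F := Pi.single L 1 ᵥ* (v⁻¹).1
  have hy : y ᵥ* v.1 = Pi.single L 1 := by
    simp only [y]; rw [vecMul_vecMul, inv_mul_coe, vecMul_one]
  have y0 : y 0 ≠ 0 := by
    intro h0
    have : ∀ k, y k = 0 := by
      intro k
      induction k using Fin.induction with
      | zero => exact h0
      | succ k ih =>
        have := dotProduct_mulVec y v.1 (Pi.single k.castSucc 1)
        rw [hy, hv] at this
        simpa [ih, hε k, (Fin.castSucc_lt_last k).ne', hL] using this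
    rw [show y = 0 from funext this, zero_vecMul] at hy
    simpa using congrFun hy L
  obtain ⟨γ, hγ⟩ := IsCyclic.exists_monoid_generator (α := Fˣ)
  set μ := y 0 * ε 0 with hμ
  have μ0 : μ ≠ 0 := mul_ne_zero y0 (hε 0)
  refine ⟨μ⁻¹ * γ, fun H hu hvH h1 => ?_⟩
  have K : ∀ (k : Fin (n + 2)) (c d : F), k.succ ≠ L → MM H (c • Pi.single k.castSucc 1) (Pi.single L 1) →
      MM H (d • Pi.single 0 1) (Pi.single L 1) →
      MM H ((y 0 * d * c) • (Pi.single k.castSucc 1 + ε k • Pi.single k.succ 1)) (Pi.single L 1) := by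
    intro k c d hk a1 a2
    have := (a1.conj hvH hy).comm a2 (by
      rw [mulVec_smul, hv]; simp [Pi.single_eq_of_ne hk, Pi.single_eq_of_ne (show k.castSucc ≠ L from (Fin.castSucc_lt_last k).ne)])
    rw [mulVec_smul, hv, smul_smul] at this
    simpa [mul_comm d] using this
  have n1 : (0 : Fin (n + 2)).succ ≠ L := by simp [hL, Fin.ext_iff]
  have B : ∀ c d : F, MM H (c • Pi.single 0 1) (Pi.single L 1) → MM H (d • Pi.single 0 1) (Pi.single L 1) →
      MM H ((μ * d * c) • Pi.single 0 1) (Pi.single L 1) := by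
    intro c d a1 a2
    have a3 := K 0 c d n1 a1 a2
    have := (a3.conj hu huL).sub a3
    rw [Fin.castSucc_zero, Fin.succ_zero_eq_one, mulVec_smul, mulVec_add, mulVec_smul, hu0, hu1] at this
    convert this using 1
    rw [hμ]; module
  have B1 : ∀ k : ℕ, MM H ((μ⁻¹ * γ ^ (k + 1)) • Pi.single 0 1) (Pi.single L 1) := by
    intro k
    induction k with
    | zero => simpa using h1
    | succ k ih =>
      convert B _ _ ih h1 using 2
      field_simp; ring
  have B2 : ∀ c : F, MM H (c • Pi.single 0 1) (Pi.single L 1) := by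
    intro c
    by_cases c0 : c = 0
    · rw [c0, zero_smul]; exact MM.zero _
    obtain ⟨k, hk⟩ := hγ (Units.mk0 (μ * c) (mul_ne_zero μ0 c0) * γ⁻¹)
    have hk' : (γ : F) ^ k = μ * c * (γ : F)⁻¹ := by simpa using congrArg Units.val hk
    convert B1 k using 2
    rw [pow_succ, hk']; field_simp
  have C : ∀ k : Fin (n + 3), k ≠ L → ∀ c : F, MM H (c • Pi.single k 1) (Pi.single L 1) := by
    intro k
    induction k using Fin.induction with
    | zero => exact fun _ => B2
    | succ k ih =>
      intro hk c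
      have ih := ih (Fin.castSucc_lt_last k).ne
      have := (K k (c / ε k) (y 0)⁻¹ hk (ih _) (B2 _)).sub (ih (c / ε k))
      convert this using 1
      rw [mul_inv_cancel₀ y0, one_mul, smul_add, add_sub_cancel_left, smul_smul, div_mul_cancel₀ _ (hε k)]
  have D : PP H (Pi.single L 1) := by
    intro a ha
    rw [pi_eq_sum_univ' a]
    refine Finset.sum_induction _ (fun b => MM H b (Pi.single L 1)) (fun _ _ => MM.add) (MM.zero _) fun k _ => ?_
    by_cases hk : k = L
    · have : a L = 0 := by simpa using ha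
      rw [hk, this, zero_smul]; exact MM.zero _
    · exact C k hk _
  have E : ∀ k : Fin (n + 3), PP H (Pi.single k 1) := by
    intro k
    induction k using Fin.reverseInduction with
    | last => exact D
    | cast k ih =>
      obtain ⟨-, t, ht, e⟩ := ih ((-(ε k)⁻¹) • Pi.single k.castSucc 1) (by simp [(Fin.castSucc_lt_succ (i := k)).ne'])
      have := (ih.conj hvH).conj ht
      rw [hv', e, vecMul_add, vecMul_one, vecMul_vecMulVec] at this
      refine PP.of_smul (hε k) ?_
      convert this using 1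
      simp [(Fin.castSucc_lt_succ (i := k)).ne', (Fin.castSucc_lt_succ (i := k)).ne, hε k]
  refine H4.sl_eq_top_of_transvection H fun i j h c => ?_
  obtain ⟨-, t, ht, e⟩ := E j (c • Pi.single i 1) (by simp [h.symm])
  convert ht using 1
  apply Subtype.ext
  rw [Matrix.SpecialLinearGroup.transvection_coe]
  refine Eq.trans ?_ e.symm
  rw [smul_vecMulVec, ← single_eq_single_vecMulVec_single, smul_single, smul_eq_mul, mul_one]

theorem N_pow {n : ℕ} (k : ℕ) (x : Fin n → F) :
    (of fun i j : Fin n => if j.val = i.val + 1 then (1 : F) else 0) ^ k *ᵥ x =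
      fun i => if h : i.val + k < n then x ⟨i.val + k, h⟩ else 0 := by
  induction k with
  | zero => simp
  | succ k ih =>
    rw [pow_succ', ← mulVec_mulVec, ih]
    funext i
    simp only [mulVec, dotProduct, of_apply, ite_mul, one_mul, zero_mul]
    by_cases h1 : i.val + 1 < n
    · rw [Finset.sum_eq_single ⟨i.val + 1, h1⟩ (fun b _ hb => if_neg fun e => hb (Fin.ext e)) (by simp), if_pos rfl]
      simp only [add_assoc, add_comm 1 k]
    · rw [dif_neg (by omega)]
      exact Finset.sum_eq_zero fun b _ => if_neg (by have := b.2; omega)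

end

end

/-- Let F be a finite field and n ≥ 3. Then SL_n(F) is generated by three conjugate regular unipotent elements: there are u with u − 1 nilpotent and (u − 1)^(n−1) ≠ 0, and g, h, such that u, g u g⁻¹ and h u h⁻¹ generate SL_n(F). -/
theorem result {F : Type*} [Field F] [Fintype F] (n : ℕ) (hn : 3 ≤ n) :
    ∃ u g h : Matrix.SpecialLinearGroup (Fin n) F, (IsNilpotent ((u : Matrix (Fin n) (Fin n) F) - 1) ∧ ((u : Matrix (Fin n) (Fin n) F) - 1) ^ (n - 1) ≠ 0) ∧
      Subgroup.closure ({u, g * u * g⁻¹, h * u * h⁻¹} : Set (Matrix.SpecialLinearGroup (Fin n) F)) = ⊤ := by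
  open Subgroup in
  open Matrix in
  classical
  obtain ⟨m, rfl⟩ : ∃ m, n = m + 3 := ⟨n - 3, by omega⟩
  let N : Matrix (Fin (m + 3)) (Fin (m + 3)) F := of fun i j => if j.val = i.val + 1 then (1 : F) else 0
  obtain ⟨u, hu⟩ : ∃ u : SpecialLinearGroup (Fin (m + 3)) F, u.1 = 1 + N := by
    refine ⟨⟨_, ?_⟩, rfl⟩
    rw [det_of_upperTriangular]
    · simp [N]
    · intro i j hij
      have hij' : j.val < i.val := hij
      simp only [N, Matrix.add_apply, of_apply]
      rw [one_apply_ne (show i ≠ j from ne_of_gt hij), if_neg (by omega), add_zero]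
  let s : F := ((Equiv.Perm.sign (Fin.revPerm : Equiv.Perm (Fin (m + 3))) : ℤ) : F)
  have ss : s * s = 1 := by
    simp only [s]; rw [← Int.cast_mul, ← Units.val_mul, Int.units_mul_self]; simp
  let d : Fin (m + 3) → F := fun i => if i = 0 then s else 1
  have dd : ∀ i, d i * d i = 1 := fun i => by simp only [d]; split_ifs <;> simp [ss]
  obtain ⟨h, hh⟩ : ∃ h : SpecialLinearGroup (Fin (m + 3)) F, h.1 = diagonal d * Equiv.Perm.permMatrix F Fin.revPerm := by
    refine ⟨⟨_, ?_⟩, rfl⟩
    rw [det_mul, det_diagonal, det_permutation, Finset.prod_ite_eq']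
    simpa using ss
  let V : Matrix (Fin (m + 3)) (Fin (m + 3)) F := 1 + of fun i j => if i.val = j.val + 1 then d i * d j else 0
  have hV : (h * u * h⁻¹).1 = V := by
    have : h.1 * u.1 = V * h.1 := by
      rw [hh, hu, mul_assoc, ← mul_assoc V, Equiv.Perm.permMatrix, PEquiv.toMatrix_toPEquiv_mul, PEquiv.mul_toMatrix_toPEquiv]
      ext i j
      simp only [diagonal_mul, mul_diagonal, submatrix_apply, V, N, Matrix.add_apply, of_apply, id, Fin.revPerm_apply,
        Fin.revPerm_symm, one_apply, Fin.rev_eq_iff, Fin.val_rev]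
      have := i.2
      have := j.2
      by_cases h1 : i = j.rev
      · subst h1
        rw [if_pos rfl, if_neg (by simp; omega), if_neg (by simp)]; simp
      · rw [if_neg h1]
        by_cases h2 : j.val = m + 3 - (i.val + 1) + 1
        · rw [if_pos h2, if_pos (by omega)]
          linear_combination (-d i) * dd j.rev
        · rw [if_neg h2, if_neg (by omega)]; simp
    rw [Matrix.SpecialLinearGroup.coe_mul, Matrix.SpecialLinearGroup.coe_mul, this, mul_assoc, mul_inv_coe, mul_one]
  obtain ⟨c, hc⟩ := gen u (h * u * h⁻¹) (fun k => d k.succ * d k.castSucc)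
    (fun k => mul_ne_zero (left_ne_zero_of_mul_eq_one (dd _)) (left_ne_zero_of_mul_eq_one (dd _)))
    (by rw [hu, mulVec_single_one]; ext i; simp [N, one_apply, Pi.single_apply])
    (by
      rw [hu, mulVec_single_one]; ext i
      simp only [N, col_apply, Matrix.add_apply, one_apply, of_apply, Pi.add_apply, Pi.single_apply, Fin.val_one, Fin.ext_iff,
        Fin.val_zero]
      congr 1
      exact if_congr (by omega) rfl rfl)
    (by
      rw [hu, single_one_vecMul]; ext i
      have := i.2
      simp only [N, row_apply, Matrix.add_apply, one_apply, of_apply, Pi.single_apply, Fin.ext_iff, Fin.val_last]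
      rw [if_neg (show ¬ i.val = m + 2 + 1 by omega), add_zero]
      exact if_congr eq_comm rfl rfl)
    (fun k => by
      rw [hV, mulVec_single_one]; ext i
      simp only [V, col_apply, Matrix.add_apply, one_apply, of_apply, Pi.add_apply, Pi.smul_apply, Pi.single_apply,
        Fin.val_castSucc, smul_eq_mul]
      congr 1
      by_cases h1 : i = k.succ
      · subst h1; simp
      · rw [if_neg h1, if_neg (show ¬ i.val = k.val + 1 from fun e => h1 (Fin.ext e)), mul_zero])
    (fun k => by
      rw [hV, single_one_vecMul]; ext i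
      simp only [V, row_apply, Matrix.add_apply, one_apply, of_apply, Pi.add_apply, Pi.smul_apply, Pi.single_apply,
        Fin.val_succ, smul_eq_mul]
      congr 1
      · exact if_congr eq_comm rfl rfl
      by_cases h1 : i = k.castSucc
      · subst h1; simp
      · rw [if_neg h1, if_neg (fun e => h1 (Fin.ext (by simp; omega))), mul_zero])
  have h1L : (1 : Fin (m + 3)) ≠ Fin.last _ := by simp [Fin.ext_iff]
  have h0L : (0 : Fin (m + 3)) ≠ Fin.last _ := by simp [Fin.ext_iff]
  refine ⟨u, SpecialLinearGroup.transvection h1L (-c), h, ⟨⟨m + 3, ?_⟩, ?_⟩, hc _ (Subgroup.subset_closure (by simp))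
    (Subgroup.subset_closure (by simp)) ⟨by simp [h0L.symm], u⁻¹ * (SpecialLinearGroup.transvection h1L (-c) * u *
      (SpecialLinearGroup.transvection h1L (-c))⁻¹), mul_mem (inv_mem (Subgroup.subset_closure (by simp)))
        (Subgroup.subset_closure (by simp)), ?_⟩⟩
  · rw [hu, add_sub_cancel_left]
    refine Matrix.ext_of_mulVec_single fun j => ?_
    rw [N_pow, zero_mulVec]
    funext i
    exact dif_neg (by omega)
  · rw [hu, add_sub_cancel_left]
    intro e
    have := congrFun (N_pow (F := F) (n := m + 3) (m + 3 - 1) (Pi.single (Fin.last _) 1)) 0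
    rw [e, zero_mulVec, dif_pos (by simp)] at this
    simp [Pi.single_apply, Fin.ext_iff] at this
  · have e1 : N * single 1 (Fin.last _) c = single 0 (Fin.last _) c := by
      ext i j
      by_cases hj : j = Fin.last _
      · subst hj
        rw [mul_single_apply_same]
        simp only [N, of_apply, single_apply, Fin.val_one, and_true, ite_mul, one_mul, zero_mul]
        have : (1 = i.val + 1) ↔ (0 = i) := by rw [Fin.ext_iff, Fin.val_zero]; omega
        simp only [this]
        split_ifs <;> simp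
      · rw [mul_single_apply_of_ne _ _ _ _ _ hj, single_apply_of_col_ne _ _ (Ne.symm hj)]
    have e2 : ∀ (a : Fin (m + 3)) (x : F), single a (Fin.last _) x * N = 0 := by
      intro a x
      ext i j
      have := j.2
      by_cases hi : i = a
      · subst hi
        rw [single_mul_apply_same]
        simp only [N, of_apply, Fin.val_last]
        rw [if_neg (by omega)]; simp
      · rw [single_mul_apply_of_ne _ _ _ _ _ hi]; rfl
    have e3 : N * single 0 (Fin.last _) c = 0 := by
      ext i j
      by_cases hj : j = Fin.last _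
      · subst hj
        rw [mul_single_apply_same]
        simp [N]
      · rw [mul_single_apply_of_ne _ _ _ _ _ hj]; rfl
    have e4 : SpecialLinearGroup.transvection h1L (-c) * u * (SpecialLinearGroup.transvection h1L (-c))⁻¹ =
        u * SpecialLinearGroup.transvection h0L c := by
      rw [SpecialLinearGroup.transvection_inv, neg_neg]
      apply Subtype.ext
      rw [Matrix.SpecialLinearGroup.coe_mul, Matrix.SpecialLinearGroup.coe_mul, Matrix.SpecialLinearGroup.coe_mul,
        SpecialLinearGroup.transvection_coe, SpecialLinearGroup.transvection_coe, SpecialLinearGroup.transvection_coe, hu]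
      simp only [mul_add, add_mul, one_mul, mul_one, e1, e2, e3, add_zero, zero_mul,
        single_mul_single_of_ne _ _ _ _ h1L.symm]
      rw [← single_neg]
      abel
    rw [e4, inv_mul_cancel_left, SpecialLinearGroup.transvection_coe, smul_vecMulVec, ← single_eq_single_vecMulVec_single,
      smul_single, smul_eq_mul, mul_one]

end Cfsg.Agent.S2280
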