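import Cfsg.Statements.S2360
import Cfsg.Agent.S2365

set_option autoImplicit false
open Cfsg

namespace Cfsg.Agent.S2360

open Polynomial Module H4 H4.Form H3.RCF H3.Wall H3.Spec

section
variable {F : Type*} [Field F] {K : Kind F} {V : Type*} [AddCommGroup V] [Module F V]
  [FiniteDimensional F V] {f : Form K V} (hf : f.ND) (h2 : (2 : F) ≠ 0) {t x : f.Isom}

omit [FiniteDimensional F V] in
theorem ng (ht : t * t = 1) {v : V} (h : v ∈ LinearMap.range (nil t.1)) : t.1 v = -v := by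
  obtain ⟨w, rfl⟩ := h
  rw [nil_apply, map_sub, show t.1 (t.1 w) = w from LinearEquiv.congr_fun (congrArg Subtype.val ht) w,
    neg_sub]

include hf in
theorem ps {v : V} : v ∈ f.perp (LinearMap.range (nil t.1)) ↔ t.1 v = v := by
  rw [perp_range_nil hf, LinearMap.mem_ker, nil_apply, sub_eq_zero]

include hf h2
theorem nd' (ht : t * t = 1) : f.NDOn (LinearMap.range (nil t.1)) :=
  nd_range_nil hf (n := 2) (by rw [sq]; exact congrArg Subtype.val ht) (by exact_mod_cast h2)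

theorem sm (ht : t * t = 1) {a b : ℕ} (ha : finrank F (LinearMap.range (nil t.1)) = a)
    (hb : finrank F (f.perp (LinearMap.range (nil t.1))) = b) :
    Sim (((-1 : F) • (1 : End F (Fin a → F))).prodMap (1 : End F (Fin b → F))) t.1.toLinearMap := by
  let e1 := LinearEquiv.ofFinrankEq (Fin a → F) _ ((finrank_fin_fun F).trans ha.symm)
  let e2 := LinearEquiv.ofFinrankEq (Fin b → F) _ ((finrank_fin_fun F).trans hb.symm)
  refine ⟨(e1.prodCongr e2).trans (Submodule.prodEquivOfIsCompl _ _ (nd' hf h2 ht).isCompl),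
    fun v => ?_⟩
  simp [ng ht (e1 v.1).2, (ps hf).1 (e2 v.2).2]

theorem dim (h3 : finrank F V = 3) (ht : t * t = 1) (h1 : t ≠ 1) (hd : t ∈ f.SI) :
    finrank F (LinearMap.range (nil t.1)) = 2 ∧
      finrank F (f.perp (LinearMap.range (nil t.1))) = 1 := by
  have a := (sm hf h2 ht rfl rfl).det
  have b := hf.finrank_perp (LinearMap.range (nil t.1))
  have c : finrank F (LinearMap.range (nil t.1)) ≠ 0 := fun h => h1 (Subtype.ext (rk_eq_zero.1 h))
  rw [← coe_idet, f.mem_SI.1 hd, LinearMap.det_prodMap, LinearMap.det_smul, map_one, map_one,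
    finrank_fin_fun, mul_one, mul_one, neg_one_pow_eq_one_iff_even (fun h => h2 (by
      linear_combination -h))] at a
  obtain ⟨k, hk⟩ := a
  omega

theorem cen (ht : t * t = 1) : Subgroup.centralizer {t} = f.stabSub (LinearMap.range (nil t.1)) := by
  ext g
  rw [Subgroup.mem_centralizer_singleton_iff]
  refine ⟨stab_range_nil, fun h => Subtype.ext (ext_of_isCompl (nd' hf h2 ht).isCompl
    (fun v hv => ?_) fun v hv => ?_)⟩
  · show g.1 (t.1 v) = t.1 (g.1 v)
    rw [ng ht hv, ng ht ((h v).1 hv), map_neg]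
  · show g.1 (t.1 v) = t.1 (g.1 v)
    rw [(ps hf).1 hv, (ps hf).1 ((f.stabSub_le_perp _ h v).1 hv)]

theorem eqv (h3 : finrank F V = 3) (ht : t * t = 1) (h1 : t ≠ 1) (hd : t ∈ f.SI) (hx : x * x = 1)
    (x1 : x ≠ 1) (xd : x ∈ f.SI) {v : V} (v0 : v ≠ 0) (a : t.1 v = v) (b : x.1 v = v) : x = t := by
  have k : ∀ t : f.Isom, t * t = 1 → t ≠ 1 → t ∈ f.SI → t.1 v = v →
      LinearMap.range (nil t.1) = f.perp (F ∙ v) := fun t ht h1 hd a => by
    rw [← hf.perp_perp (LinearMap.range _), ← Submodule.eq_of_le_of_finrank_eq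
      ((Submodule.span_singleton_le_iff_mem _ _).2 ((ps hf).2 a))
      ((finrank_span_singleton v0).trans (dim hf h2 h3 ht h1 hd).2.symm)]
  have e := (k x hx x1 xd b).trans (k t ht h1 hd a).symm
  exact Subtype.ext (ext_of_isCompl (nd' hf h2 ht).isCompl
    (fun w hw => by rw [ng ht hw, ng hx (e ▸ hw)])
    fun w hw => by rw [(ps hf).1 hw, (ps hf).1 (e ▸ hw)])

theorem kk (h3 : finrank F V = 3) (ht : t * t = 1) (h1 : t ≠ 1) (hd : t ∈ f.SI) :
    ∃ v : V, v ≠ 0 ∧ t.1 v = v ∧ ∀ x : f.Isom, x * x = 1 → x ≠ 1 → x ∈ f.SI → x ≠ t →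
      Commute t x → x.1 v = -v := by
  obtain ⟨⟨v, hv⟩, v0, h⟩ := finrank_eq_one_iff'.1 (dim hf h2 h3 ht h1 hd).2
  have v0' : v ≠ 0 := fun e => v0 (Subtype.ext e)
  refine ⟨v, v0', (ps hf).1 hv, fun x hx x1 xd xt c => ?_⟩
  obtain ⟨c, hc⟩ := h ⟨x.1 v, (f.stabSub_le_perp _ (stab_range_nil c.symm) v).1 hv⟩
  have e : c • v = x.1 v := congrArg Subtype.val hc
  have e2 : x.1 (x.1 v) = v := LinearEquiv.congr_fun (congrArg Subtype.val hx) v
  rw [← e, map_smul, ← e, smul_smul] at e2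
  rcases mul_self_eq_one_iff.1 (smul_left_injective F v0' (e2.trans (one_smul F v).symm)) with rfl | rfl
  · exact absurd (eqv hf h2 h3 ht h1 hd hx x1 xd v0' ((ps hf).1 hv) (by rw [← e, one_smul])) xt
  · rw [← e, neg_one_smul]

theorem last (h3 : finrank F V = 3) {t x y : f.SI} (ht : t * t = 1) (h1 : t ≠ 1) (hx : x * x = 1)
    (x1 : x ≠ 1) (xt : x ≠ t) (c : Commute t x) (hy : y * y = 1) (y1 : y ≠ 1) (yt : y ≠ t)
    (yx : y ≠ x) (c1 : Commute t y) (c2 : Commute x y) : y = t * x := by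
  have n : ∀ {a b : f.SI}, a ≠ b → a.1 ≠ b.1 := fun h => Subtype.coe_injective.ne h
  have v : ∀ {a b : f.SI}, a = b → a.1 = b.1 := congrArg Subtype.val
  obtain ⟨u, u0, u1, u2⟩ := kk hf h2 h3 (v ht) (n h1) t.2
  have i3 : x * y * (x * y) = 1 := by rw [c2.symm.mul_mul_mul_comm, hx, hy, one_mul]
  have := eqv hf h2 h3 (v ht) (n h1) t.2 (v i3) (n fun h : x * y = 1 => yx (by
    rw [← one_mul y, ← hx, mul_assoc, h, mul_one])) (x * y).2 u0 u1 (by
      show x.1.1 (y.1.1 u) = u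
      rw [u2 _ (v hy) (n y1) y.2 (n yt) (v c1), map_neg, u2 _ (v hx) (n x1) x.2 (n xt) (v c), neg_neg])
  rw [c.eq, ← (Subtype.ext this : x * y = t), ← mul_assoc, hx, one_mul]

end

/-- Let q be odd, F the field with q² elements and S = SU_3(F) (determinant-one isometries of the standard Hermitian form). Then all involutions of S are conjugate; there are exactly q²(q²−q+1) of them; the centralizer of an involution has order q(q+1)(q²−1), the order of the full unitary group of degree 2; and for two distinct commuting involutions t and x there is exactly one further involution commuting with both. -/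
theorem result {F : Type*} [Field F] [Fintype F] {q : ℕ} (hq : Odd q)
    (hF : Fintype.card F = q ^ 2) (t : ↥(Cfsg.SU 3 F q)) (ht : t ≠ 1) (ht2 : t * t = 1) :
    (∀ x : ↥(Cfsg.SU 3 F q), x ≠ 1 → x * x = 1 → ∃ g : ↥(Cfsg.SU 3 F q), g * t * g⁻¹ = x) ∧
    Nat.card {x : ↥(Cfsg.SU 3 F q) // x ≠ 1 ∧ x * x = 1} = q ^ 2 * (q ^ 2 - q + 1) ∧
    Nat.card ↥(Subgroup.centralizer ({t} : Set ↥(Cfsg.SU 3 F q))) = q * (q + 1) * (q ^ 2 - 1) ∧
    ∀ x : ↥(Cfsg.SU 3 F q), x ≠ 1 → x * x = 1 → x ≠ t → Commute t x →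
      Nat.card {y : ↥(Cfsg.SU 3 F q) // y ≠ 1 ∧ y * y = 1 ∧ y ≠ t ∧ y ≠ x ∧ Commute t y ∧ Commute x y} = 1 := by
  set_option maxSynthPendingDepth 3 in
  obtain ⟨p, hch⟩ := CharP.exists F
  have hp := CharP.char_is_prime F p
  have := Fact.mk hp
  have q2 := two_le_of_card_sq hF
  have h2 : (2 : F) ≠ 0 := H4.odd_card_iff.1 (by rw [Nat.card_eq_fintype_card, hF]; exact hq.pow)
  have cp : Nat.Coprime 2 p := (Nat.coprime_primes Nat.prime_two hp).2 fun h => h2 (by
    have := CharP.cast_eq_zero F p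
    rwa [← h] at this)
  have hf := uForm_ND hF 3
  have h3 : finrank F (Fin 3 → F) = 3 := finrank_fin_fun F
  have := (uForm hF 3).finite_Isom
  let e := suEquiv hF 3
  have : Finite (Cfsg.SU 3 F q) := Finite.of_equiv _ e.symm.toEquiv
  have i1 : ∀ {x : Cfsg.SU 3 F q}, x * x = 1 → e x * e x = 1 := fun h => by rw [← map_mul, h, map_one]
  have n1 : ∀ {x : Cfsg.SU 3 F q}, x ≠ 1 → e x ≠ 1 := fun h => e.map_ne_one_iff.2 h
  have n : ∀ {a b : (uForm hF 3).SI}, a ≠ b → a.1 ≠ b.1 := fun h => Subtype.coe_injective.ne h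
  have v : ∀ {a b : (uForm hF 3).SI}, a = b → a.1 = b.1 := congrArg Subtype.val
  have dt := dim hf h2 h3 (v (i1 ht2)) (n (n1 ht)) (e t).2
  have zz : ∀ g : (uForm hF 3).Isom, ∃ z : (uForm hF 3).Isom, z * (e t).1 = (e t).1 * z ∧
      (uForm hF 3).idet z = (uForm hF 3).idet g := fun g => by
    obtain ⟨z, z1, z2, z3⟩ := su_det hF cp (e t).1.2 (by
      rw [sq]; exact congrArg Subtype.val (v (i1 ht2))) (idet_norm hf g)
    exact ⟨⟨z, z1⟩, Subtype.ext z2, Units.ext ((coe_idet _ _).trans z3)⟩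
  have A : ∀ x : Cfsg.SU 3 F q, x ≠ 1 → x * x = 1 → ∃ g, g * t * g⁻¹ = x := fun x a b => by
    have dx := dim hf h2 h3 (v (i1 b)) (n (n1 a)) (e x).2
    obtain ⟨c, hc⟩ : ∃ c : (uForm hF 3).Isom, c * (e t).1 * c⁻¹ = (e x).1 := isConj_iff.1 (conj_herm (fun h => (u_omega (hF := hF)).elim fun w k => k
      (RingHom.congr_fun h w)) hf ((sm hf h2 (v (i1 ht2)) dt.1 dt.2).symm.trans
        (sm hf h2 (v (i1 b)) dx.1 dx.2)))
    obtain ⟨z, z1, z2⟩ := zz c⁻¹
    refine ⟨e.symm ⟨c * z, by rw [SI, MonoidHom.mem_ker, map_mul, z2, map_inv, mul_inv_cancel]⟩,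
      e.injective (Subtype.ext ?_)⟩
    rw [map_mul, map_mul, map_inv e, e.apply_symm_apply, ← hc]
    show c * z * _ * (c * z)⁻¹ = _
    rw [mul_assoc c, z1]; group
  have C : Nat.card (Subgroup.centralizer ({t} : Set (Cfsg.SU 3 F q))) = q * (q + 1) * (q ^ 2 - 1) := by
    rw [card_cent_congr e]
    let φ := (uForm hF 3).idet.comp (Subgroup.centralizer {(e t).1}).subtype
    have a := φ.ker.card_mul_index
    have r : φ.range = (uForm hF 3).idet.range := le_antisymm (by rintro _ ⟨g, rfl⟩; exact ⟨_, rfl⟩) (by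
      rintro _ ⟨g, rfl⟩
      obtain ⟨z, z1, z2⟩ := zz g
      exact ⟨⟨z, Subgroup.mem_centralizer_singleton_iff.2 z1⟩, z2⟩)
    have b := (uForm hF 3).SI.index_mul_card
    rw [← u_card_SI hf (by simp), Nat.mul_left_inj Nat.card_pos.ne', SI, Subgroup.index_ker] at b
    have nd := nd' hf h2 (v (i1 ht2))
    rw [Subgroup.index_ker, r, b] at a
    replace a := a.trans (congrArg (fun H : Subgroup (uForm hF 3).Isom => Nat.card H)
      (cen hf h2 (v (i1 ht2))))
    rw [Nat.card_congr nd.stabEquiv.toEquiv, Nat.card_prod, u_card_Isom 2 _ _ ((uForm hF 3).restrict_ND.2 nd) dt.1,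
      u_card_Isom 1 _ _ ((uForm hF 3).restrict_ND.2 (nd.perp hf)) dt.2] at a
    have c : Nat.card φ.ker = Nat.card (Subgroup.centralizer {e t}) := Nat.card_congr
      { toFun := fun g => ⟨⟨g.1.1, g.2⟩, Subgroup.mem_centralizer_singleton_iff.2
          (Subtype.ext (Subgroup.mem_centralizer_singleton_iff.1 g.1.2))⟩
        invFun := fun g => ⟨⟨g.1.1, Subgroup.mem_centralizer_singleton_iff.2
          (v (Subgroup.mem_centralizer_singleton_iff.1 g.2))⟩, g.1.2⟩
        left_inv := fun _ => rfl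
        right_inv := fun _ => rfl }
    rw [← c]
    refine Nat.eq_of_mul_eq_mul_right (Nat.succ_pos q) (a.trans ?_)
    simp [Finset.prod_range_succ, mul_assoc]
  refine ⟨A, ?_, C, fun x a b c d => ?_⟩
  · have o := (MulAction.stabilizer (ConjAct (Cfsg.SU 3 F q)) t).index_mul_card
    rw [MulAction.index_stabilizer, ← Subgroup.nat_card_centralizer_nat_card_stabilizer, C,
      Nat.card_congr (ConjAct.ofConjAct (G := Cfsg.SU 3 F q)).toEquiv, S2365.csu hF 2] at o
    have s : MulAction.orbit (ConjAct (Cfsg.SU 3 F q)) t = {x | x ≠ 1 ∧ x * x = 1} := by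
      ext x
      rw [ConjAct.mem_orbit_conjAct, isConj_comm, isConj_iff]
      refine ⟨fun ⟨g, h⟩ => h ▸ ⟨fun k => ht (by simpa using k), ?_⟩, fun h => A x h.1 h.2⟩
      rw [conj_mul, ht2]; simp
    rw [s] at o
    obtain ⟨a1, -, -, a4, -⟩ := S2366.e1 q2
    refine Nat.eq_of_mul_eq_mul_right (show 0 < q * (q + 1) * (q ^ 2 - 1) by
      rw [a1]; exact Nat.mul_pos (by positivity) (Nat.mul_pos (by omega) (by omega))) (o.trans ?_)
    simp only [Finset.prod_range_succ, Finset.prod_range_zero]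
    norm_num
    rw [a4]; ring
  · refine Nat.card_eq_one_iff_exists.2 ⟨⟨t * x, fun h => c ?_, ?_, fun h => a (by simpa using h),
      fun h => ht (by simpa using h), (Commute.refl t).mul_right d, d.symm.mul_right (.refl x)⟩,
      fun ⟨y, y1, y2, y3, y4, y5, y6⟩ => Subtype.ext (e.injective ?_)⟩
    · rw [← one_mul x, ← ht2, mul_assoc, h, mul_one]
    · rw [d.symm.mul_mul_mul_comm, ht2, b, one_mul]
    · exact (last hf h2 h3 (i1 ht2) (n1 ht) (i1 b) (n1 a) (e.injective.ne c) (d.map e) (i1 y2) (n1 y1)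
        (e.injective.ne y3) (e.injective.ne y4) (y5.map e) (y6.map e)).trans (map_mul e _ _).symm

end Cfsg.Agent.S2360
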