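import Cfsg.Statements.S2364
import Cfsg.Agent.S2470

set_option autoImplicit false
open Cfsg

namespace Cfsg.Agent.S2364

open H3.Spec S2470

theorem dsl {F : Type*} [Field F] [Fintype F] {m i : ℕ} (h1 : i + 2 ≤ m) :
    Nat.card F ^ i * (Nat.card F ^ (m - i) - 1) ∣ Nat.card (Matrix.SpecialLinearGroup (Fin m) F) := by
  have q1 : 0 < Fintype.card F - 1 := Nat.sub_pos_of_lt Fintype.one_lt_card
  refine Nat.dvd_of_mul_dvd_mul_left q1 ?_
  rw [H4.card_sl_mul m (by omega), Fin.prod_univ_eq_prod_range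
    (fun j => Fintype.card F ^ m - Fintype.card F ^ j), Nat.card_eq_fintype_card]
  obtain ⟨m, rfl⟩ : ∃ k, m = k + 1 := ⟨m - 1, by omega⟩
  rw [Finset.prod_range_succ, mul_comm]
  refine Nat.mul_dvd_mul ?_ ⟨Fintype.card F ^ m, by
    rw [Nat.sub_one_mul, ← pow_succ']⟩
  rw [Nat.mul_sub_one, ← pow_add, show i + (m + 1 - i) = m + 1 by omega]
  exact Finset.dvd_prod_of_mem (fun j => Fintype.card F ^ (m + 1) - Fintype.card F ^ j)
    (Finset.mem_range.2 (by omega))

/-- Let F be a finite field of characteristic p, n ≥ 4, and let a, b be commuting elements of PSL(n, F) with a of order p. Then every prime divisor of the order of b divides the order of SL(n − 2, F). -/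
theorem result {F : Type*} [Field F] [Fintype F] (p : ℕ) [Fact p.Prime] [CharP F p] (n : ℕ) (hn : 4 ≤ n)
    (a b : Matrix.ProjectiveSpecialLinearGroup (Fin n) F) (ha : orderOf a = p) (hab : Commute a b) :
    (orderOf b).primeFactors ⊆ (Nat.card (Matrix.SpecialLinearGroup (Fin (n - 2)) F)).primeFactors := by
  set_option maxSynthPendingDepth 3 in
  intro r h
  obtain ⟨hr, h1, -⟩ := Nat.mem_primeFactors.1 h
  refine Nat.mem_primeFactors.2 ⟨hr, ?_, Nat.card_pos.ne'⟩
  have := Fact.mk hr
  have hp : p.Prime := Fact.out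
  have key : ∀ j, 1 ≤ j → j + 2 ≤ n → r ∣ Nat.card F ^ j - 1 →
      r ∣ Nat.card (Matrix.SpecialLinearGroup (Fin (n - 2)) F) := fun j a b c => by
    have : ∀ j, 2 ≤ j → j + 2 ≤ n → r ∣ Nat.card F ^ j - 1 →
        r ∣ Nat.card (Matrix.SpecialLinearGroup (Fin (n - 2)) F) := fun j a b c =>
      (Dvd.dvd.mul_left (by rwa [show n - 2 - (n - 2 - j) = j by omega]) _).trans
        (dsl (i := n - 2 - j) (by omega))
    by_cases h : j = 1
    · exact this 2 le_rfl hn (c.trans (by simpa [h] using Nat.sub_dvd_pow_sub_pow (Nat.card F) 1 2))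
    · exact this j (by omega) b c
  by_cases hrp : r = p
  · subst hrp
    have cq := S2511.copu (F := F) (p := r) F
    have pq := S2474.pq (F := F) (p := r)
    rw [Nat.card_units, Nat.card_eq_fintype_card] at cq
    rw [Nat.card_eq_fintype_card] at pq
    refine cq.symm.dvd_of_dvd_mul_left ?_
    rw [H4.card_sl_mul (n - 2) (by omega)]
    exact (Nat.dvd_sub (pq.pow (by omega)) (pq.pow one_ne_zero)).trans (Finset.dvd_prod_of_mem
      (fun i : Fin (n - 2) => Fintype.card F ^ (n - 2) - Fintype.card F ^ (i : ℕ))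
      (Finset.mem_univ ⟨1, by omega⟩))
  by_cases h2 : r = 2
  · subst h2
    refine key 1 le_rfl (by omega) ?_
    have := (S2474.em (F := F) hr hrp).2.1
    rw [pow_one]; omega
  have o := orderOf_pow_orderOf_div (orderOf_pos b).ne' h1
  have := neg p h2 hrp ⟨b ^ (orderOf b / r) * a, by
    rw [(hab.symm.pow_left _).orderOf_mul_eq_mul_orderOf_of_coprime (by
      rw [o, ha]; exact (Nat.coprime_primes hr hp).2 hrp), o, ha]⟩
  exact key _ (k0 p hrp) this ((kd _).2 dvd_rfl)

end Cfsg.Agent.S2364
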