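import Cfsg.Statements.S2468
import Cfsg.Agent.S2470

set_option autoImplicit false
open Cfsg

namespace Cfsg.Agent.S2468

open Polynomial Module H3.RCF H3.Wall H3.Spec S2470

/-- Adjacency of two odd primes in the prime graph of PSL(n,q): let F be a finite field of characteristic p with q elements, n ≥ 2 with PSL(n,F) simple, and let r ≠ s be odd primes different from p dividing the order of PSL(n,F). Let k and l be the multiplicative orders of q modulo r and modulo s, and suppose 2 ≤ k ≤ l. Then PSL(n,F) has NO element of order r·s if and only if k + l > n and k does not divide l. -/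
theorem result {F : Type*} [Field F] [Fintype F] (p : ℕ) [Fact p.Prime] [CharP F p] (n : ℕ) (hn : 2 ≤ n) (hsmall : n = 2 → 4 ≤ Fintype.card F)
    (r s : ℕ) (hr : r.Prime) (hs : s.Prime) (hr2 : r ≠ 2) (hs2 : s ≠ 2) (hrp : r ≠ p) (hsp : s ≠ p) (hrs : r ≠ s)
    (hrG : r ∣ Nat.card (Matrix.ProjectiveSpecialLinearGroup (Fin n) F)) (hsG : s ∣ Nat.card (Matrix.ProjectiveSpecialLinearGroup (Fin n) F))
    (k l : ℕ) (hk : k = orderOf ((Fintype.card F : ℕ) : ZMod r)) (hl : l = orderOf ((Fintype.card F : ℕ) : ZMod s))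
    (h2k : 2 ≤ k) (hkl : k ≤ l) :
    (r * s ∉ Set.range (orderOf : Matrix.ProjectiveSpecialLinearGroup (Fin n) F → ℕ)) ↔ (n < k + l ∧ ¬ k ∣ l) := by
  set_option maxSynthPendingDepth 3 in
  have := Fact.mk hr
  have := Fact.mk hs
  have hp : p.Prime := Fact.out
  have : Nonempty (Fin n) := ⟨⟨0, by omega⟩⟩
  have hd := fun i => hk ▸ kd (F := F) (r := r) i
  have he := fun i => hl ▸ kd (F := F) (r := s) i
  have crs := (Nat.coprime_primes hr hs).2 hrs
  have cp := ((Nat.coprime_primes hr hp).2 hrp).mul_left ((Nat.coprime_primes hs hp).2 hsp)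
  have c1 : (r * s).Coprime (Nat.card F - 1) := Nat.Coprime.mul_left
    (hr.coprime_iff_not_dvd.2 fun h => by have := Nat.dvd_one.1 ((hd 1).1 (by rwa [pow_one])); omega)
    (hs.coprime_iff_not_dvd.2 fun h => by have := Nat.dvd_one.1 ((he 1).1 (by rwa [pow_one])); omega)
  have c2 : (r * s).Coprime (Nat.card (Subgroup.center (Matrix.SpecialLinearGroup (Fin n) F))) :=
    Nat.Coprime.coprime_dvd_right ((H4.card_center_sl (ι := Fin n) (F := F)).dvd.trans
      (Nat.gcd_dvd_right _ _)) c1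
  have n0 := Nat.mul_ne_zero hr.ne_zero hs.ne_zero
  refine ⟨fun h => ⟨not_le.1 fun h1 => h ?_, fun h1 => h ?_⟩, fun ⟨h1, h2⟩ h => ?_⟩
  · obtain ⟨K, _, _, _, a, rk, ha⟩ := elt (F := F) p (by omega) ((hd k).2 dvd_rfl)
    obtain ⟨L, _, _, _, b, rl, hb⟩ := elt (F := F) p (by omega) ((he l).2 dvd_rfl)
    have o : orderOf (a, b, (1 : Fin (n - k - l) → F)) = r * s := by
      rw [Prod.orderOf_mk, Prod.orderOf_mk, ha, hb, orderOf_one, Nat.lcm_one_right, crs.lcm_eq_mul]
    obtain ⟨g, hg, -⟩ := S2476.alg (F := F) (n := n)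
      (by rw [finrank_prod, finrank_prod, rk, rl, finrank_fin_fun]; omega)
      (nm1 (o ▸ pow_orderOf_eq_one (a, b, (1 : Fin (n - k - l) → F))) n0 c1)
    exact cq g c2 (o ▸ hg)
  · obtain ⟨x, hx⟩ := exists_prime_orderOf_dvd_card' s hsG
    obtain ⟨g, hg⟩ := lift ⟨x, hx⟩
    obtain ⟨i, i1, i2, i3⟩ := pp_dvd (g := Matrix.SpecialLinearGroup.toGL g) (c := 0) hs
      (S2474.em (F := F) hs hsp).1 (by
        rw [orderOf_injective _ Matrix.SpecialLinearGroup.toGL_injective, hg]; simp)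
    rw [zero_add, pow_one, ← Nat.card_eq_fintype_card, he] at i3
    have := Nat.le_of_dvd i1 i3
    rw [Fintype.card_fin] at i2
    obtain ⟨K, _, _, _, a, rk, ha⟩ := elt (F := F) p (k := l) (by omega)
      (crs.mul_dvd_of_dvd_of_dvd ((hd l).2 h1) ((he l).2 dvd_rfl))
    have o : orderOf (a, (1 : Fin (n - l) → F)) = r * s := by
      rw [Prod.orderOf_mk, ha, orderOf_one, Nat.lcm_one_right]
    obtain ⟨g, hg, -⟩ := S2476.alg (F := F) (n := n)
      (by rw [finrank_prod, rk, finrank_fin_fun]; omega)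
      (nm1 (o ▸ pow_orderOf_eq_one (a, (1 : Fin (n - l) → F))) n0 c1)
    exact cq g c2 (o ▸ hg)
  · obtain ⟨g, hg⟩ := lift h
    have g1 : g.1 ^ (r * s) = 1 := congrArg Subtype.val (hg ▸ pow_orderOf_eq_one g)
    have g2 : ∀ c, g.1 ^ c = 1 → r * s ∣ c := fun c h =>
      hg ▸ orderOf_dvd_of_pow_eq_one (Subtype.ext h)
    obtain ⟨y, i, y1, y2⟩ := exy' p hr cp g1 fun h => hr.one_lt.ne' (Nat.dvd_one.1
      (Nat.dvd_of_mul_dvd_mul_right hs.pos (by simpa using g2 _ h)))
    obtain ⟨z, j, z1, z2⟩ := exy' p (c := r) hs (mul_comm r s ▸ cp) (mul_comm r s ▸ g1) fun h =>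
      hs.one_lt.ne' (Nat.dvd_one.1 (Nat.dvd_of_mul_dvd_mul_left hr.pos (by simpa using g2 _ h)))
    have a := (hd _).1 (y2 _ (ir_dvd i dvd_rfl))
    have b := (he _).1 (z2 _ (ir_dvd j dvd_rfl))
    have m := LinearMap.minpoly_dvd_charpoly (g.1.toLin' : End F _)
    have d : ∀ P : F[X], P ∣ minpoly F (g.1.toLin' : End F _) → P.natDegree ≤ n := fun P h => by
      simpa using natDegree_le_of_dvd (h.trans m) (LinearMap.charpoly_monic _).ne_zero
    have a0 := i.1.natDegree_pos
    have b0 := j.1.natDegree_pos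
    by_cases e : y = z
    · subst e
      have := d _ y1
      obtain ⟨t, ht⟩ := b
      obtain rfl : t = 1 := by
        rcases t with - | - | t
        · omega
        · rfl
        · nlinarith
      exact h2 (by rwa [ht, mul_one] at a)
    · have := d _ ((i.1.coprime_iff_not_dvd.2 fun h => e (i.eq j h)).mul_dvd y1 z1)
      rw [i.2.1.natDegree_mul j.2.1] at this
      have := Nat.le_of_dvd a0 a
      have := Nat.le_of_dvd b0 b
      omega

end Cfsg.Agent.S2468
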