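import Cfsg.Statements.S2472
import Cfsg.Agent.S2470

set_option autoImplicit false
open Cfsg

namespace Cfsg.Agent.S2472

open Polynomial Module H4 H4.Form H3.RCF H3.Wall H3.Spec S2470 S2474

section
variable {F : Type*} [Field F] [Fintype F] {n r : ℕ}

theorem eta [Fact r.Prime] {k η : ℕ} (hk : k = orderOf (Fintype.card F : ZMod r))
    (h : (Odd k ∧ η = k) ∨ (Even k ∧ 2 * η = k)) (j : ℕ) : r ∣ Nat.card F ^ (2 * j) - 1 ↔ η ∣ j := by
  rw [kd, ← hk]
  rcases h with ⟨a, rfl⟩ | ⟨-, rfl⟩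
  · exact (Nat.coprime_two_right.2 a).dvd_mul_left
  · exact Nat.mul_dvd_mul_iff_left two_pos

theorem emb {a : ℕ} (h : a ≤ n) (hn : 1 ≤ n) (g : (spForm a F).Isom) (g' : (spForm (n - a) F).Isom)
    {N : ℕ} (h1 : N ∣ orderOf (g, g')) (c : N.Coprime (Nat.gcd 2 (Nat.card F - 1))) :
    N ∈ Set.range (orderOf : Cfsg.PSp n F → ℕ) := by
  obtain ⟨E, hE⟩ := alt_exists_isIso _ _ _ _ _ (prodF_ND (spForm_ND a F) (spForm_ND (n - a) F))
    (spForm_ND n F) (by rw [finrank_prod, rs, rs]; omega) (rs n)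
  let φ := hE.isomEquiv.toMonoidHom.comp (ph _ _)
  have i : Function.Injective φ := hE.isomEquiv.injective.comp (ph_inj _ _)
  have := (spForm n F).finite_Isom
  rw [rcongr (centerQuotEquiv (spEquiv n F))]
  refine cq (φ (g, g')) ?_ (by rwa [orderOf_injective φ i])
  rwa [alt_card_center (spForm_ND n F) (by rw [rs]; omega)]

theorem lf {N : ℕ} (h : N ∈ Set.range (orderOf : Cfsg.PSp n F → ℕ)) :
    ∃ g : (spForm n F).Isom, orderOf g = N := by
  have := (spForm n F).finite_Isom
  rw [rcongr (centerQuotEquiv (spEquiv n F))] at h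
  exact lift h

end

/-- Adjacency of a prime and the characteristic in the prime graph of PSp(2n,q): let F be a finite field of characteristic p with q elements, n ≥ 2 with PSp(2n,F) simple, and let r ≠ p be an odd prime dividing the order of PSp(2n,F), with k the multiplicative order of q modulo r and η(k) = k for odd k, k/2 for even k. Then PSp(2n,F) has NO element of order r·p if and only if η(k) > n − 1. -/
theorem result {F : Type*} [Field F] [Fintype F] (p : ℕ) [Fact p.Prime] [CharP F p] (n : ℕ) (hn : 2 ≤ n) (hsmall : n = 2 → 3 ≤ Fintype.card F)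
    (r : ℕ) (hr : r.Prime) (hr2 : r ≠ 2) (hrp : r ≠ p) (hrG : r ∣ Nat.card (Cfsg.PSp n F))
    (k ηk : ℕ) (hk : k = orderOf ((Fintype.card F : ℕ) : ZMod r)) (hηk : (Odd k ∧ ηk = k) ∨ (Even k ∧ 2 * ηk = k)) :
    (r * p ∉ Set.range (orderOf : Cfsg.PSp n F → ℕ)) ↔ n - 1 < ηk := by
  set_option maxSynthPendingDepth 3 in
  have := Fact.mk hr
  have hp : p.Prime := Fact.out
  have hA := eta hk hηk
  have h0 := hk ▸ k0 (F := F) p hrp
  have m1 : 1 ≤ ηk := by omega
  have cp := (Nat.coprime_primes hr hp).2 hrp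
  have := (spForm n F).finite_Isom
  refine ⟨fun h => not_le.1 fun hm => h ?_, fun hm h => ?_⟩
  · obtain ⟨t, ht⟩ := csp (F := F) hr m1 (Or.inr ((hA _).2 dvd_rfl))
    obtain ⟨u, hu⟩ := csp (F := F) hp (show 1 ≤ n - ηk by omega) (Or.inl pq)
    refine emb (by omega) (by omega) t u (by rw [Prod.orderOf_mk, ht, hu, cp.lcm_eq_mul])
      (Nat.Coprime.mul_left (Nat.Coprime.coprime_dvd_right (Nat.gcd_dvd_left _ _)
        ((Nat.coprime_primes hr Nat.prime_two).2 hr2))
        (Nat.Coprime.coprime_dvd_right (Nat.gcd_dvd_right _ _) ?_))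
    have cq := S2511.copu (F := F) (p := p) F
    rw [Nat.card_units] at cq
    exact cq.symm
  · obtain ⟨g, hg⟩ := lf h
    have a := pe g hr (hg ▸ dvd_mul_right _ _)
    have b := orderOf_pow_orderOf_div (orderOf_pos g).ne' (hg ▸ dvd_mul_left p r)
    obtain ⟨y, i, y1, -, y2⟩ := exy (p := p) (g := g ^ (orderOf g / r)) (c := 1) hr (by simpa)
      (by simpa using a.1) (by simpa using a.2)
    have c := bnd (Commute.pow_pow_self g (orderOf g / r) _) (b.trans (pow_one p).symm) one_pos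
      ((sqf cp).squarefree_of_dvd (minpoly.dvd F _ ((ae_iff _ _).2 a.1)))
    have d := natDegree_le_of_dvd (blk_min (spForm_ND n F) _ i y1)
      (minpoly.ne_zero (Algebra.IsIntegral.isIntegral _))
    have e := (irb i (fun h => hr2 ((Nat.prime_dvd_prime_iff_eq hr Nat.prime_two).1 h))
      y2 fun j => (hA j).1).1
    rw [rs, pow_zero] at c
    change (blk (RingHom.id F) y).natDegree ≤ _ at d
    omega

end Cfsg.Agent.S2472
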