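import Cfsg.Statements.S2469
import Cfsg.Agent.S2472

set_option autoImplicit false
open Cfsg

namespace Cfsg.Agent.S2469

open Polynomial Module H4 H4.Form H3.RCF H3.Wall H3.Spec S2470 S2474 S2472

section
variable {F : Type*} [Field F] [Fintype F]

theorem csp' {s m j : ℕ} (hs : s.Prime) (hj : 1 ≤ j) (hm : j ≤ m)
    (h : s ∣ Nat.card F ^ (2 * j) - 1) : ∃ t : (spForm m F).Isom, orderOf t = s := by
  have := Fact.mk hs
  have := (spForm m F).finite_Isom
  refine exists_prime_orderOf_dvd_card' s ?_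
  rw [alt_card_Isom m _ _ (spForm_ND m F) (rs m)]
  refine Dvd.dvd.mul_left (h.trans ?_) _
  have := Finset.dvd_prod_of_mem (fun i => Nat.card F ^ (2 * (i + 1)) - 1)
    (Finset.mem_range.2 (show j - 1 < m by omega))
  rwa [show j - 1 + 1 = j by omega] at this

theorem sq1 (Q d : ℕ) : Q ^ (2 * d) - 1 = (Q ^ d + 1) * (Q ^ d - 1) := by
  rw [← Nat.sq_sub_sq, one_pow, ← pow_mul, mul_comm]

end

/-- Adjacency of two odd primes in the prime graph of PSp(2n,q): let F be a finite field of characteristic p with q elements, n ≥ 2 with PSp(2n,F) simple, and let r ≠ s be odd primes different from p dividing the order of PSp(2n,F). Let k, l be the multiplicative orders of q modulo r and s, put η(m) = m for odd m and η(m) = m/2 for even m, and suppose η(k) ≤ η(l). Then PSp(2n,F) has NO element of order r·s if and only if η(k) + η(l) > n and l/k is not an odd integer. -/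
theorem result {F : Type*} [Field F] [Fintype F] (p : ℕ) [Fact p.Prime] [CharP F p] (n : ℕ) (hn : 2 ≤ n) (hsmall : n = 2 → 3 ≤ Fintype.card F)
    (r s : ℕ) (hr : r.Prime) (hs : s.Prime) (hr2 : r ≠ 2) (hs2 : s ≠ 2) (hrp : r ≠ p) (hsp : s ≠ p) (hrs : r ≠ s)
    (hrG : r ∣ Nat.card (Cfsg.PSp n F)) (hsG : s ∣ Nat.card (Cfsg.PSp n F))
    (k l ηk ηl : ℕ) (hk : k = orderOf ((Fintype.card F : ℕ) : ZMod r)) (hl : l = orderOf ((Fintype.card F : ℕ) : ZMod s))
    (hηk : (Odd k ∧ ηk = k) ∨ (Even k ∧ 2 * ηk = k)) (hηl : (Odd l ∧ ηl = l) ∨ (Even l ∧ 2 * ηl = l)) (hkl : ηk ≤ ηl) :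
    (r * s ∉ Set.range (orderOf : Cfsg.PSp n F → ℕ)) ↔ (n < ηk + ηl ∧ ¬ ∃ t : ℕ, Odd t ∧ l = k * t) := by
  set_option maxSynthPendingDepth 3 in
  have := Fact.mk hr
  have := Fact.mk hs
  have hp : p.Prime := Fact.out
  have hA := eta hk hηk
  have hB := eta hl hηl
  have hd := fun i => hk ▸ kd (F := F) (r := r) i
  have he := fun i => hl ▸ kd (F := F) (r := s) i
  have h0 := hk ▸ k0 (F := F) p hrp
  have h0' := hl ▸ k0 (F := F) p hsp
  have m1 : 1 ≤ ηk := by omega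
  have crs := (Nat.coprime_primes hr hs).2 hrs
  have cs := (Nat.coprime_primes hs hp).2 hsp
  have cp := ((Nat.coprime_primes hr hp).2 hrp).mul_left cs
  have c2 : (r * s).Coprime (Nat.gcd 2 (Nat.card F - 1)) := Nat.Coprime.coprime_dvd_right
    (Nat.gcd_dvd_left _ _) (((Nat.coprime_primes hr Nat.prime_two).2 hr2).mul_left
      ((Nat.coprime_primes hs Nat.prime_two).2 hs2))
  have r2 : ¬ r ∣ 2 := fun h => hr2 ((Nat.prime_dvd_prime_iff_eq hr Nat.prime_two).1 h)
  have s2 : ¬ s ∣ 2 := fun h => hs2 ((Nat.prime_dvd_prime_iff_eq hs Nat.prime_two).1 h)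
  have := (spForm n F).finite_Isom
  have dg : ∀ (g : (spForm n F).Isom) (P : F[X]), P ∣ g.1.toLinearMap.charpoly →
      P.natDegree ≤ 2 * n := fun g P h => by
    have := natDegree_le_of_dvd h (LinearMap.charpoly_monic _).ne_zero
    rwa [LinearMap.charpoly_natDegree, rs] at this
  refine ⟨fun h => ⟨not_le.1 fun h1 => h ?_, fun ⟨t, ot, h1⟩ => h ?_⟩, fun ⟨h1, h2⟩ h => ?_⟩
  · obtain ⟨t, ht⟩ := csp (F := F) hr m1 (Or.inr ((hA _).2 dvd_rfl))
    obtain ⟨u, hu⟩ := csp' (F := F) (m := n - ηk) hs (m1.trans hkl) (by omega) ((hB _).2 dvd_rfl)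
    exact emb (by omega) (by omega) t u (by rw [Prod.orderOf_mk, ht, hu, crs.lcm_eq_mul]) c2
  · have : Finite (Cfsg.PSp n F) := Finite.of_equiv _ (centerQuotEquiv (spEquiv n F)).symm.toEquiv
    obtain ⟨x, hx⟩ := exists_prime_orderOf_dvd_card' s hsG
    obtain ⟨g, hg⟩ := lf ⟨x, hx⟩
    obtain ⟨y, i, y1, -, y2⟩ := exy (p := p) (g := g) (c := 1) hs (by simpa)
      (by rw [mul_one, ← hg, pow_orderOf_eq_one]) (fun h => by
        rw [pow_one] at h; rw [h, orderOf_one] at hg; exact hs.one_lt.ne hg)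
    have d := dg g _ ((blk_min (spForm_ND n F) _ i y1).trans (LinearMap.minpoly_dvd_charpoly _))
    have e := (irb i s2 y2 fun j => (hB j).1).1
    change (blk (RingHom.id F) y).natDegree ≤ _ at d
    rcases hηl with ⟨a, rfl⟩ | ⟨a, b⟩
    · obtain ⟨g, hg⟩ := singer (F := F) (ι := Fin n) h0' (by simp; omega)
      obtain ⟨φ, i⟩ := H3.Homo.gl_sp (ι := Fin n) (F := F)
      refine emb le_rfl (by omega) (spEquiv n F (φ g)) 1 ?_ c2
      rw [Prod.orderOf_mk, orderOf_one, Nat.lcm_one_right, MulEquiv.orderOf_eq, orderOf_injective φ i,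
        hg, ← Nat.card_eq_fintype_card]
      exact crs.mul_dvd_of_dvd_of_dvd ((hd _).2 ⟨t, h1⟩) ((he _).2 dvd_rfl)
    · have ek : 2 * ηk = k := by
        refine (hηk.resolve_left fun h => ?_).2
        exact Nat.not_even_iff_odd.2 (h.1.mul ot) (h1 ▸ a)
      obtain ⟨g, hg⟩ := S2512.tp (F := F) p (n := ηl) (by omega)
      refine emb (by omega) (by omega) g 1 ?_ c2
      rw [Prod.orderOf_mk, orderOf_one, Nat.lcm_one_right]
      refine (crs.mul_dvd_of_dvd_of_dvd ?_ ?_).trans hg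
      · have := (hr.dvd_mul.1 (sq1 _ _ ▸ (hA _).2 dvd_rfl)).resolve_right fun h => by
          have := Nat.le_of_dvd m1 ((hd _).1 h); omega
        have h3 := ot.nat_add_dvd_pow_add_pow (Nat.card F ^ ηk) 1
        rw [one_pow, ← pow_mul, show ηk * t = ηl by nlinarith] at h3
        exact this.trans h3
      · exact (hs.dvd_mul.1 (sq1 _ _ ▸ (hB _).2 dvd_rfl)).resolve_right fun h => by
          have := Nat.le_of_dvd (by omega) ((he _).1 h); omega
  obtain ⟨g, hg⟩ := lf h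
  have g1 : g ^ (r * s) = 1 := hg ▸ pow_orderOf_eq_one g
  have g2 : ∀ c, g ^ c = 1 → r * s ∣ c := fun c h => hg ▸ orderOf_dvd_of_pow_eq_one h
  obtain ⟨y, i, y1, -, y2⟩ := exy (p := p) hr cp g1 fun h => hr.one_lt.ne' (Nat.dvd_one.1
    (Nat.dvd_of_mul_dvd_mul_right hs.pos (by simpa using g2 _ h)))
  obtain ⟨z, j, z1, -, z2⟩ := exy (p := p) (c := r) hs (mul_comm r s ▸ cp) (mul_comm r s ▸ g1) fun h =>
    hs.one_lt.ne' (Nat.dvd_one.1 (Nat.dvd_of_mul_dvd_mul_left hr.pos (by simpa using g2 _ h)))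
  have m := LinearMap.minpoly_dvd_charpoly (g.1.toLinearMap : End F _)
  have bd := (blk_min (spForm_ND n F) _ i y1).trans m
  change blk (RingHom.id F) y ∣ _ at bd
  have a := (irb i r2 y2 fun j => (hA j).1).1
  have b := (irb j s2 z2 fun j => (hB j).1).1
  have bi := i.blk (τ := RingHom.id F) fun _ => rfl
  have bj := j.blk (τ := RingHom.id F) fun _ => rfl
  by_cases e : z ∣ blk (RingHom.id F) y
  swap
  · obtain ⟨R, hR⟩ := bd
    have s1 := cp_st (spForm_ND n F) g.2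
    change st (RingHom.id F) _ = _ at s1
    have s3 := st_cancel _ bi.1 (hR ▸ s1) bi.2.1.ne_zero
    have := dg g _ ((mul_dvd_mul_left _ (bj.2.2.2.1 R
      ((j.1.prime.dvd_or_dvd ((z1.trans m).trans hR.dvd)).resolve_left e) s3.dvd)).trans hR.symm.dvd)
    rw [bi.2.1.natDegree_mul bj.2.1] at this
    omega
  have d := dg g _ bd
  have d0 := i.1.natDegree_pos
  have one : ∀ d, ηl ∣ d → 0 < d → d ≤ n → d = ηl := fun d ⟨t, ht⟩ a b => by
    rcases t with - | - | t
    · omega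
    · omega
    · nlinarith
  rcases blk_deg (τ := RingHom.id F) i with ⟨b1, b2⟩ | ⟨-, b1, b2⟩
  · rw [b2] at e d
    obtain rfl := j.eq i e
    obtain ⟨c, c1, c3⟩ := sd' i b1 fun h => r2 (y2 _ h)
    have n2 : ∀ t : ℕ, t.Prime → ¬ t ∣ 2 → t ∣ Nat.card F ^ c + 1 → ¬ t ∣ Nat.card F ^ c - 1 :=
      fun t _ a b h => a (by
        have := Nat.dvd_sub b h
        have h1 : 1 ≤ Nat.card F ^ c := Nat.one_le_pow _ _ Nat.card_pos
        rwa [show Nat.card F ^ c + 1 - (Nat.card F ^ c - 1) = 2 by omega] at this)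
    have e1 := one c ((hB c).1 (sq1 _ _ ▸ (z2 _ c3).mul_right _)) (by omega) (by omega)
    have e2 := mt (he c).2 (n2 s hs s2 (z2 _ c3))
    have e3 := mt (hd c).2 (n2 r hr r2 (y2 _ c3))
    obtain ⟨t, ht⟩ := (hd (2 * c)).1 (sq1 _ _ ▸ (y2 _ c3).mul_right _)
    refine h2 ⟨t, Nat.not_even_iff_odd.1 fun ⟨u, hu⟩ => e3 ⟨u, by nlinarith⟩, ?_⟩
    rcases hηl with ⟨-, h⟩ | ⟨-, h⟩
    · exact absurd (e1.trans h).symm.dvd e2
    · omega
  · have z3 : ∀ b, y ∣ X ^ b - 1 → s ∣ b := fun b hb => by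
      rcases j.1.prime.dvd_or_dvd (b1 ▸ e) with h | h
      · exact z2 _ (h.trans hb)
      · rcases b.eq_zero_or_pos with rfl | b0
        · exact dvd_zero _
        refine z2 _ (h.trans ((st_dvd _ hb).trans ?_))
        rw [← C_1, st_X_pow _ b0.ne' (by simp)]
    have e2 := (he _).1 (z3 _ (ir_dvd i dvd_rfl))
    obtain ⟨t, ht⟩ := (hd _).1 (y2 _ (ir_dvd i dvd_rfl))
    rcases hηl with ⟨o, h⟩ | ⟨-, h⟩
    · have := one _ (h ▸ e2) d0 (by omega)
      exact h2 ⟨t, Odd.of_dvd_nat o ⟨k, by rw [← h, ← this, ht, mul_comm]⟩, by omega⟩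
    · have := Nat.le_of_dvd d0 e2
      omega

end Cfsg.Agent.S2469
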