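import Cfsg.Statements.S2495
import Cfsg.Agent.S2470
import Cfsg.Agent.H1.Zsig

set_option autoImplicit false
open Cfsg

namespace Cfsg.Agent.S2495

open Polynomial Module H3.RCF H3.Wall H3.Spec S2470

theorem geo {x d : ℤ} (h : d ∣ x - 1) (m : ℕ) : d ∣ ∑ i ∈ Finset.range m, x ^ i ↔ d ∣ m := by
  refine dvd_iff_dvd_of_dvd_sub ?_
  rw [show (m : ℤ) = ∑ i ∈ Finset.range m, 1 ^ i by simp, ← Finset.sum_sub_distrib]
  exact Finset.dvd_sum fun i _ => h.trans (sub_dvd_pow_sub_pow _ _ _)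

theorem v2 {m Q : ℕ} (hm : m ≠ 0) (hQ : Q ≠ 0) :
    Nat.gcd (2 * m) Q ∣ m ↔ padicValNat 2 Q < padicValNat 2 (2 * m) := by
  rw [padicValNat.mul two_ne_zero hm, padicValNat_self, add_comm, Nat.lt_succ_iff,
    ← padicValNat_dvd_iff_le hm]
  refine ⟨fun h => ?_, fun ⟨w, hw⟩ => ?_⟩
  · by_contra h1
    rw [padicValNat_dvd_iff_le hm, not_le] at h1
    refine pow_succ_padicValNat_not_dvd (p := 2) hm (Dvd.dvd.trans (Nat.dvd_gcd ?_ ?_) h)
    · rw [pow_succ']; exact Nat.mul_dvd_mul_left 2 pow_padicValNat_dvd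
    · exact (padicValNat_dvd_iff_le hQ).2 h1
  · obtain ⟨u, hu⟩ := pow_padicValNat_dvd (p := 2) (n := Q)
    have o : ¬ 2 ∣ u := fun h => pow_succ_padicValNat_not_dvd (p := 2) hQ (by
      rw [pow_succ]; exact (Nat.mul_dvd_mul_left _ h).trans hu.symm.dvd)
    generalize 2 ^ padicValNat 2 Q = a at hw hu
    rw [hw, hu, mul_left_comm, Nat.gcd_mul_left]
    exact Nat.mul_dvd_mul_left _ ((Nat.Coprime.coprime_dvd_left (Nat.gcd_dvd_right _ _)
      (Nat.prime_two.coprime_iff_not_dvd.2 o).symm).dvd_of_dvd_mul_left (Nat.gcd_dvd_left _ _))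

theorem pw' {G : Type*} [Group G] [Finite G] (g : G) :
    orderOf g ∣ orderOf (g : G ⧸ Subgroup.center G) * Nat.card (Subgroup.center G) := by
  have : g ^ orderOf (g : G ⧸ Subgroup.center G) ∈ Subgroup.center G := by
    rw [← QuotientGroup.eq_one_iff, QuotientGroup.mk_pow, pow_orderOf_eq_one]
  rw [orderOf_dvd_iff_pow_eq_one, pow_mul]
  exact congrArg Subtype.val (pow_card_eq_one' (x := (⟨_, this⟩ : Subgroup.center _)))

theorem arith {N U d : ℕ} (h0 : 0 < N) (h : d ∣ N * U) : N ∣ N * U / d ↔ d ∣ U := by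
  rw [Nat.dvd_div_iff_mul_dvd h, mul_comm d, Nat.mul_dvd_mul_iff_left h0]

/-- Let q be an odd prime power, n ≥ 4 even, and L = PSL(n,q). Then L has an element of order q^(n/2) + 1 if and only if the 2-part of n exceeds the 2-part of q − 1. -/
theorem result {F : Type*} [Field F] [Fintype F] {q : ℕ} (hF : Fintype.card F = q) (hodd : Odd q)
    {n : ℕ} (hn : 4 ≤ n) (heven : Even n) :
    (∃ g : Matrix.ProjectiveSpecialLinearGroup (Fin n) F, orderOf g = q ^ (n / 2) + 1) ↔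
      padicValNat 2 (q - 1) < padicValNat 2 n := by
  set_option maxSynthPendingDepth 3 in
  obtain ⟨m, rfl⟩ := heven.two_dvd
  rw [Nat.mul_div_cancel_left _ two_pos]
  rw [← Nat.card_eq_fintype_card] at hF
  obtain ⟨p, hch⟩ := CharP.exists F
  have hp := CharP.char_is_prime F p
  have := Fact.mk hp
  have : Nonempty (Fin (2 * m)) := ⟨⟨0, by omega⟩⟩
  have cz := H4.card_center_sl (ι := Fin (2 * m)) (F := F)
  rw [Fintype.card_fin, hF] at cz
  have q1 : 1 < q := hF ▸ Finite.one_lt_card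
  have g2 := Nat.gcd_dvd_right (2 * m) (q - 1)
  have e1 : q ^ m - 1 = (∑ i ∈ Finset.range m, q ^ i) * (q - 1) := by
    have := Nat.geomSum_eq (m := q) q1 m
    rw [this, Nat.div_mul_cancel (by simpa using Nat.sub_dvd_pow_sub_pow q 1 m)]
  have e2 : q ^ (2 * m) - 1 = (q ^ m + 1) * (∑ i ∈ Finset.range m, q ^ i) * (q - 1) := by
    rw [mul_assoc, ← e1, ← Nat.sq_sub_sq, one_pow, ← pow_mul, mul_comm]
  have e3 : ∀ k, Nat.gcd (2 * m) (q - 1) ∣ ∑ i ∈ Finset.range k, q ^ i ↔ Nat.gcd (2 * m) (q - 1) ∣ k :=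
    fun k => by
    rw [← Int.natCast_dvd_natCast, ← Int.natCast_dvd_natCast (n := k), ← geo (x := q) (by
      have := Int.natCast_dvd_natCast.2 g2
      rwa [Nat.cast_sub q1.le] at this) k, Nat.cast_sum]
    simp only [Nat.cast_pow]
  have e4 : (q ^ (2 * m) - 1) / (q - 1) = (q ^ m + 1) * ∑ i ∈ Finset.range m, q ^ i := by
    rw [e2, Nat.mul_div_cancel _ (by omega)]
  have e5 : Nat.gcd (2 * m) (q - 1) ∣ (q ^ m + 1) * ∑ i ∈ Finset.range m, q ^ i := by
    rw [← e4, ← Nat.geomSum_eq q1, e3]; exact Nat.gcd_dvd_left _ _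
  rw [← v2 (by omega) (by omega), ← e3, ← arith (Nat.succ_pos _) e5]
  refine ⟨fun ⟨x, hx⟩ => ?_, fun h => ?_⟩
  · obtain ⟨g, rfl⟩ := QuotientGroup.mk_surjective x
    obtain ⟨r, hr, r1, r2⟩ := H1B.zsigmondy q1 (show 1 < 2 * m by omega)
      (fun h => by rw [h.1] at hodd; exact absurd hodd (by decide)) (by omega)
    have r3 : r ∣ q ^ m + 1 := by
      rw [e2, mul_assoc, ← e1] at r1
      exact (hr.dvd_mul.1 r1).resolve_right (r2 m (by omega) (by omega))
    have cq := S2511.copu (F := F) (p := p) F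
    have pq := S2474.pq (F := F) (p := p)
    rw [Nat.card_units, hF] at cq
    have cp : (orderOf g).Coprime p := by
      refine Nat.Coprime.coprime_dvd_left (pw' g) ?_
      rw [hx, cz]
      refine Nat.Coprime.mul_left ?_ (Nat.Coprime.coprime_dvd_left g2 cq)
      refine (hp.coprime_iff_not_dvd.2 fun h => hp.one_lt.ne' (Nat.dvd_one.1 ?_)).symm
      exact (Nat.dvd_add_right ((hF ▸ pq).pow (by omega))).1 h
    obtain ⟨c, hc⟩ : r ∣ orderOf g := (hx ▸ r3).trans (orderOf_map_dvd (QuotientGroup.mk' _) g)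
    have c0 : 0 < c := Nat.pos_of_mul_pos_left (hc ▸ orderOf_pos g)
    obtain ⟨y, i, y1, y2⟩ := exy' p (g := g.1) hr (hc ▸ cp)
      (congrArg Subtype.val (hc ▸ pow_orderOf_eq_one g)) fun h => hr.one_lt.ne' (Nat.dvd_one.1
        (Nat.dvd_of_mul_dvd_mul_right c0 (by
          rw [← hc, one_mul]; exact orderOf_dvd_of_pow_eq_one (Subtype.ext h))))
    have y3 := y1.trans (LinearMap.minpoly_dvd_charpoly _)
    rw [Matrix.charpoly_toLin'] at y3
    have d : g.1.charpoly.natDegree = 2 * m := by simp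
    have em := eq_of_monic_of_dvd_of_natDegree_le i.2.1 (Matrix.charpoly_monic _) y3 (by
      rw [d]; exact not_lt.1 fun h => r2 _ i.1.natDegree_pos h (hF ▸ y2 _ (ir_dvd i dvd_rfl)))
    have b2 := nrm i.1 i.2.1
    have dt := g.2
    rw [Matrix.det_eq_sign_charpoly_coeff, Fintype.card_fin] at dt
    rw [← em, d, dt, map_one, hF, e4, em] at b2
    obtain ⟨e, he⟩ := cube i.1 i.2.1 b2 (hF ▸ g2) e5
    have h3 := aeval_eq_zero_of_dvd_aeval_eq_zero (em.dvd.trans he) (Matrix.aeval_self_charpoly _)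
    rw [map_sub, aeval_X_pow, aeval_C, sub_eq_zero, Algebra.algebraMap_eq_smul_one] at h3
    rw [Nat.succ_eq_add_one, ← hx, orderOf_dvd_iff_pow_eq_one, ← QuotientGroup.mk_pow, ctr, hx]
    exact ⟨e, h3⟩
  · haveI : NeZero (2 * m) := ⟨by omega⟩
    obtain ⟨K, _, _, _, b, rk, cK, b0, hb⟩ := S2476.ext (F := F) p (2 * m)
    have o : orderOf (b ^ (q - 1)) = (q ^ m + 1) * ∑ i ∈ Finset.range m, q ^ i := by
      rw [orderOf_pow' _ (by omega), hb, hF, e2, Nat.gcd_mul_left_left, Nat.mul_div_cancel _ (by omega)]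
    obtain ⟨g, hg, -⟩ := S2476.alg rk (x := b ^ (q - 1)) ((algebraMap F K).injective (by
      rw [FiniteField.algebraMap_norm_eq_pow, cK, hF, e4, ← o, pow_orderOf_eq_one, map_one]))
    exact mr _ (quo g cz (o ▸ hg) e5) h

end Cfsg.Agent.S2495
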