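import Cfsg.Statements.S2496
import Cfsg.Agent.S2495

set_option autoImplicit false
open Cfsg

namespace Cfsg.Agent.S2496

open Polynomial Module H4 H4.Form H3.RCF H3.Wall H3.Spec S2470 S2495

theorem gu {q : ℕ} (h : 1 ≤ q) (k : ℕ) : ∃ U : ℕ, U * (q + 1) = (if Even k then q ^ k - 1 else q ^ k + 1) ∧
    ∀ d : ℕ, d ∣ q + 1 → (d ∣ U ↔ d ∣ k) := by
  refine ⟨(∑ i ∈ Finset.range k, (-q : ℤ) ^ i).natAbs, ?_, fun d hd => ?_⟩
  · have := congrArg Int.natAbs (geom_sum_mul (-q : ℤ) k)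
    rw [Int.natAbs_mul, show (-q - 1 : ℤ).natAbs = q + 1 by omega] at this
    rw [this]
    have h1 : 1 ≤ q ^ k := Nat.one_le_pow _ _ h
    split_ifs with e
    · rw [e.neg_pow, ← Nat.cast_pow]; omega
    · rw [(Nat.not_even_iff_odd.1 e).neg_pow, ← Nat.cast_pow]; omega
  · rw [← Int.natCast_dvd, ← Int.natCast_dvd_natCast (n := k), geo]
    rw [show (-q - 1 : ℤ) = -((q + 1 : ℕ) : ℤ) by push_cast; ring, dvd_neg]
    exact Int.natCast_dvd_natCast.2 hd

theorem zs {q N : ℕ} (h : 1 < q) (o : Odd q) (hN : 2 < N) :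
    ∃ r : ℕ, r.Prime ∧ ∀ i, r ∣ q ^ i - 1 ↔ N ∣ i := by
  obtain ⟨r, hr, r1, r2⟩ := H1B.zsigmondy h (show 1 < N by omega)
    (fun h => by rw [h.1] at o; exact absurd o (by decide)) (by omega)
  have := Fact.mk hr
  refine ⟨r, hr, fun i => ?_⟩
  have a := (H3.Homo.dvd_iff h N).1 r1
  rw [H3.Homo.dvd_iff h, (Nat.le_of_dvd (by omega) a).antisymm (not_lt.1 fun b => r2 _
    (Nat.pos_of_dvd_of_pos a (by omega)) b ((H3.Homo.dvd_iff h _).2 dvd_rfl))]

theorem st0 {F : Type*} [Field F] (τ : F →+* F) {P : F[X]} (m : P.Monic) :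
    (st τ P).coeff 0 = (τ (P.coeff 0))⁻¹ := by
  rw [st_coeff, revAt_zero, m.coeff_natDegree, map_one, mul_one]

/-- Let q be an odd prime power, n ≥ 4 even, and U = PSU(n,q) (realised over the field with q² elements). Then U has an element of order q^(n/2) + (−1)^(n/2) — that is, q^(n/2) + 1 when n/2 is even and q^(n/2) − 1 when n/2 is odd — if and only if the 2-part of n exceeds the 2-part of q + 1. -/
theorem result {F : Type*} [Field F] [Fintype F] {q : ℕ} (hF : Fintype.card F = q ^ 2) (hodd : Odd q)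
    {n : ℕ} (hn : 4 ≤ n) (heven : Even n) :
    (∃ g : Cfsg.PSU n F q, orderOf g = if Even (n / 2) then q ^ (n / 2) + 1 else q ^ (n / 2) - 1) ↔
      padicValNat 2 (q + 1) < padicValNat 2 n := by
  set_option maxSynthPendingDepth 3 in
  obtain ⟨m, rfl⟩ := heven.two_dvd
  rw [Nat.mul_div_cancel_left _ two_pos]
  have cF : Nat.card F = q ^ 2 := Nat.card_eq_fintype_card.trans hF
  obtain ⟨p, hch⟩ := CharP.exists F
  have hp := CharP.char_is_prime F p
  have := Fact.mk hp
  have q2 := two_le_of_card_sq hF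
  obtain ⟨a, hq, ha⟩ : ∃ a, q = p ^ a ∧ 0 < a := by
    obtain ⟨k, -, hk⟩ := FiniteField.card F p
    obtain ⟨a, -, h⟩ := (Nat.dvd_prime_pow hp).1 (show q ∣ p ^ (k : ℕ) by
      rw [← hk, hF]; exact dvd_pow_self _ two_ne_zero)
    exact ⟨a, h, Nat.pos_of_ne_zero fun h0 => by rw [h0, pow_zero] at h; omega⟩
  have pq : p ∣ q := hq ▸ dvd_pow_self p ha.ne'
  have hf := uForm_ND hF (2 * m)
  have cz := u_card_center hf (by simp; omega)
  rw [finrank_fin_fun] at cz
  have := (uForm hF (2 * m)).finite_Isom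
  have g2 := Nat.gcd_dvd_right (2 * m) (q + 1)
  have sq1 : ∀ d, q ^ (2 * d) - 1 = (q ^ d + 1) * (q ^ d - 1) := fun d => by
    rw [← Nat.sq_sub_sq, one_pow, ← pow_mul, mul_comm]
  have qm : 1 < q ^ m := Nat.one_lt_pow (by omega) q2
  obtain ⟨U, u1, u2⟩ := gu (show 1 ≤ q by omega) m
  obtain ⟨T, t1, t2⟩ := gu (show 1 ≤ q by omega) (2 * m)
  rw [if_pos (even_two_mul m)] at t1
  generalize hN : (if Even m then q ^ m + 1 else q ^ m - 1) = N
  obtain rfl : T = N * U := Nat.eq_of_mul_eq_mul_right (Nat.succ_pos q) (by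
    rw [Nat.succ_eq_add_one, t1, mul_assoc, u1, sq1, ← hN]; split_ifs <;> ring)
  have N0 : 0 < N := by rw [← hN]; split_ifs <;> omega
  have e5 := (t2 _ g2).2 (Nat.gcd_dvd_left _ _)
  have e6 : ((q ^ 2) ^ m - 1) / (q ^ 2 - 1) * (q - 1) = N * U :=
    Nat.eq_of_mul_eq_mul_right (Nat.succ_pos q) (by
      rw [Nat.succ_eq_add_one, t1, mul_assoc, mul_comm (q - 1), ← (S2366.e1 q2).1,
        Nat.div_mul_cancel (by simpa using Nat.sub_dvd_pow_sub_pow (q ^ 2) 1 m), pow_mul])
  have ev : Even (q - 1) := Nat.Odd.sub_odd hodd odd_one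
  rw [← v2 (by omega) (by omega), ← u2 _ g2, ← arith N0 e5]
  refine (Set.ext_iff.1 (rcongr (centerQuotEquiv (suEquiv hF (2 * m)))) N).trans
    ⟨fun ⟨x, hx⟩ => ?_, fun h => ?_⟩
  · obtain ⟨g, rfl⟩ := QuotientGroup.mk_surjective x
    obtain ⟨r, hr, r1, r2, r3⟩ : ∃ r : ℕ, r.Prime ∧ r ∣ N ∧ (∀ e, r ∣ q ^ (2 * e) - 1 → m ∣ e) ∧
        ∀ e, Odd e → ¬ r ∣ q ^ e + 1 := by
      rw [← hN]
      split_ifs with e
      · obtain ⟨r, hr, h⟩ := zs (N := 2 * m) q2 hodd (by omega)
        have h2 : ∀ e, r ∣ q ^ (2 * e) - 1 → m ∣ e := fun e k =>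
          Nat.dvd_of_mul_dvd_mul_left two_pos ((h _).1 k)
        refine ⟨r, hr, (hr.dvd_mul.1 (sq1 m ▸ (h _).2 dvd_rfl)).resolve_right fun k => ?_, h2,
          fun c o k => Nat.not_even_iff_odd.2 (Odd.of_dvd_nat o (h2 c (sq1 c ▸ k.mul_right _))) e⟩
        have := Nat.le_of_dvd (by omega) ((h _).1 k)
        omega
      · have o := Nat.not_even_iff_odd.1 e
        have m3 : 2 < m := by obtain ⟨k, rfl⟩ := o; omega
        obtain ⟨r, hr, h⟩ := zs q2 hodd m3
        have h2 : ∀ e, r ∣ q ^ (2 * e) - 1 → m ∣ e := fun e k =>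
          (Nat.coprime_two_right.2 o).dvd_of_dvd_mul_left ((h _).1 k)
        refine ⟨r, hr, (h _).2 dvd_rfl, h2, fun c _ k => ?_⟩
        have h3 := Nat.dvd_sub k ((h c).2 (h2 c (sq1 c ▸ k.mul_right _)))
        have h1 : 1 ≤ q ^ c := Nat.one_le_pow _ _ (by omega)
        rw [show q ^ c + 1 - (q ^ c - 1) = 2 by omega] at h3
        have := Nat.le_of_dvd one_pos ((h 1).1 (h3.trans (by rw [pow_one]; exact ev.two_dvd)))
        omega
    have cp : (orderOf g).Coprime p := by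
      refine Nat.Coprime.coprime_dvd_left (pw' g) ?_
      rw [hx, cz]
      have cq : (q ^ (2 * m) - 1).Coprime p := by
        refine (hp.coprime_iff_not_dvd.2 fun h => hp.one_lt.ne' (Nat.dvd_one.1 ?_)).symm
        exact (Nat.dvd_sub_iff_right (Nat.one_le_pow _ _ (by omega)) (pq.pow (by omega))).1 h
      rw [← t1] at cq
      exact cq.coprime_mul_right.coprime_mul_right.mul_left
        (Nat.Coprime.coprime_dvd_left g2 cq.coprime_mul_left)
    obtain ⟨c, hc⟩ : r ∣ orderOf g := (hx ▸ r1).trans (orderOf_map_dvd (QuotientGroup.mk' _) g)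
    have c0 : 0 < c := Nat.pos_of_mul_pos_left (hc ▸ orderOf_pos g)
    obtain ⟨y, i, y1, -, y2⟩ := exy (p := p) (g := g.1) hr (hc ▸ cp)
      (congrArg Subtype.val (hc ▸ pow_orderOf_eq_one g)) fun h => hr.one_lt.ne' (Nat.dvd_one.1
        (Nat.dvd_of_mul_dvd_mul_right c0 (by
          rw [← hc, one_mul]; exact orderOf_dvd_of_pow_eq_one (Subtype.ext h))))
    have bd := (blk_min hf _ i y1).trans (LinearMap.minpoly_dvd_charpoly _)
    change blk (frobq hF) y ∣ _ at bd
    have bi := i.blk (frobq_frobq hF)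
    rcases blk_deg (τ := frobq hF) i with ⟨b1, -⟩ | ⟨-, b1, b2⟩
    · exact absurd (y2 _ (sd hF hq i b1).2) (r3 _ (sd hF hq i b1).1)
    have d : g.1.1.toLinearMap.charpoly.natDegree = 2 * m := by
      rw [LinearMap.charpoly_natDegree, finrank_fin_fun]
    have d1 := natDegree_le_of_dvd bd (LinearMap.charpoly_monic _).ne_zero
    have d2 := Nat.le_of_dvd i.1.natDegree_pos (r2 _ (by
      rw [pow_mul, ← cF]; exact y2 _ (ir_dvd i dvd_rfl)))
    have em := eq_of_monic_of_dvd_of_natDegree_le bi.2.1 (LinearMap.charpoly_monic _) bd (by omega)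
    have dt := (uForm hF (2 * m)).mem_SI.1 g.2
    rw [coe_idet, LinearMap.det_eq_sign_charpoly_coeff, finrank_fin_fun, em, b1, mul_coeff_zero,
      st0 _ i.2.1, (even_two_mul m).neg_one_pow, one_mul, frobq_apply,
      mul_inv_eq_one₀ (pow_ne_zero _ i.2.2)] at dt
    have b3 := congrArg (· ^ (q - 1)) (nrm i.1 i.2.1)
    have y0 : y.coeff 0 ^ (q - 1) = 1 := mul_left_cancel₀ i.2.2 (by
      rw [← pow_succ', show q - 1 + 1 = q by omega, ← dt, mul_one])
    simp only [← pow_mul, ← map_pow, mul_pow, y0, cF, show y.natDegree = m by omega, e6,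
      (ev.mul_left m).neg_one_pow, mul_one, map_one] at b3
    rw [pow_mul q, e6] at b3
    obtain ⟨e, he⟩ := cube (d := Nat.gcd (2 * m) (q + 1)) i.1 i.2.1 b3 (by rw [cF, (S2366.e1 q2).1]; exact g2.mul_right _) e5
    have := Fact.mk i.1
    have e1 : e ^ Nat.gcd (2 * m) (q + 1) = 1 := (algebraMap F (AdjoinRoot y)).injective (by
      rw [map_pow, ← (rdv _ _).1 he, ← pow_mul, Nat.div_mul_cancel e5, b3, map_one])
    have e2 : e * frobq hF e = 1 := by
      obtain ⟨k, hk⟩ := g2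
      rw [frobq_apply, ← pow_succ', hk, pow_mul, e1, one_pow]
    have n0 : N * U / Nat.gcd (2 * m) (q + 1) ≠ 0 := (Nat.div_pos (Nat.le_of_dvd (by
      refine Nat.pos_of_mul_pos_right (b := q + 1) ?_
      rw [t1, sq1]; exact Nat.mul_pos (by omega) (by omega)) e5) (Nat.gcd_pos_of_pos_right _
        (Nat.succ_pos q))).ne'
    have h3 := aeval_eq_zero_of_dvd_aeval_eq_zero (em.dvd.trans (bi.2.2.2.1 _ he
      (st_X_pow _ n0 e2).dvd)) (LinearMap.aeval_self_charpoly _)
    rw [map_sub, aeval_X_pow, aeval_C, sub_eq_zero, pw, LinearMap.ext_iff] at h3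
    rw [← hx, orderOf_dvd_iff_pow_eq_one, ← QuotientGroup.mk_pow, uctr hF hf (by simp; omega), hx]
    exact ⟨e, h3⟩
  · obtain ⟨K, _, _, _, b, rk, hb⟩ := elt (F := F) p (k := m) (r := N * U) (by omega)
      (by rw [cF, ← pow_mul, ← t1]; exact dvd_mul_right _ _)
    have k0 : N * U ≠ 0 := fun h => by rw [h, zero_mul, sq1] at t1; exact absurd t1.symm (Nat.mul_pos (by omega) (by omega)).ne'
    have b1 : b ^ (N * U) = 1 := hb ▸ pow_orderOf_eq_one b
    have b0 : b ≠ 0 := fun h => by rw [h, zero_pow k0] at b1; exact zero_ne_one b1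
    have i := ir_min (F := F) (Units.mk0 b b0)
    obtain ⟨e, a1, a2⟩ := S2511.cpl i (minpoly.aeval F b)
    have cK : Nat.card K = Nat.card F ^ m := by rw [← rk]; exact Module.natCard_eq_pow_finrank
    have n1 : Algebra.norm F b ^ (q - 1) = 1 := (algebraMap F K).injective (by
      rw [map_pow, FiniteField.algebraMap_norm_eq_pow, cK, cF, ← pow_mul, e6, b1, map_one])
    have m1 := LinearMap.charpoly_monic (Algebra.lmul F K b)
    have d1 : (Algebra.lmul F K b).charpoly.natDegree = m := by rw [LinearMap.charpoly_natDegree, rk]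
    rw [Algebra.norm_apply, LinearMap.det_eq_sign_charpoly_coeff, mul_pow, ← pow_mul,
      (ev.mul_left _).neg_one_pow, one_mul] at n1
    change (Algebra.lmul F K b).charpoly.coeff 0 ^ (q - 1) = 1 at n1
    generalize (Algebra.lmul F K b).charpoly = P at a1 m1 d1 n1
    have p0 : P.coeff 0 ≠ 0 := fun h => by rw [h, zero_pow (by omega)] at n1; exact zero_ne_one n1
    have cp : (N * U).Coprime p := by
      refine (hp.coprime_iff_not_dvd.2 fun h => hp.one_lt.ne' (Nat.dvd_one.1 ?_)).symm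
      exact (Nat.dvd_sub_iff_right (Nat.one_le_pow _ _ (by omega)) (pq.pow (n := 2 * m) (by omega))).1
        (t1 ▸ h.mul_right _)
    have x1 : minpoly F b ∣ X ^ (N * U) - 1 := minpoly.dvd F _ (by simp [b1])
    obtain ⟨g, g1, g3, g4⟩ := ach_u hF (n := 2 * m) cp (m1.mul (st_monic (frobq hF) p0))
      (fun x j h => (j.prime.dvd_or_dvd h).elim
        (fun h => (j.prime.dvd_of_dvd_pow (h.trans a1.dvd)).trans x1) fun h => by
          rw [a1, st_pow] at h
          refine (j.prime.dvd_of_dvd_pow h).trans ((st_dvd _ x1).trans ?_)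
          rw [← C_1, st_X_pow _ k0 (by simp)])
      (by rw [st_mul, st_st _ (frobq_frobq hF) m1 p0, mul_comm])
      (by rw [m1.natDegree_mul (st_monic _ p0), st_deg _ p0, d1, two_mul])
    let t : (uForm hF (2 * m)).SI := ⟨⟨g, g1⟩, by
      rw [mem_SI, coe_idet, LinearMap.det_eq_sign_charpoly_coeff, finrank_fin_fun]
      change _ * g.toLinearMap.charpoly.coeff 0 = 1
      rw [g4, mul_coeff_zero, st0 _ m1, (even_two_mul m).neg_one_pow, one_mul, frobq_apply,
        mul_inv_eq_one₀ (pow_ne_zero _ p0), show q = q - 1 + 1 by omega, pow_succ, n1, one_mul]⟩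
    have := minpoly.dvd_iff.1 (cp_ord (g := ⟨g, g1⟩) cp (Subtype.ext g3) i.1
      (((a1 ▸ dvd_pow_self _ (by rintro rfl; omega)).mul_right _).trans g4.symm.dvd))
    rw [map_sub, aeval_X_pow, map_one, sub_eq_zero] at this
    exact mr _ (quo t cz (by
      rw [Subgroup.orderOf_mk, ← hb]; exact orderOf_dvd_of_pow_eq_one this) e5) h

end Cfsg.Agent.S2496
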