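import Cfsg.Statements.S2518
import Cfsg.Agent.H0.Ord2
import Cfsg.Agent.H0.IG23
import Cfsg.Agent.H0.YG23.Main


set_option autoImplicit false
open Cfsg

namespace Cfsg.Agent.S2518

/-- Let F₃ be the field with 3 elements and F₁₃ the field with 13 elements. The Chevalley group G₂(F₃) and PSL(2, F₁₃) have the same prime graph: the same prime divisors of their orders, and for distinct primes r, s an element of order rs in one iff in the other. -/
theorem result {F : Type*} [Field F] [Fintype F] (hF : Fintype.card F = 3) {E : Type*} [Field E] [Fintype E] (hE : Fintype.card E = 13) :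
    ((∀ r : ℕ, r.Prime → (r ∣ Nat.card ↥(Cfsg.Lie.chevG2.group F) ↔ r ∣ Nat.card (Matrix.ProjectiveSpecialLinearGroup (Fin 2) E))) ∧
      (∀ r s : ℕ, r.Prime → s.Prime → r ≠ s → ((∃ x : ↥(Cfsg.Lie.chevG2.group F), orderOf x = r * s) ↔ (∃ y : (Matrix.ProjectiveSpecialLinearGroup (Fin 2) E), orderOf y = r * s)))) := by
  obtain ⟨e⟩ := H0.IG23.iso
  have := H0.MG23.fin (H0.Pres.pg _ _)
  have e' := e.trans (H0.chevEquiv (H0.fe (ZMod 3) hF (ZMod.card 3)) _)
  have : Finite (Cfsg.Lie.chevG2.group F) := Finite.of_equiv _ e'.toEquiv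
  have : Fact (Nat.Prime 13) := ⟨by decide⟩
  have : CharP E 13 := charP_of_card_eq_prime hE
  exact H0.pgr_of_lists ((H0.spec_congr e').symm.trans (H0.YG23.spec _ (H0.MG23.mR _) (H0.MG23.base (H0.Pres.pg _ _)) (H0.MG23.card (H0.Pres.pg _ _))))
    (H0.psl2_list 13 hE (L := [1, 2, 3, 6, 7, 13]) (by decide)) (by decide)

end Cfsg.Agent.S2518
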