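import Cfsg.Statements.S2530
import Cfsg.Agent.H0.Sym


set_option autoImplicit false
open Cfsg

namespace Cfsg.Agent.S2530

/-- The Coxeter presentation of the symmetric group: for every n, the symmetric group on n+1 letters is the Coxeter group of type A_n with the adjacent transpositions (i, i+1) as simple reflections; that is, it is presented by generators r_1, …, r_n subject to r_i² = 1, (r_i r_j)² = 1 for |i − j| > 1 and (r_i r_{i+1})³ = 1, with r_i mapping to (i, i+1). -/
theorem result (n : ℕ) :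
    ∃ cs : CoxeterSystem (CoxeterMatrix.A n) (Equiv.Perm (Fin (n + 1))), ∀ i : Fin n, cs.simple i = Equiv.swap i.castSucc i.succ := by
  let cs := (CoxeterMatrix.A n).toCoxeterSystem
  have hc := H6.cox_sw n
  have h3 : ∀ i, i + 1 < n → (H6.sw n i * H6.sw n (i + 1)) ^ 3 = 1 := fun i a => by
    have e : ∀ x y : Equiv.Perm (Fin (n + 1)), (x * y) ^ 3 = x * y * x * (y * x * y) := fun x y => by simp only [pow_succ]; group
    rw [e, ← hc.br i a]
    simp only [mul_assoc, ← mul_assoc (H6.sw _ i) (H6.sw _ i), ← mul_assoc (H6.sw _ (i + 1)) (H6.sw _ (i + 1)), hc.sq i (by omega), hc.sq (i + 1) a, one_mul]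
  have h2 : ∀ i j, i < n → j < n → Commute (H6.sw n i) (H6.sw n j) → (H6.sw n i * H6.sw n j) ^ 2 = 1 := fun i j a b c => by
    rw [c.mul_pow, sq, sq, hc.sq i a, hc.sq j b, one_mul]
  have hl : (CoxeterMatrix.A n).IsLiftable fun i => H6.sw n i := fun i j => by
    simp only [CoxeterMatrix.A, Matrix.of_apply]
    split_ifs with a b
    · simpa [a] using hc.sq j j.2
    · rcases b with b | b
      · exact H0.pow3_swap (b ▸ h3 j (b ▸ i.2 :))
      · exact b ▸ h3 i (b ▸ j.2 :)
    · have := Fin.val_ne_of_ne a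
      rcases lt_or_gt_of_ne this with c | c
      exacts [h2 _ _ i.2 j.2 (hc.cm _ _ (by omega) j.2), h2 _ _ i.2 j.2 (hc.cm _ _ (by omega) i.2).symm]
  obtain ⟨θ, hθ, -⟩ := H6.CoxA.hom (n := n) (s := fun i => if h : i < n then cs.simple ⟨i, h⟩ else 1) (H0.cox_of fun w hw => by
    obtain ⟨j, hj, hw⟩ := List.mem_flatMap.1 hw
    obtain ⟨i, hi, rfl⟩ := List.mem_map.1 hw
    rw [List.mem_range] at hi hj
    have := cs.simple_mul_simple_pow ⟨i, by omega⟩ ⟨j, hj⟩
    rw [show (CoxeterMatrix.A n) ⟨i, by omega⟩ ⟨j, hj⟩ = if i = j then 1 else if i + 1 = j then 3 else 2 by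
      simp [CoxeterMatrix.A, show j + 1 ≠ i by omega]] at this
    beta_reduce
    split_ifs at this with a b
    · simp [a, hj]
    · rw [if_neg a, if_pos b]; simpa [hj, show i < n by omega, pow_succ, mul_assoc] using this
    · rw [if_neg a, if_neg b]; simpa [hj, show i < n by omega, pow_succ, mul_assoc] using this)
  have e : θ.comp (cs.lift ⟨_, hl⟩) = .id _ := cs.ext_simple fun i => by simp [hθ i i.2]
  have e' : (cs.lift ⟨_, hl⟩).comp θ = .id _ := MonoidHom.eq_of_eqOn_dense (H6.gen_sw n) (by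
    rintro _ ⟨w, hw, rfl⟩
    obtain ⟨i, hi, rfl⟩ := List.mem_map.1 hw
    simp [hθ i (List.mem_range.1 hi), List.mem_range.1 hi])
  refine ⟨⟨MonoidHom.toMulEquiv θ _ e' e⟩, fun i => ?_⟩
  exact (cs.lift_apply_simple hl i).trans (dif_pos i.2)

end Cfsg.Agent.S2530
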