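import Cfsg.Statements.S2531
import Cfsg.Agent.H7.GK

set_option autoImplicit false
open Cfsg

namespace Cfsg.Agent.S2531
open H7
open scoped commutatorElement

section
open Subgroup

theorem card_P {F V : Type*} [Field F] [Finite F] [AddCommGroup V] [Module F V] [Finite V] [Nontrivial V] :
    (Nat.card (Projectivization F V) : F) = 1 := by
  haveI := Fintype.ofFinite F
  have h1 := congrArg (Nat.cast : ℕ → F) (Projectivization.card' F V)
  have q0 : (Nat.card F : F) = 0 := by rw [Nat.card_eq_fintype_card]; exact FiniteField.cast_card_eq_zero F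
  rw [Module.natCard_eq_pow_finrank (K := F)] at h1
  push_cast [Nat.cast_sub (Nat.card_pos (α := F))] at h1
  rw [q0, zero_pow Module.finrank_pos.ne'] at h1
  linear_combination h1

theorem card_W {F V : Type*} [Field F] [Finite F] [AddCommGroup V] [Module F V] [Finite V] (W : Submodule F V)
    (hW : W ≠ ⊥) : (Nat.card {x : Projectivization F V // x.submodule ≤ W} : F) = 1 := by
  haveI : Nontrivial W := Submodule.nontrivial_iff_ne_bot.2 hW
  rw [← card_P (F := F) (V := W)]
  congr 1
  symm
  refine Nat.card_congr (Equiv.ofBijective (fun y => ⟨Projectivization.map W.subtype W.subtype_injective y, ?_⟩) ⟨?_, ?_⟩)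
  · induction y using Projectivization.ind with
    | h v hv =>
      rw [Projectivization.map_mk, Projectivization.submodule_mk, Submodule.span_singleton_le_iff_mem]
      exact v.2
  · intro a b h
    exact Projectivization.map_injective W.subtype W.subtype_injective (congrArg Subtype.val h)
  · rintro ⟨x, hx⟩
    induction x using Projectivization.ind with
    | h v hv =>
      rw [Projectivization.submodule_mk, Submodule.span_singleton_le_iff_mem] at hx
      exact ⟨Projectivization.mk F ⟨v, hx⟩ (fun e => hv (congrArg Subtype.val e)), rfl⟩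

end

/-- Let `F` be a finite field and `n ≥ 3`. No set of permutations of the points of the projective space of `Fⁿ`, each induced by an invertible semilinear transformation of `Fⁿ` (so a subset of the full projective semilinear group), is sharply 2-transitive on the points: it is impossible that for all pairs of distinct points `(a, b)` and `(c, d)` exactly one member of the set sends `a` to `c` and `b` to `d`. -/
theorem result {F : Type*} [Field F] [Finite F]
    (n : ℕ) (hn : 3 ≤ n) (S : Set (Equiv.Perm (Projectivization F (Fin n → F))))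
    (hS : ∀ s ∈ S, ∃ (σ : F ≃+* F) (f : (Fin n → F) →ₛₗ[(σ : F →+* F)] (Fin n → F)) (hf : Function.Injective f),
      ∀ x, s x = Projectivization.map f hf x) :
    ¬ (∀ a b c d : Projectivization F (Fin n → F), a ≠ b → c ≠ d →
        ∃! s, s ∈ S ∧ s a = c ∧ s b = d) := by
  open Subgroup in
  classical
  intro h
  haveI : Nonempty (Fin n) := ⟨⟨0, by omega⟩⟩
  let i0 : Fin n := ⟨0, by omega⟩
  let i1 : Fin n := ⟨1, by omega⟩
  have h01 : i0 ≠ i1 := by simp [i0, i1]
  let H : Submodule F (Fin n → F) := LinearMap.ker (LinearMap.proj i0)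
  have s0 : (Pi.single i0 1 : Fin n → F) ≠ 0 := by simp
  have s1 : (Pi.single i1 1 : Fin n → F) ≠ 0 := by simp
  let ω := Projectivization.mk F _ s0
  let x0 := Projectivization.mk F _ s1
  have hω : ¬ ω.submodule ≤ H := by
    rw [Projectivization.submodule_mk, Submodule.span_singleton_le_iff_mem]
    simp [H]
  have hx0 : x0.submodule ≤ H := by
    rw [Projectivization.submodule_mk, Submodule.span_singleton_le_iff_mem]
    simp [H, h01]
  have ne : ∀ x : Projectivization F (Fin n → F), x.submodule ≤ H → ω ≠ x := fun x hx e => hω (e ▸ hx)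
  let T := {s : Equiv.Perm (Projectivization F (Fin n → F)) // s ∈ S ∧ s ω = ω}
  let A := {x : Projectivization F (Fin n → F) // x.submodule ≤ H}
  have cA : (Nat.card A : F) = 1 := card_W H fun e => by
    have : (Pi.single i1 1 : Fin n → F) ∈ H := by simp [H, h01]
    rw [e] at this
    exact s1 this
  have cT : (Nat.card T : F) = 0 := by
    have e : T ≃ {y // y ≠ ω} := Equiv.ofBijective (fun s => ⟨s.1 x0, fun e => ne x0 hx0 (s.1.injective (s.2.2.trans e.symm))⟩)
      ⟨fun s t e => Subtype.ext ((h ω x0 ω (s.1 x0) (ne x0 hx0) fun e => ne x0 hx0 (s.1.injective (s.2.2.trans e))).unique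
          ⟨s.2.1, s.2.2, rfl⟩ ⟨t.2.1, t.2.2, (congrArg Subtype.val e).symm⟩),
        fun y => by
          obtain ⟨s, hs, -⟩ := h ω x0 ω y.1 (ne x0 hx0) y.2.symm
          exact ⟨⟨s, hs.1, hs.2.1⟩, Subtype.ext hs.2.2⟩⟩
    haveI := Fintype.ofFinite (Projectivization F (Fin n → F))
    have h1 := card_P (F := F) (V := Fin n → F)
    rw [Nat.card_congr e, Nat.card_eq_fintype_card, Fintype.card_subtype_compl, Fintype.card_subtype_eq,
      Nat.cast_sub (Fintype.card_pos_iff.2 ⟨ω⟩), ← Nat.card_eq_fintype_card, h1]
    simp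
  let B : T → Type _ := fun s => {x : Projectivization F (Fin n → F) // x.submodule ≤ H ∧ (s.1 x).submodule ≤ H}
  have cB : ∀ s, (Nat.card (B s) : F) = 1 := by
    intro s
    obtain ⟨σ, f, hf, hs⟩ := hS s.1 s.2.1
    rw [← card_W (H ⊓ H.comap f) ?_]
    · congr 1
      refine Nat.card_congr (Equiv.subtypeEquivRight fun x => ?_)
      induction x using Projectivization.ind with
      | h v hv =>
        rw [hs, Projectivization.map_mk]
        simp only [Projectivization.submodule_mk, Submodule.span_singleton_le_iff_mem, Submodule.mem_inf,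
          Submodule.mem_comap]
    · intro e
      have hinj : Function.Injective (fun v : Fin n → F => (v i0, f v i0)) := by
        intro a b hab
        have : a - b ∈ H ⊓ H.comap f := by
          simp only [Prod.mk.injEq] at hab
          simp [H, hab.1, hab.2]
        rw [e] at this
        exact sub_eq_zero.1 this
      have h1 := Nat.card_le_card_of_injective _ hinj
      rw [Nat.card_prod, Nat.card_fun, Nat.card_eq_fintype_card (α := Fin n), Fintype.card_fin, ← pow_two] at h1
      have := (Nat.pow_le_pow_iff_right (Finite.one_lt_card (α := F))).1 h1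
      omega
  have e : (Σ s : T, B s) ≃ A × A := Equiv.ofBijective (fun p => (⟨p.2.1, p.2.2.1⟩, ⟨p.1.1 p.2.1, p.2.2.2⟩))
    ⟨by
      rintro ⟨s, x, hx⟩ ⟨t, y, hy⟩ e
      simp only [Prod.mk.injEq, Subtype.mk.injEq, A] at e
      obtain ⟨rfl, e⟩ := e
      obtain rfl : s = t := Subtype.ext ((h ω x ω (s.1 x) (ne x hx.1) (ne _ hx.2)).unique
        ⟨s.2.1, s.2.2, rfl⟩ ⟨t.2.1, t.2.2, e.symm⟩)
      rfl,
    by
      rintro ⟨x, y⟩
      obtain ⟨s, hs, -⟩ := h ω x.1 ω y.1 (ne _ x.2) (ne _ y.2)
      exact ⟨⟨⟨s, hs.1, hs.2.1⟩, x.1, x.2, by rw [hs.2.2]; exact y.2⟩, Prod.ext rfl (Subtype.ext hs.2.2)⟩⟩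
  haveI := Fintype.ofFinite T
  have h1 := congrArg (Nat.cast : ℕ → F) (Nat.card_congr e)
  rw [Nat.card_sigma, Nat.card_prod] at h1
  push_cast at h1
  rw [cA, Finset.sum_congr rfl fun s _ => cB s, Finset.sum_const, Finset.card_univ, ← Nat.card_eq_fintype_card,
    nsmul_eq_mul, cT] at h1
  simp at h1

end Cfsg.Agent.S2531
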