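import Cfsg.Statements.S4015
import Cfsg.Agent.H7.GK
import Cfsg.Agent.S4010
import Cfsg.Agent.S2277
import Cfsg.Agent.S4417

set_option autoImplicit false
open Cfsg

namespace Cfsg.Agent.S4015
open H7
open scoped commutatorElement

section
open Subgroup

universe u v in
theorem cop_p {K : Type*} [Field K] [IsAlgClosed K] {p : ℕ} [Fact p.Prime] (hp : (p : K) ≠ 0) (k : ℕ) :
    ∀ (n : ℕ) (G : Type u) [Group G] [Finite G] (_ : IsPGroup p G) (V : Type v) [AddCommGroup V] [Module K V]
      [FiniteDimensional K V] (ρ : Representation K G V), Module.finrank K V = n → n < p ^ k →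
      ∀ g ∈ derivedSeries G k, ρ g = 1 := by
  induction k with
  | zero =>
    intro n G _ _ hG V _ _ _ ρ hn hlt g _
    have : Module.finrank K V = 0 := by rw [pow_zero] at hlt; omega
    haveI : Subsingleton V := Module.finrank_zero_iff.1 this
    exact Subsingleton.elim _ _
  | succ k ihk =>
    intro n
    induction n using Nat.strong_induction_on with
    | _ n ihn =>
    intro G _ _ hG V _ _ _ ρ hn hlt g hg
    rcases subsingleton_or_nontrivial V with hV | hV
    · exact Subsingleton.elim _ _
    rcases S2277.tri hG ρ with ⟨z, hz, hne⟩ | hsc | ⟨x, χ, hc, a0, ha0⟩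
    · refine S4010.one_of_eig hG hp ρ z g (fun μ w hw => ?_)
      have hinv : ∀ a, Module.End.eigenspace (ρ z) μ ≤ (Module.End.eigenspace (ρ z) μ).comap (ρ a) := by
        intro a y hy
        rw [Submodule.mem_comap, Module.End.mem_eigenspace_iff] at *
        rw [← Module.End.mul_apply, ← hz a, Module.End.mul_apply, hy, map_smul]
      have hlt' : Module.finrank K (Module.End.eigenspace (ρ z) μ) < n := by
        rw [← hn]; exact Submodule.finrank_lt (hne μ)
      have := ihn _ hlt' G hG _ (ρ.subrepresentation _ hinv) rfl (by omega) g hg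
      exact congrArg Subtype.val (LinearMap.congr_fun this ⟨w, hw⟩)
    · let ρu : G →* (Module.End K V)ˣ := MonoidHom.toHomUnits ρ
      have : _root_.commutator G ≤ ρu.ker := by
        rw [_root_.commutator_def, commutator_le]
        intro a _ b _
        rw [MonoidHom.mem_ker, map_commutatorElement, commutatorElement_eq_one_iff_mul_comm]
        obtain ⟨μ, hμ⟩ := hsc a
        refine Units.ext ?_
        change ρ a * ρ b = ρ b * ρ a
        rw [hμ, smul_mul_assoc, mul_smul_comm, one_mul, mul_one]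
      exact congrArg Units.val (this (S4010.der_le_comm G k hg))
    have hinj : ∀ a, Function.Injective (ρ a) := fun a => by
      intro y w h
      have := congrArg (ρ a⁻¹) h
      rwa [← Module.End.mul_apply, ← Module.End.mul_apply, ← map_mul, inv_mul_cancel, map_one] at this
    have hcomm : ∀ a ∈ _root_.commutator G, χ a = 1 := by
      intro a ha
      have := Abelianization.commutator_subset_ker χ.toHomUnits ha
      exact congrArg Units.val this
    refine S4010.one_of_eig hG hp ρ x g (fun μ w hw => ?_)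
    by_cases hw0 : w = 0
    · rw [hw0, map_zero]
    have hμ : μ ≠ 0 := by
      rintro rfl
      rw [Module.End.mem_eigenspace_iff, zero_smul] at hw
      exact hw0 (hinj x (by rw [hw, map_zero]))
    obtain ⟨g', hg', rfl⟩ := S4010.der_succ_le G k hg
    have hmap : ∀ a, ∀ y ∈ Module.End.eigenspace (ρ x) μ, ρ a y ∈ Module.End.eigenspace (ρ x) (χ a * μ) := by
      intro a y hy
      rw [Module.End.mem_eigenspace_iff] at *
      rw [← Module.End.mul_apply, hc, LinearMap.smul_apply, Module.End.mul_apply, hy, map_smul, smul_smul]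
    let σ : Representation K (_root_.commutator G) V := MonoidHom.comp ρ (_root_.commutator G).subtype
    have hinv : ∀ a, Module.End.eigenspace (ρ x) μ ≤ (Module.End.eigenspace (ρ x) μ).comap (σ a) := by
      intro a y hy
      have := hmap a y hy
      rwa [hcomm _ a.2, one_mul] at this
    obtain ⟨a, ha⟩ := hG a0
    have hca : χ a0 ^ p ^ a = 1 := by rw [← map_pow, ha, map_one]
    have hle : p ≤ orderOf (χ a0) := by
      obtain ⟨m, -, hm⟩ := (Nat.dvd_prime_pow Fact.out).1 (orderOf_dvd_of_pow_eq_one hca)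
      rw [hm]
      refine Nat.le_self_pow (fun h => ha0 ?_) p
      rw [h, pow_zero] at hm
      exact orderOf_eq_one_iff.1 hm
    have hi : Function.Injective fun i : Fin p => χ (a0 ^ (i : ℕ)) * μ := by
      intro i j h
      have h1 := mul_right_cancel₀ hμ h
      rw [map_pow, map_pow] at h1
      exact Fin.ext (pow_injOn_Iio_orderOf (i.2.trans_le hle) (j.2.trans_le hle) h1)
    have h1 := S4417.sum_le (ρ x) _ hi
    have h2 := Finset.card_nsmul_le_sum Finset.univ _ _ (fun (i : Fin p) _ =>
      LinearMap.finrank_le_finrank_of_injective (f := (ρ (a0 ^ (i : ℕ))).restrict (hmap _))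
        (fun a b h => Subtype.ext (hinj _ (congrArg Subtype.val h))))
    rw [Finset.card_univ, Fintype.card_fin, smul_eq_mul] at h2
    have hdim : Module.finrank K (Module.End.eigenspace (ρ x) μ) < p ^ k := by
      rw [pow_succ'] at hlt
      exact Nat.lt_of_mul_lt_mul_left (lt_of_le_of_lt (h2.trans (h1.trans hn.le)) hlt)
    have := ihk _ (_root_.commutator G) (hG.to_subgroup _) _ (σ.subrepresentation _ hinv) rfl hdim g' hg'
    exact congrArg Subtype.val (LinearMap.congr_fun this ⟨w, hw⟩)

universe u v in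
theorem main {K : Type*} [Field K] [IsAlgClosed K] {p : ℕ} [Fact p.Prime] (hp : (p : K) ≠ 0)
    (q : ℕ) (hq : Function.Surjective fun c : K => c ^ q) (k : ℕ)
    {G : Type u} [Group G] [Finite G] (hG : IsPGroup p G) :
    ∀ (n : ℕ) (V : Type v) [AddCommGroup V] [Module K V]
      [FiniteDimensional K V] (ρ : Representation K G V) (φ : V →+ V), Function.Injective φ →
      (∀ (c : K) y, φ (c • y) = c ^ q • φ y) → (∀ g y, φ (ρ g y) = ρ g (φ y)) →
      Module.finrank K V = n → n < orderOf (q : ZMod p) * p ^ k → ∀ g ∈ derivedSeries G k, ρ g = 1 := by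
  intro n
  induction n using Nat.strong_induction_on with
  | _ n ihn =>
  intro V _ _ _ ρ φ hφ hs hc hn hlt g hg
  by_contra hg1
  let ρu : G →* (Module.End K V)ˣ := MonoidHom.toHomUnits ρ
  have hQ : IsPGroup p ρu.range := hG.of_surjective _ ρu.rangeRestrict_surjective
  haveI : Finite ρu.range := Finite.of_surjective _ ρu.rangeRestrict_surjective
  haveI : Nontrivial ρu.range := ⟨⟨ρu g, g, rfl⟩, 1, fun h => hg1 (congrArg Units.val (congrArg Subtype.val h))⟩
  haveI := hQ.center_nontrivial
  obtain ⟨⟨⟨_, z, rfl⟩, hz⟩, hz1⟩ := exists_ne (1 : center ρu.range)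
  have hz1' : ρ z ≠ 1 := fun h => hz1 (Subtype.ext (Subtype.ext (Units.ext h)))
  have hzc : ∀ a, ρ a * ρ z = ρ z * ρ a := fun a =>
    congrArg Units.val (congrArg Subtype.val (mem_center_iff.1 hz ⟨ρu a, a, rfl⟩))
  refine hg1 (S4010.one_of_eig hG hp ρ z g (fun μ w hw => ?_))
  have hinv : ∀ a, Module.End.eigenspace (ρ z) μ ≤ (Module.End.eigenspace (ρ z) μ).comap (ρ a) := by
    intro a y hy
    rw [Submodule.mem_comap, Module.End.mem_eigenspace_iff] at *
    rw [← Module.End.mul_apply, ← hzc a, Module.End.mul_apply, hy, map_smul]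
  have hφE : ∀ ν : K, ∀ y ∈ Module.End.eigenspace (ρ z) ν, φ y ∈ Module.End.eigenspace (ρ z) (ν ^ q) := by
    intro ν y hy
    rw [Module.End.mem_eigenspace_iff] at *
    rw [← hc, hy, hs]
  let ψ : ∀ ν : K, Module.End.eigenspace (ρ z) ν →+ Module.End.eigenspace (ρ z) (ν ^ q) := fun ν =>
    { toFun := fun y => ⟨φ y, hφE ν y y.2⟩
      map_zero' := Subtype.ext (map_zero φ)
      map_add' := fun a b => Subtype.ext (map_add φ _ _) }
  have hdim : ∀ ν : K, Module.finrank K (Module.End.eigenspace (ρ z) ν) ≤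
      Module.finrank K (Module.End.eigenspace (ρ z) (ν ^ q)) := by
    intro ν
    have := rank_le_of_surjective_injective (fun c : K => c ^ q) (ψ ν) hq
      (fun a b h => Subtype.ext (hφ (congrArg Subtype.val h))) (fun c y => Subtype.ext (hs c y))
    rw [← Module.finrank_eq_rank, ← Module.finrank_eq_rank] at this
    exact_mod_cast this
  by_cases hμ : μ = 1
  · subst hμ
    have hne : Module.End.eigenspace (ρ z) 1 ≠ ⊤ := by
      intro h
      apply hz1'
      ext y
      have : y ∈ Module.End.eigenspace (ρ z) 1 := by rw [h]; trivial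
      rw [Module.End.mem_eigenspace_iff, one_smul] at this
      exact this
    have hlt' : Module.finrank K (Module.End.eigenspace (ρ z) 1) < n := by
      rw [← hn]; exact Submodule.finrank_lt hne
    let ψ1 : Module.End.eigenspace (ρ z) 1 →+ Module.End.eigenspace (ρ z) 1 :=
      { toFun := fun y => ⟨φ y, by simpa using hφE 1 y y.2⟩
        map_zero' := Subtype.ext (map_zero φ)
        map_add' := fun a b => Subtype.ext (map_add φ _ _) }
    have := ihn _ hlt' _ (ρ.subrepresentation _ hinv) ψ1
      (fun a b h => Subtype.ext (hφ (congrArg Subtype.val h))) (fun c y => Subtype.ext (hs c y))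
      (fun a y => Subtype.ext (hc a y)) rfl (by omega) g hg
    exact congrArg Subtype.val (LinearMap.congr_fun this ⟨w, hw⟩)
  by_cases hw0 : w = 0
  · rw [hw0, map_zero]
  obtain ⟨a, ha⟩ := hG z
  have hμa : μ ^ p ^ a = 1 := by
    have h1 := Module.End.HasEigenvector.pow_apply ⟨hw, hw0⟩ (p ^ a)
    rw [← map_pow, ha, map_one, Module.End.one_apply] at h1
    refine smul_left_injective K hw0 ?_
    simpa using h1.symm
  have hfin : IsOfFinOrder μ := isOfFinOrder_iff_pow_eq_one.2 ⟨_, pow_pos (Fact.out : p.Prime).pos a, hμa⟩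
  have hdvd : p ∣ orderOf μ := by
    obtain ⟨m, -, hm⟩ := (Nat.dvd_prime_pow Fact.out).1 (orderOf_dvd_of_pow_eq_one hμa)
    rw [hm]
    refine dvd_pow_self p (fun h => hμ ?_)
    rw [h, pow_zero] at hm
    exact orderOf_eq_one_iff.1 hm
  have hinj : Function.Injective fun i : Fin (orderOf (q : ZMod p)) => μ ^ q ^ (i : ℕ) := by
    intro i j h
    have h1 := (hfin.pow_eq_pow_iff_modEq.1 h).of_dvd hdvd
    have h2 := (ZMod.natCast_eq_natCast_iff _ _ _).2 h1
    rw [Nat.cast_pow, Nat.cast_pow] at h2
    exact Fin.ext (pow_injOn_Iio_orderOf i.2 j.2 h2)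
  have hle : ∀ i : ℕ, Module.finrank K (Module.End.eigenspace (ρ z) μ) ≤
      Module.finrank K (Module.End.eigenspace (ρ z) (μ ^ q ^ i)) := by
    intro i
    induction i with
    | zero => rw [pow_zero, pow_one]
    | succ i ih => rw [pow_succ, pow_mul]; exact ih.trans (hdim _)
  have h1 := S4417.sum_le (ρ z) _ hinj
  have h2 := Finset.card_nsmul_le_sum Finset.univ _ _ (fun (i : Fin (orderOf (q : ZMod p))) _ => hle i)
  rw [Finset.card_univ, Fintype.card_fin, smul_eq_mul] at h2
  have h3 : Module.finrank K (Module.End.eigenspace (ρ z) μ) < p ^ k :=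
    Nat.lt_of_mul_lt_mul_left (lt_of_le_of_lt (h2.trans (h1.trans hn.le)) hlt)
  have := cop_p hp k _ G hG _ (ρ.subrepresentation _ hinv) rfl h3 g hg
  exact congrArg Subtype.val (LinearMap.congr_fun this ⟨w, hw⟩)
theorem upper {F : Type*} [Field F] [Fintype F] (q : ℕ) (hF : Fintype.card F = q) (p : ℕ) [Fact p.Prime]
    (hpq : ¬ p ∣ q) (n e : ℕ) (he : e = orderOf (q : ZMod p)) (P : Subgroup (GL (Fin n) F)) (hP : IsPGroup p P) :
    derivedSeries ↥P (Nat.log p (n / e) + 1) = ⊥ := by
  let K := AlgebraicClosure F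
  let τ : Matrix (Fin n) (Fin n) F →* Module.End K (Fin n → K) :=
    (Matrix.toLinAlgEquiv' (R := K) (n := Fin n)).toMulEquiv.toMonoidHom.comp
      ((algebraMap F K).mapMatrix (m := Fin n)).toMonoidHom
  have hτ : Function.Injective τ :=
    (Matrix.toLinAlgEquiv' (R := K) (n := Fin n)).injective.comp (Matrix.map_injective (algebraMap F K).injective)
  let σ : Representation K P (Fin n → K) := τ.comp ((Units.coeHom _).comp P.subtype)
  have hσ : Function.Injective σ := hτ.comp (Units.val_injective.comp P.subtype_injective)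
  obtain ⟨r, hr⟩ := CharP.exists F
  obtain ⟨m, hrp, hm⟩ := FiniteField.card F r
  haveI := Fact.mk hrp
  have hqr : q = r ^ (m : ℕ) := hF ▸ hm
  haveI : CharP K r := charP_of_injective_algebraMap (algebraMap F K).injective r
  have hp : (p : K) ≠ 0 := by
    intro h
    rw [CharP.cast_eq_zero_iff K r] at h
    rw [(Nat.prime_dvd_prime_iff_eq hrp Fact.out).1 h] at hqr
    exact hpq (hqr ▸ dvd_pow_self p m.ne_zero)
  let fr : K →+* K := iterateFrobenius K r m
  have hfr : ∀ c, fr c = c ^ q := fun c => by rw [hqr]; rfl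
  have hfix : ∀ c : F, fr (algebraMap F K c) = algebraMap F K c := fun c => by
    rw [hfr, ← map_pow, ← hF, FiniteField.pow_card]
  have hq0 : 0 < q := hF ▸ Fintype.card_pos
  let φ : (Fin n → K) →+ (Fin n → K) := fr.toAddMonoidHom.compLeft (Fin n)
  have he0 : 0 < e := by
    rw [he, orderOf_pos_iff]
    have : (q : ZMod p) ≠ 0 := fun h => hpq ((ZMod.natCast_eq_zero_iff _ _).1 h)
    exact isOfFinOrder_iff_pow_eq_one.2 ⟨p - 1, Nat.sub_pos_of_lt (Fact.out : p.Prime).one_lt, ZMod.pow_card_sub_one_eq_one this⟩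
  have hlt : n < e * p ^ (Nat.log p (n / e) + 1) := by
    rw [mul_comm, ← Nat.div_lt_iff_lt_mul he0]
    exact Nat.lt_pow_succ_log_self (Fact.out : p.Prime).one_lt _
  rw [eq_bot_iff_forall]
  intro g hg
  apply hσ
  rw [map_one]
  refine main hp q (fun c => IsAlgClosed.exists_pow_nat_eq c hq0) _ hP n _ σ φ
    (fun a b h => funext fun i => fr.injective (congrFun h i)) (fun c y => funext fun i => ?_)
    (fun a y => funext fun i => ?_) (by simp) (he ▸ hlt) g hg
  · change fr (c * y i) = c ^ q * fr (y i)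
    rw [map_mul, hfr c]
  · change fr (∑ j, algebraMap F K (a.1.1 i j) * y j) = ∑ j, algebraMap F K (a.1.1 i j) * fr (y j)
    rw [map_sum]
    simp only [map_mul, hfix]


universe u in
/-- There is a finite `p`-group acting on `ι → U`, preserving the form, with `k`-th derived subgroup acting
non-trivially. -/
def EE (p : ℕ) (F : Type u) [Field F] (U : Type u) [AddCommGroup U] [Module F U] (b : U → U → F)
    (ι : Type) [Fintype ι] (k : ℕ) : Prop :=
  ∃ (H : Type u) (_ : Group H) (_ : Finite H), IsPGroup p H ∧ ∃ ρ : Representation F H (ι → U),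
    (∀ h f g, ∑ i, b (ρ h f i) (ρ h g i) = ∑ i, b (f i) (g i)) ∧ ∃ g ∈ derivedSeries H k, ρ g ≠ 1

section
universe u
variable {p : ℕ} {F : Type u} [Field F] {U : Type u} [AddCommGroup U] [Module F U] {b : U → U → F}

/-- Padding a representation. -/
def padR {H : Type*} [Group H] {ι κ τ : Type} (e : ι ⊕ τ ≃ κ) (ρ : Representation F H (ι → U)) :
    Representation F H (κ → U) where
  toFun h :=
    { toFun := fun f x => Sum.elim (ρ h (fun i => f (e (.inl i)))) (fun t => f (e (.inr t))) (e.symm x)
      map_add' := fun f g => by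
        ext x
        have : (fun i => (f + g) (e (.inl i))) = (fun i => f (e (.inl i))) + fun i => g (e (.inl i)) := rfl
        rw [this, map_add]
        obtain ⟨y | y, rfl⟩ := e.surjective x <;> simp
      map_smul' := fun c f => by
        ext x
        have : (fun i => (c • f) (e (.inl i))) = c • (fun i => f (e (.inl i))) := rfl
        rw [this, map_smul]
        obtain ⟨y | y, rfl⟩ := e.surjective x <;> simp }
  map_one' := by
    refine LinearMap.ext fun f => funext fun x => ?_
    obtain ⟨y | y, rfl⟩ := e.surjective x <;> simp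
  map_mul' a c := by
    refine LinearMap.ext fun f => funext fun x => ?_
    obtain ⟨y | y, rfl⟩ := e.surjective x <;> simp

theorem EE.pad {ι κ : Type} [Fintype ι] [Fintype κ] {k : ℕ} (h : EE p F U b ι k)
    (hc : Fintype.card ι ≤ Fintype.card κ) : EE p F U b κ k := by
  obtain ⟨H, _, _, hH, ρ, hρ, g, hg, hg1⟩ := h
  let e : ι ⊕ Fin (Fintype.card κ - Fintype.card ι) ≃ κ := Fintype.equivOfCardEq (by simp; omega)
  refine ⟨H, inferInstance, inferInstance, hH, padR e ρ, fun h f f' => ?_, g, hg, fun h => hg1 ?_⟩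
  · rw [← e.sum_comp, ← e.sum_comp (fun i => b (f i) (f' i)), Fintype.sum_sum_type, Fintype.sum_sum_type,
      ← hρ h (fun i => f (e (.inl i))) (fun i => f' (e (.inl i)))]
    simp [padR]
  · refine LinearMap.ext fun f => funext fun i => ?_
    have := congrFun (LinearMap.congr_fun h (fun x => Sum.elim f 0 (e.symm x))) (e (.inl i))
    simpa [padR] using this

/-- The wreath product representation. -/
def wrR {H Q : Type*} [Group H] [Group Q] {ι : Type} (ρ : Representation F H (ι → U)) :
    Representation F (H ≀ᵣ Q) (Q × ι → U) where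
  toFun w :=
    { toFun := fun f x => ρ (w.left x.1) (fun j => f (w.right⁻¹ * x.1, j)) x.2
      map_add' := fun f g => by
        ext x
        have : (fun j => (f + g) (w.right⁻¹ * x.1, j)) =
          (fun j => f (w.right⁻¹ * x.1, j)) + fun j => g (w.right⁻¹ * x.1, j) := rfl
        rw [this, map_add]; rfl
      map_smul' := fun c f => by
        ext x
        have : (fun j => (c • f) (w.right⁻¹ * x.1, j)) = c • (fun j => f (w.right⁻¹ * x.1, j)) := rfl
        rw [this, map_smul]; rfl }
  map_one' := by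
    refine LinearMap.ext fun f => funext fun x => ?_
    simp
  map_mul' a c := by
    refine LinearMap.ext fun f => funext fun x => ?_
    simp [mul_assoc]

/-- The base group. -/
def bs (H Q : Type*) [Group H] [Group Q] : (Q → H) →* H ≀ᵣ Q where
  toFun f := ⟨f, 1⟩
  map_one' := rfl
  map_mul' f g := by ext <;> simp

theorem der_wr {H Q : Type*} [Group H] [Group Q] [Nontrivial Q] (k : ℕ) :
    ∀ h ∈ derivedSeries H k, ∃ f : Q → H, f 1 = h ∧ bs H Q f ∈ derivedSeries (H ≀ᵣ Q) (k + 1) := by
  classical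
  have : derivedSeries H k ≤ ((derivedSeries (H ≀ᵣ Q) (k + 1)).comap (bs H Q)).map (Pi.evalMonoidHom _ 1) := by
    induction k with
    | zero =>
      intro h _
      obtain ⟨t, ht⟩ := exists_ne (1 : Q)
      refine ⟨⁅bs H Q (Pi.mulSingle 1 h), RegularWreathProduct.inl t⁆.left, ?_, ?_⟩
      · have e : bs H Q ⁅bs H Q (Pi.mulSingle 1 h), RegularWreathProduct.inl t⁆.left =
            ⁅bs H Q (Pi.mulSingle 1 h), RegularWreathProduct.inl t⁆ := by
          ext
          · rfl
          · simp [bs, commutatorElement_def]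
        rw [SetLike.mem_coe, mem_comap, e]
        exact commutator_mem_commutator trivial trivial
      · simp [bs, commutatorElement_def, Pi.mulSingle_eq_of_ne (inv_ne_one.2 ht)]
    | succ k ih =>
      rw [derivedSeries_succ, commutator_le]
      intro a ha c hc
      obtain ⟨f, hf, rfl⟩ := ih ha
      obtain ⟨f', hf', rfl⟩ := ih hc
      refine ⟨⁅f, f'⁆, ?_, map_commutatorElement _ _ _⟩
      rw [SetLike.mem_coe, mem_comap, map_commutatorElement, derivedSeries_succ]
      exact commutator_mem_commutator hf hf'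
  intro h hh
  obtain ⟨f, hf, e⟩ := this hh
  exact ⟨f, e, hf⟩

theorem EE.wr [Fact p.Prime] {ι : Type} [Fintype ι] {k : ℕ} (h : EE p F U b ι k) :
    EE p F U b (Multiplicative (ZMod p) × ι) (k + 1) := by
  obtain ⟨H, _, _, hH, ρ, hρ, g, hg, hg1⟩ := h
  obtain ⟨f, hf, hf'⟩ := der_wr (Q := Multiplicative (ZMod p)) k g hg
  refine ⟨H ≀ᵣ Multiplicative (ZMod p), inferInstance, inferInstance, ?_, wrR ρ, fun w u v => ?_, _, hf', fun h => hg1 ?_⟩
  · obtain ⟨m, hm⟩ := IsPGroup.iff_card.1 hH
    refine IsPGroup.of_card (n := m * p + 1) ?_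
    rw [RegularWreathProduct.card, hm]
    simp [pow_succ, pow_mul]
  · rw [Fintype.sum_prod_type, Fintype.sum_prod_type,
      ← Equiv.sum_comp (Equiv.mulLeft w.right⁻¹) (fun x => ∑ j, b (u (x, j)) (v (x, j)))]
    refine Finset.sum_congr rfl fun x _ => ?_
    exact hρ (w.left x) (fun j => u (w.right⁻¹ * x, j)) (fun j => v (w.right⁻¹ * x, j))
  · refine LinearMap.ext fun u => funext fun i => ?_
    have := congrFun (LinearMap.congr_fun h (fun x => u x.2)) (1, i)
    rw [← hf]
    exact this

theorem EE.iter [Fact p.Prime] {m k : ℕ} (h : EE p F U b (Fin m) k) (j n : ℕ) (hn : p ^ j * m ≤ n) :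
    EE p F U b (Fin n) (k + j) := by
  induction j generalizing n with
  | zero => exact h.pad (by simpa using hn)
  | succ j ih =>
    refine (ih _ le_rfl).wr.pad ?_
    rw [pow_succ', mul_assoc] at hn
    simpa using hn

end

theorem syl_ne {G H : Type*} [Group G] [Finite G] [Group H] {p : ℕ} [Fact p.Prime] (hH : IsPGroup p H)
    (φ : H →* G) (k : ℕ) (g : H) (hg : g ∈ derivedSeries H k) (h1 : φ g ≠ 1) (P : Sylow p G) :
    derivedSeries (P : Subgroup G) k ≠ ⊥ := by
  intro h
  obtain ⟨Q, hQ⟩ := (hH.of_surjective _ φ.rangeRestrict_surjective).exists_le_sylow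
  let ψ : H →* (P : Subgroup G) := (Sylow.equiv Q P).toMonoidHom.comp (φ.codRestrict _ fun x => hQ ⟨x, rfl⟩)
  have := map_derivedSeries_le_derivedSeries ψ k ⟨g, hg, rfl⟩
  rw [h, mem_bot] at this
  exact h1 (congrArg Subtype.val ((Sylow.equiv Q P).map_eq_one_iff.1 this))

end

/-- Let p be an odd prime, F a finite field with q elements where p does not divide q, and e the multiplicative order of q modulo p. Let n ≥ e and write w = ⌊n/e⌋ and k = ⌊log_p w⌋. Then a Sylow p-subgroup of GL(n, F) has derived length exactly k + 1: its (k+1)-st derived subgroup is trivial and its k-th is not. -/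
theorem result (p : ℕ) [Fact p.Prime] (hp : p ≠ 2) (F : Type*) [Field F] [Fintype F] (q : ℕ) (hq : Fintype.card F = q) (hpq : ¬ p ∣ q) (n : ℕ) (hn : orderOf (q : ZMod p) ≤ n) (P : Sylow p (Matrix.GeneralLinearGroup (Fin n) F)) : derivedSeries ↥(P : Subgroup (Matrix.GeneralLinearGroup (Fin n) F)) (Nat.log p (n / orderOf (q : ZMod p)) + 1) = ⊥ ∧ derivedSeries ↥(P : Subgroup (Matrix.GeneralLinearGroup (Fin n) F)) (Nat.log p (n / orderOf (q : ZMod p))) ≠ ⊥ := by
  open Subgroup in
  refine ⟨upper q hq p hpq n _ rfl _ P.2, ?_⟩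
  set e := orderOf (q : ZMod p) with he
  have hq0 : (q : ZMod p) ≠ 0 := fun h => hpq ((ZMod.natCast_eq_zero_iff _ _).1 h)
  have he0 : 0 < e := by
    rw [he, orderOf_pos_iff]
    exact isOfFinOrder_iff_pow_eq_one.2 ⟨p - 1, Nat.sub_pos_of_lt (Fact.out : p.Prime).one_lt, ZMod.pow_card_sub_one_eq_one hq0⟩
  have hq1 : 1 ≤ q := hq ▸ Fintype.card_pos
  have hdvd : p ∣ Nat.card (GL (Fin e) F) := by
    rw [Matrix.card_GL_field, hq]
    refine dvd_trans ?_ (Finset.dvd_prod_of_mem _ (Finset.mem_univ (⟨0, he0⟩ : Fin e)))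
    rw [← ZMod.natCast_eq_zero_iff, Nat.cast_sub (Nat.pow_le_pow_right hq1 (Nat.zero_le _)), Nat.cast_pow, he,
      pow_orderOf_eq_one]
    simp
  obtain ⟨x, hx⟩ := exists_prime_orderOf_dvd_card' p hdvd
  have base : EE p F F (fun _ _ => 0) (Fin e) 0 := by
    refine ⟨zpowers x, inferInstance, inferInstance, IsPGroup.of_card (n := 1) (by rw [Nat.card_zpowers, hx, pow_one]),
      (Matrix.toLinAlgEquiv' (R := F) (n := Fin e)).toMulEquiv.toMonoidHom.comp ((Units.coeHom _).comp (zpowers x).subtype),
      fun _ _ _ => rfl, ⟨x, mem_zpowers x⟩, trivial, fun h => ?_⟩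
    have h1 : x = 1 := Units.ext ((Matrix.toLinAlgEquiv' (R := F) (n := Fin e)).toMulEquiv.map_eq_one_iff.1 h)
    rw [h1, orderOf_one] at hx
    exact (Fact.out : p.Prime).one_lt.ne hx
  obtain ⟨H, _, _, hH, ρ, -, g, hg, hg1⟩ := base.iter (Nat.log p (n / e)) n (by
    rw [← Nat.le_div_iff_mul_le he0]
    exact Nat.pow_log_le_self p (Nat.div_pos hn he0).ne')
  rw [zero_add] at hg
  refine syl_ne hH ((LinearMap.toMatrixAlgEquiv' (R := F) (n := Fin n)).toMulEquiv.toMonoidHom.comp ρ).toHomUnits _ g hg
    (fun h => hg1 ?_) P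
  exact (LinearMap.toMatrixAlgEquiv' (R := F) (n := Fin n)).toMulEquiv.map_eq_one_iff.1 (congrArg Units.val h)

end Cfsg.Agent.S4015
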