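import Cfsg.Statements.S2648
import Cfsg.Agent.H7.GK
import Cfsg.Agent.H4.MatBridge
import Cfsg.Agent.S4010
import Cfsg.Agent.S4015

set_option autoImplicit false
open Cfsg

namespace Cfsg.Agent.S2648
open H7
open scoped commutatorElement

section
open Subgroup

open Matrix MatrixGroups in
theorem base {F : Type*} [Field F] (h2 : (2 : F) ≠ 0) (a b : F) (hab : a ^ 2 + b ^ 2 = -1) :
    S4015.EE 2 F (Fin 2 → F) (fun u v => u 1 * v 0 - u 0 * v 1) (Fin 1) 1 := by
  let I : SL(2, F) := ⟨!![a, b; b, -a], by rw [det_fin_two_of]; linear_combination (-1 : F) * hab⟩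
  let J : SL(2, F) := ⟨!![0, 1; -1, 0], by rw [det_fin_two_of]; ring⟩
  have hI : I * I = -1 := by
    refine Subtype.ext (show I.1 * I.1 = -1 from ?_)
    ext i j
    fin_cases i <;> fin_cases j <;> simp [I, Matrix.mul_apply, Fin.sum_univ_two] <;>
      first | linear_combination hab | ring
  have hJ : J * J = -1 := by
    refine Subtype.ext (show J.1 * J.1 = -1 from ?_)
    ext i j
    fin_cases i <;> fin_cases j <;> simp [J, Matrix.mul_apply, Fin.sum_univ_two]
  have hIJ : J * I = -(I * J) := by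
    refine Subtype.ext (show J.1 * I.1 = -(I.1 * J.1) from ?_)
    ext i j
    fin_cases i <;> fin_cases j <;> simp [I, J, Matrix.mul_apply, Fin.sum_univ_two]
  have h4 : ∀ X : SL(2, F), X * X = -1 → X ^ 4 = 1 := fun X hX => by
    rw [show X ^ 4 = (X * X) * (X * X) by simp only [pow_succ, pow_zero, one_mul, mul_assoc], hX]; simp
  have hfin : ∀ X : SL(2, F), X * X = -1 → IsOfFinOrder X := fun X hX =>
    isOfFinOrder_iff_pow_eq_one.2 ⟨4, by norm_num, h4 X hX⟩
  have hp : ∀ X : SL(2, F), X * X = -1 → IsPGroup 2 (zpowers X) := fun X hX => by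
    rintro ⟨_, k, rfl⟩
    refine ⟨2, Subtype.ext ?_⟩
    change (X ^ k) ^ (2 ^ 2) = 1
    rw [← zpow_natCast, ← _root_.zpow_mul, mul_comm, _root_.zpow_mul, zpow_natCast, show 2 ^ 2 = 4 from rfl, h4 X hX, _root_.one_zpow]
  have hinv : I⁻¹ = -I := by rw [inv_eq_iff_mul_eq_one, mul_neg, hI, neg_neg]
  have hcj : J * I * J⁻¹ = I⁻¹ := by rw [hIJ, neg_mul, mul_inv_cancel_right, hinv]
  have hn : zpowers J ≤ normalizer (zpowers I) := by
    rw [zpowers_le, mem_normalizer_iff]
    have e : ∀ k : ℤ, J * I ^ k * J⁻¹ = I ^ (-k) := fun k => by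
      rw [← conj_zpow, hcj, _root_.inv_zpow']
    intro x
    constructor
    · rintro ⟨k, rfl⟩
      exact ⟨-k, (e k).symm⟩
    · rintro ⟨k, hk⟩
      refine ⟨-k, ?_⟩
      have h1 := e (-k)
      rw [neg_neg] at h1
      have h2 : J * I ^ (-k) * J⁻¹ = J * x * J⁻¹ := h1.trans hk
      exact mul_left_cancel (mul_right_cancel h2)
  have hH : IsPGroup 2 (zpowers I ⊔ zpowers J : Subgroup SL(2, F)) :=
    IsPGroup.to_sup_of_normal_left' (hp I hI) (hp J hJ) hn
  have hF : Finite (zpowers I ⊔ zpowers J : Subgroup SL(2, F)) := by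
    have h1 : (zpowers I : Set SL(2, F)).Finite := (hfin I hI).finite_zpowers
    have h2 : (zpowers J : Set SL(2, F)).Finite := (hfin J hJ).finite_zpowers
    have := h1.mul h2
    rw [← coe_mul_of_right_le_normalizer_left _ _ hn] at this
    exact this
  let ρ : Representation F (zpowers I ⊔ zpowers J : Subgroup SL(2, F)) (Fin 1 → Fin 2 → F) :=
    { toFun := fun g => (Matrix.toLin' g.1.1).compLeft (Fin 1)
      map_one' := by ext; simp
      map_mul' := fun g h => by
        refine LinearMap.ext fun f => funext fun x => ?_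
        simp }
  refine ⟨_, inferInstance, hF, hH, ρ, fun h f g => Finset.sum_congr rfl fun i _ => ?_,
    ⁅⟨J, mem_sup_right (mem_zpowers J)⟩, ⟨I, mem_sup_left (mem_zpowers I)⟩⁆,
    commutator_mem_commutator trivial trivial, fun h => ?_⟩
  · have hd := h.1.2
    rw [det_fin_two] at hd
    simp only [ρ, MonoidHom.coe_mk, OneHom.coe_mk, LinearMap.compLeft_apply, Function.comp, toLin'_apply, mulVec,
      dotProduct, Fin.sum_univ_two]
    linear_combination (f i 1 * g i 0 - f i 0 * g i 1) * hd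
  · have e : ⁅J, I⁆ = -1 := by rw [commutatorElement_def, hcj, hinv, neg_mul_neg, hI]
    have := congrFun (congrFun (LinearMap.congr_fun h (fun _ _ => 1)) 0) 0
    change ((⁅J, I⁆ : SL(2, F)).1 *ᵥ fun _ => (1 : F)) 0 = 1 at this
    rw [e] at this
    simp [neg_mulVec] at this
    exact h2 (by linear_combination -this)

/-- Coordinates. -/
def LL (F : Type*) [Field F] (n : ℕ) : (Fin n → Fin 2 → F) ≃ₗ[F] (Fin n ⊕ Fin n → F) where
  toFun f := Sum.elim (fun i => f i 0) (fun i => f i 1)
  map_add' f g := by ext (i | i) <;> rfl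
  map_smul' c f := by ext (i | i) <;> rfl
  invFun u := fun i => ![u (.inl i), u (.inr i)]
  left_inv f := by ext i j; fin_cases j <;> rfl
  right_inv u := by ext (i | i) <;> rfl

end

/-- Let q be odd, F a field with q elements and n ≥ 1. A Sylow 2-subgroup R of the symplectic group Sp_{2n}(F) has derived length exactly k + 1, where 2^k ≤ 2n < 2^{k+1}: the (k+1)-st term of its derived series is trivial and the k-th is not. -/
theorem result {F : Type*} [Field F] [Fintype F] [DecidableEq F] (q : ℕ) (hF : Fintype.card F = q) (hq : Odd q) (n : ℕ) (hn : 1 ≤ n) (R : Sylow 2 ↥(Matrix.symplecticGroup (Fin n) F)) : derivedSeries ↥(R : Subgroup ↥(Matrix.symplecticGroup (Fin n) F)) (Nat.log 2 (2 * n) + 1) = ⊥ ∧ derivedSeries ↥(R : Subgroup ↥(Matrix.symplecticGroup (Fin n) F)) (Nat.log 2 (2 * n)) ≠ ⊥ := by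
  open Subgroup in
  obtain ⟨r, hr⟩ := CharP.exists F
  obtain ⟨m, hrp, hm⟩ := FiniteField.card F r
  haveI := Fact.mk hrp
  have h2 : (2 : F) ≠ 0 := by
    intro h
    have h' : ((2 : ℕ) : F) = 0 := by exact_mod_cast h
    rw [CharP.cast_eq_zero_iff F r] at h'
    rw [(Nat.prime_dvd_prime_iff_eq hrp Nat.prime_two).1 h', hF] at hm
    rw [hm] at hq
    exact (Nat.not_even_iff_odd.2 hq) (Nat.even_pow.2 ⟨even_two, m.ne_zero⟩)
  constructor
  · let K := AlgebraicClosure F
    let τ : Matrix (Fin n ⊕ Fin n) (Fin n ⊕ Fin n) F →* Module.End K (Fin n ⊕ Fin n → K) :=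
      (Matrix.toLinAlgEquiv' (R := K) (n := Fin n ⊕ Fin n)).toMulEquiv.toMonoidHom.comp
        ((algebraMap F K).mapMatrix (m := Fin n ⊕ Fin n)).toMonoidHom
    have hτ : Function.Injective τ :=
      (Matrix.toLinAlgEquiv' (R := K) (n := Fin n ⊕ Fin n)).injective.comp (Matrix.map_injective (algebraMap F K).injective)
    let σ : Representation K (R : Subgroup ↥(Matrix.symplecticGroup (Fin n) F)) (Fin n ⊕ Fin n → K) :=
      τ.comp ((Matrix.symplecticGroup (Fin n) F).subtype.comp (R : Subgroup ↥(Matrix.symplecticGroup (Fin n) F)).subtype)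
    have hσ : Function.Injective σ := hτ.comp (Subtype.val_injective.comp Subtype.val_injective)
    have hp : ((2 : ℕ) : K) ≠ 0 := by
      intro h
      apply h2
      apply (algebraMap F K).injective
      rw [map_ofNat, map_zero]
      exact_mod_cast h
    rw [eq_bot_iff_forall]
    intro g hg
    apply hσ
    rw [map_one]
    exact S4010.coprime_case hp _ (2 * n) _ R.2 _ σ (by simp; omega) (Nat.lt_pow_succ_log_self (by norm_num) _) g hg
  · obtain ⟨a, b, hab⟩ := CharP.sq_add_sq F r (-1)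
    obtain ⟨H, _, _, hH, ρ, hρ, g, hg, hg1⟩ := (base h2 a b (by simpa using hab)).iter (Nat.log 2 n) n (by
      rw [mul_one]; exact Nat.pow_log_le_self 2 (by omega))
    have hl : Nat.log 2 (2 * n) = 1 + Nat.log 2 n := by
      rw [mul_comm, Nat.log_mul_base (by norm_num) (by omega), add_comm]
    rw [hl]
    let A : Module.End F (Fin n → Fin 2 → F) ≃* Matrix (Fin n ⊕ Fin n) (Fin n ⊕ Fin n) F :=
      (LL F n).conjRingEquiv.toMulEquiv.trans (LinearMap.toMatrixAlgEquiv' (R := F) (n := Fin n ⊕ Fin n)).toMulEquiv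
    have hA : ∀ T u, (A T).mulVec u = LL F n (T ((LL F n).symm u)) := fun T u => by
      have := Matrix.toLinAlgEquiv'_toMatrixAlgEquiv' ((LL F n).conjRingEquiv T)
      exact LinearMap.congr_fun this u
    refine S4015.syl_ne hH ((A.toMonoidHom.comp ρ).codRestrict (Matrix.symplecticGroup (Fin n) F) fun h => ?_) _ g hg
      (fun h => hg1 (A.map_eq_one_iff.1 (congrArg Subtype.val h))) R
    rw [H4.mem_symplecticGroup_iff]
    intro u v
    change sympForm n F ((A (ρ h)).mulVec u) ((A (ρ h)).mulVec v) = _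
    rw [hA, hA, H4.sympForm_eq, H4.sympForm_eq]
    exact hρ h _ _

end Cfsg.Agent.S2648
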