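import Cfsg.Statements.S2803
import Cfsg.Agent.H1.LS3

set_option autoImplicit false
open Cfsg

namespace Cfsg.Agent.S2803

open H7 H1B Subgroup

/-- Let L be a finite group and p a prime with C_L(O_p(L)) ≤ O_p(L), T a Sylow p-subgroup, and Y the largest p-reduced normal subgroup of L. Put T_L = C_T(Y) and L_T = N_L(T_L). Then L = L_T · C_L(Y) (elementwise), T_L = O_p(L_T), and Y = Ω₁(Z(T_L)). -/
theorem result {L : Type*} [Group L] [Finite L] {p : ℕ} [Fact p.Prime] (hchar : Subgroup.centralizer (Cfsg.pCore p L : Set L) ≤ Cfsg.pCore p L) (T : Sylow p L) (Y : Subgroup L) (hY : (Cfsg.IsPReducedNormal p Y ∧ ∀ V : Subgroup L, Cfsg.IsPReducedNormal p V → V ≤ Y)) (TL : Subgroup L) (hTL : TL = (T : Subgroup L) ⊓ Subgroup.centralizer (Y : Set L)) : (∀ g : L, ∃ a ∈ Subgroup.normalizer (TL : Set L), ∃ c ∈ Subgroup.centralizer (Y : Set L), g = a * c) ∧ (Cfsg.pCore p ↥(Subgroup.normalizer (TL : Set L))).map (Subgroup.normalizer (TL :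 Set L)).subtype = TL ∧ Y = Cfsg.omegaOne p (TL ⊓ Subgroup.centralizer (TL : Set L)) := by
  obtain rfl : Y = YY p ⊤ := le_antisymm (red_top.1 hY.1).le_YY (hY.2 _ (red_top.2 (red_YY p ⊤)))
  have h := red_YY p (⊤ : Subgroup L)
  have n := nrm_cen h.norm
  have s : IsSylowIn p TL (cen (YY p ⊤)) := hTL ▸ syl_inf (syl_top T) le_top (le_top.trans n)
  have fr := syl_frattini s le_top n
  rw [top_inf_eq] at fr
  refine ⟨fun g => ?_, ?_, ?_⟩
  · obtain ⟨a, ha, c, hc, e⟩ := (mem_sup_nrm (le_top.trans n)).1 (fr.ge (mem_top g))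
    exact ⟨a, ha, c, hc, e.symm⟩
  · rw [pCore_map]
    refine s.eq_of_le (isPGroup_Op p _) (le_Op (le_nrm_self TL) le_rfl s.isPGroup) (le_sup_left.trans
      (h.le_cen' (M := Op p (nrm TL) ⊔ cen (YY p ⊤)) le_top (fr.ge.trans (sup_le (nrm_sup (le_nrm_Opi _ _) (le_top.trans n))
        (le_sup_right.trans (le_nrm_self _)))) (pRes_le_of_le_sup (isPGroup_Op p _) (le_top.trans n) le_rfl)))
  · rw [omegaOne_eq, hTL]; exact YY_eq_Z1 (chp_top.1 hchar) (syl_top T)

end Cfsg.Agent.S2803
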