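import Cfsg.Statements.S2806
import Cfsg.Agent.H1.Sid

set_option autoImplicit false
open Cfsg

namespace Cfsg.Agent.S2806

open H7 H1B Subgroup

/-- Let H be a finite group of local characteristic p, T a Sylow p-subgroup, and L₁, L₂ subnormal subgroups of H generating the subgroup L. Then the point stabilizer of L with respect to T ∩ L is generated by the point stabilizers of L₁ and L₂ with respect to T ∩ L₁ and T ∩ L₂ (point stabilizer of X w.r.t. R: the subgroup generated by the p-elements of X centralizing Ω₁(Z(R))). -/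
theorem result {H : Type*} [Group H] [Finite H] {p : ℕ} [Fact p.Prime] (hH : Cfsg.IsOfLocalCharacteristic p H) (T : Sylow p H) (L₁ L₂ : Subgroup H) (h₁ : L₁.IsSubnormal) (h₂ : L₂.IsSubnormal) : Cfsg.pointStabilizer p (L₁ ⊔ L₂) ((T : Subgroup H) ⊓ (L₁ ⊔ L₂)) = Cfsg.pointStabilizer p L₁ ((T : Subgroup H) ⊓ L₁) ⊔ Cfsg.pointStabilizer p L₂ ((T : Subgroup H) ⊓ L₂) := by
  rw [← sn_top_iff] at h₁ h₂
  have h := H1.sn_sup h₁ h₂
  have c := (lch_top.1 hH).2
  have s := syl_top T
  rw [pst_eq c s h, pst_eq c s h₁, pst_eq c s h₂]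
  refine le_antisymm (pEl_le_iff.2 fun P a b => ?_) (sup_le (pEl_mono (inf_le_inf_right _ le_sup_left))
    (pEl_mono (inf_le_inf_right _ le_sup_right)))
  obtain ⟨R, r1, r2⟩ := exists_syl_ge b a
  have r := syl_of_par r1 (syl_sn s h) (le_inf inf_le_right (inf_le_left.trans (le_cen_Z1 p _))) inf_le_left
  have k₁ := syl_sn r (h₁.mono le_sup_left le_top)
  have k₂ := syl_sn r (h₂.mono le_sup_right le_top)
  have l := r1.1.trans inf_le_right
  exact r2.trans ((syl_join _ rfl (h₁.mono le_sup_left le_top) (h₂.mono le_sup_right le_top) le_rfl r k₁ k₂ inf_le_left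
    inf_le_left).trans (sup_le_sup (le_pEl (le_inf inf_le_right (inf_le_left.trans l)) k₁.2)
      (le_pEl (le_inf inf_le_right (inf_le_left.trans l)) k₂.2)))

end Cfsg.Agent.S2806
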