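import Cfsg.Statements.S2810
import Cfsg.Agent.H1.LS3

set_option autoImplicit false
open Cfsg

namespace Cfsg.Agent.S2810

open H7 H1B Subgroup

/-- Let H be a finite group of characteristic p and L a subgroup of H centralizing every factor of some H-invariant chain 1 = A₀ ≤ A₁ ≤ … ≤ Aₙ = O_p(H) of normal subgroups (that is, [A_{i+1}, L] ≤ Aᵢ for each i). Then L ≤ O_p(H). -/
theorem result {H : Type*} [Group H] [Finite H] {p : ℕ} [Fact p.Prime] (hchar : Subgroup.centralizer (Cfsg.pCore p H : Set H) ≤ Cfsg.pCore p H) (L : Subgroup H) (n : ℕ) (A : Fin (n + 1) → Subgroup H) (h0 : A 0 = ⊥) (hn : A (Fin.last n) = Cfsg.pCore p H) (hmono : Monotone A) (hnorm : ∀ i, (A i).Normal) (hcent : ∀ i : Fin n, ⁅A i.succ, L⁆ ≤ A i.castSucc) : L ≤ Cfsg.pCore p H := by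
  rw [chp_top] at hchar
  rw [pCore_eq] at hn ⊢
  have k : ∀ i, pRes p (H1.ncl L ⊤) ≤ cen (A i) := fun i => by
    induction i using Fin.induction with
    | zero => rw [h0]; exact le_cen_bot _
    | succ i ih =>
      exact pRes_le_cen_of_chain ((isPGroup_Op p ⊤).to_le (hn ▸ hmono (Fin.le_last _)))
        (comm_ncl_le' (le_top.trans (top_nrm _)) (hcent i) (top_nrm _) (top_nrm _)) ih
  exact H1.le_ncl.trans (le_Op le_top H1.le_nrm_ncl (hchar.pg le_top (hn ▸ k _)))

end Cfsg.Agent.S2810
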