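import Cfsg.Statements.S2813
import Cfsg.Agent.H1.LS3

set_option autoImplicit false
open Cfsg

namespace Cfsg.Agent.S2813

open H7 H1B Subgroup

/-- Let K be a subgroup of the finite group H with O_p(K) = 1 and Y a p-subgroup of N_H(K) with [K, Y, Y] = 1. Then [K, Y] = 1. -/
theorem result {H : Type*} [Group H] [Finite H] {p : ℕ} [Fact p.Prime] (K : Subgroup H) (hO : Cfsg.pCore p ↥K = ⊥) (Y : Subgroup H) (hY : IsPGroup p ↥Y) (hYK : Y ≤ Subgroup.normalizer (K : Set H)) (hq : ⁅⁅K, Y⁆, Y⁆ = ⊥) : ⁅K, Y⁆ = ⊥ := by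
  rw [pCore_eq_bot_iff] at hO
  have h1 : Y ≤ Op p (H1.ncl Y K) := le_Op H1.le_ncl (H1.ncl_eq_sup_commutator.le.trans (sup_le (le_nrm_self Y)
    (le_nrm_of_le_cen (comm_eq_bot.1 (commutator_comm K Y ▸ hq))))) hY
  have n := nrm_Opi {p} (H1.le_nrm_ncl (A := Y) (H := K))
  exact eq_bot_iff.2 (hO ▸ (le_inf (comm_le_left hYK) ((commutator_mono le_rfl h1).trans (comm_le_right n))).trans
    (le_Op inf_le_left (nrm_inf (le_nrm_self K) n) ((isPGroup_Op p _).to_le inf_le_right)))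

end Cfsg.Agent.S2813
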