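import Cfsg.Statements.S2814
import Cfsg.Agent.H1.LS4

set_option autoImplicit false
open Cfsg

namespace Cfsg.Agent.S2814

open H7 H1B Subgroup

/-- Let A be a subgroup of the finite group H and K the subnormal closure of A (intersection of the subnormal subgroups containing A). Then K is the normal closure of A inside K and N_H(A) ≤ N_H(K); K = A·O^p(K), O^p(K) being generated by the elements of K of order prime to p; and if A is a p-group, O^p(K) = [O^p(K), A]. -/
theorem result {H : Type*} [Group H] [Finite H] {p : ℕ} [Fact p.Prime] (A : Subgroup H) (K : Subgroup H) (hK : K = Cfsg.subnormalClosure A) : (Subgroup.normalClosure ((A.subgroupOf K : Subgroup ↥K) : Set ↥K)).map K.subtype = K ∧ Subgroup.normalizer (A : Set H) ≤ Subgroup.normalizer (K : Set H) ∧ A ⊔ (Cfsg.pResidual p ↥K).map K.subtype = K ∧ (IsPGroup p ↥A → ⁅(Cfsg.pResidual p ↥K).map K.subtype, A⁆ = (Cfsg.pResidual p ↥K).map K.subtype) := by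
  obtain ⟨h1, h2, h3⟩ := scl_spec A
  rw [← hK] at h1 h2 h3
  rw [H1.normalClosure_subgroupOf_map h2, H2.map_pResidual_subtype]
  have l := H1.ncl_le_of_le h2 le_rfl
  have e1 := h3 _ ((SN.of_normal l H1.le_nrm_ncl).trans h1) H1.le_ncl
  have l2 := sup_le h2 (H2.pRes_le (p := p) K)
  have e2 := h3 _ ((sn_of_pRes_le le_sup_right l2).trans h1) le_sup_left
  have n := h2.trans (nrm_pRes' p K)
  refine ⟨le_antisymm l e1, le_nrm_of_cj_le fun a ha => H7.cj_le_iff.2 (h3 _ (h1.cj_of_mem_nrm (le_nrm_self ⊤ (mem_top _)))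
    ((cj_of_mem_nrm (inv_mem ha)).ge.trans (H7.cj_mono _ h2))), le_antisymm l2 e2, fun h => comm_eq_of_pRes (H2.pRes_pRes K) h n
      ((H2.pRes_le K).trans (e1.trans (H1.ncl_le le_sup_left (e2.trans (sup_le (nrm_sup (le_nrm_self A) (nrm_comm_right _ _)) ?_)))))⟩
  rw [commutator_comm]; exact le_nrm_sup_comm A _

end Cfsg.Agent.S2814
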