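import Cfsg.Statements.S2815
import Cfsg.Agent.H1.LS4

set_option autoImplicit false
open Cfsg

namespace Cfsg.Agent.S2815

open H7 H1B Subgroup

/-- Let H be a finite group and p a prime dividing its order with O_p(H) = 1, and suppose K = O^p(H) (generated by the elements of order prime to p) is quasisimple. Then K = F*(H); for every nontrivial p-subgroup Y of H, K = [K, Y] and K lies in the subgroup generated by the K-conjugates of Y; every normal subgroup of H not containing K has order prime to p; and H is p-irreducible. -/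
theorem result {H : Type*} [Group H] [Finite H] {p : ℕ} [Fact p.Prime] (hp : p ∣ Nat.card H) (hO : Cfsg.pCore p H = ⊥) (hq : Cfsg.IsQuasisimple ↥(Cfsg.pResidual p H)) : Cfsg.pResidual p H = Cfsg.generalizedFittingSubgroup H ∧ (∀ Y : Subgroup H, IsPGroup p ↥Y → Y ≠ ⊥ → ⁅Cfsg.pResidual p H, Y⁆ = Cfsg.pResidual p H ∧ Cfsg.pResidual p H ≤ ⨆ k : ↥(Cfsg.pResidual p H), Y.map (MulAut.conj (k : H)).toMonoidHom) ∧ (∀ C : Subgroup H, C.Normal → ¬ Cfsg.pResidual p H ≤ C → (Nat.card ↥C).Coprime p) ∧ Cfsg.IsPIrreducible p H := by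
  rw [pCore_eq] at hO
  rw [qs_iff] at hq
  rw [gfit_eq, pirr_top, PIrr]
  rw [← H2.pRes_top] at *
  have n := nrm_pRes' p (⊤ : Subgroup H)
  have c : IsComp (pRes p ⊤) (⊤ : Subgroup H) := hq.isComp.of_sn (SN.of_normal le_top n)
  have f := Fst_le_pRes hO
  have k : ∀ C : Subgroup H, ⊤ ≤ nrm C → ¬ pRes p ⊤ ≤ C → (ord C).Coprime p := fun C h1 h2 => coprime_of_le ((le_inf le_top
    (le_cen_symm (f.trans ((c.le_or_cen (SN.of_normal le_top h1)).resolve_left h2)))).trans (cen_Fst_le_Fit ⊤)) (coprime_Fit hO)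
  refine ⟨le_antisymm (c.le_Lay.trans (Lay_le_Fst ⊤)) f, fun Y h1 h2 => ?_, fun C _ => k C (top_nrm C), fun h => ?_,
    fun N _ h1 h2 => by_contra fun h3 => h2 fun P h4 h5 =>
      (eq_bot_of_isPGroup_of_coprime h5 (coprime_of_le h4 (k N h1 h3))).le.trans bot_le⟩
  · have := (c.le_comm_or_cen (le_top : Y ≤ ⊤)).resolve_right fun e => h2 (eq_bot_of_cen_Fst hO h1 le_top
      (le_cen_symm (f.trans e)))
    exact ⟨le_antisymm (comm_le_left (le_top.trans n)) this, this.trans ((comm_le_ncl' _ _).trans (iSup_cj_eq_ncl _ _).ge)⟩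
  · exact syl_ne_bot h.syl (by simpa using hp) hO

end Cfsg.Agent.S2815
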