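import Cfsg.Statements.S2816
import Cfsg.Agent.H1.LS4

set_option autoImplicit false
open Cfsg

namespace Cfsg.Agent.S2816

open H7 H1B Subgroup

/-- Let H be a finite group and p a prime with O_p(H) = 1, and Y a p-subgroup of H. Then for every subnormal subgroup K of H containing Y, [F*(H), Y] = [F*(K), Y] = [F*(K), Y, Y]; and if Y₀ ≤ Y with [F*(H), Y, Y₀] = 1 then Y₀ = 1 (in particular [F*(H), Y] = 1 forces Y = 1). -/
theorem result {H : Type*} [Group H] [Finite H] {p : ℕ} [Fact p.Prime] (hO : Cfsg.pCore p H = ⊥) (Y : Subgroup H) (hY : IsPGroup p ↥Y) : (∀ K : Subgroup H, K.IsSubnormal → Y ≤ K → ⁅Cfsg.generalizedFittingSubgroup H, Y⁆ = ⁅(Cfsg.generalizedFittingSubgroup ↥K).map K.subtype, Y⁆ ∧ ⁅(Cfsg.generalizedFittingSubgroup ↥K).map K.subtype, Y⁆ = ⁅⁅(Cfsg.generalizedFittingSubgroup ↥K).map K.subtype, Y⁆, Y⁆) ∧ (∀ Y₀ : Subgroup H, Y₀ ≤ Y → ⁅⁅Cfsg.generalizedFittingSubgroup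 H, Y⁆, Y₀⁆ = ⊥ → Y₀ = ⊥) := by
  rw [pCore_eq] at hO
  simp only [gfit_map]
  rw [gfit_eq]
  have o := Op_eq_bot_of_sn hO (sn_Fst ⊤)
  have n : ∀ A : Subgroup H, A ≤ nrm (Fst ⊤) := fun A => le_top.trans (le_nrm_Fst ⊤)
  have e := (fst_comm (Fst_Fst ⊤) o hY (n Y)).2
  refine ⟨fun K h1 h2 => ?_, fun Z h1 h2 => eq_bot_of_cen_Fst hO (hY.to_le h1) le_top (fst_cen (Fst_Fst ⊤) o (hY.to_le h1) (n Z)
    ((commutator_mono le_rfl h1).trans (comm_eq_bot.1 h2)))⟩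
  rw [← sn_top_iff] at h1
  have a : ⁅Fst ⊤, Y⁆ = ⁅Fst K, Y⁆ := le_antisymm (e.ge.trans (commutator_mono ((le_inf (comm_le_left (n Y))
    (le_of_comm_eq h1 le_top h2 e.ge)).trans (Fst_inf_le_of_sn h1)) le_rfl)) (commutator_mono (Fst_le_of_sn h1) le_rfl)
  exact ⟨a, a ▸ e.symm⟩

end Cfsg.Agent.S2816
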