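import Cfsg.Statements.S2817
import Cfsg.Agent.H1.LS4

set_option autoImplicit false
open Cfsg

namespace Cfsg.Agent.S2817

open H7 H1B Subgroup

/-- Let H be a finite group and p a prime with O_p(H) = 1, Q a p-subgroup of H, L = [F*(H), Q], and F the largest normal subgroup of F*(H) centralized by Q (a normal subgroup of F*(H) centralized by Q and containing every such). Then F = C_{F*(H)}(LQ); L = [L, Q]; L ∩ F ≤ Φ(L); every p-subgroup B of N_H(Q) with [L, B] ≤ F satisfies [L, B] = 1; and C_H(FL) has order prime to p. -/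
theorem result {H : Type*} [Group H] [Finite H] {p : ℕ} [Fact p.Prime] (hO : Cfsg.pCore p H = ⊥) (Q : Subgroup H) (hQ : IsPGroup p ↥Q) (L : Subgroup H) (hL : L = ⁅Cfsg.generalizedFittingSubgroup H, Q⁆) (F : Subgroup H) (hF : F ≤ Cfsg.generalizedFittingSubgroup H ∧ Cfsg.generalizedFittingSubgroup H ≤ Subgroup.normalizer (F : Set H) ∧ Q ≤ Subgroup.centralizer (F : Set H) ∧ ∀ N : Subgroup H, N ≤ Cfsg.generalizedFittingSubgroup H → Cfsg.generalizedFittingSubgroup H ≤ Subgroup.normalizer (N : Set H) → Q ≤ Subgroup.centralizer (N : Set H) → N ≤ F) : F = Cfsg.generalizedFittingSubgroup H ⊓ Subgroup.centralizer ((L ⊔ Q : Subgroup H) : Set H) ∧ ⁅L, Q⁆ = L ∧ L ⊓ F ≤ (frattini ↥L).map L.subtype ∧ (∀ B : Subgroup H, IsPGroup p ↥B → B ≤ Subgroup.normalizer (Q : Set H) → ⁅L, B⁆ ≤ F → ⁅L, B⁆ = ⊥) ∧ (Nat.card ↥(Subgroup.centralizer ((F ⊔ L : Subgroup H) : Set H))).Coprime p := by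
  rw [pCore_eq] at hO
  rw [gfit_eq] at *
  obtain ⟨f1, f2, f3, f4⟩ := hF
  have o := Op_eq_bot_of_sn hO (sn_Fst ⊤)
  have n : ∀ A : Subgroup H, A ≤ nrm (Fst ⊤) := fun A => le_top.trans (le_nrm_Fst ⊤)
  obtain ⟨e1, e2⟩ := fst_comm (Fst_Fst ⊤) o hQ (n Q)
  rw [← hL] at e1 e2
  have nL : Fst ⊤ ≤ nrm L := hL ▸ nrm_comm_left _ _
  have lL : L ≤ Fst ⊤ := le_sup_left.trans e1.le
  have sL := SN.of_normal lL nL
  have fL := Fst_eq_self_of_sn sL
  have oL := Op_eq_bot_of_sn o sL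
  have qL : Q ≤ nrm L := hL ▸ nrm_comm_right _ _
  have cL : L ≤ cen F := hL ▸ (commutator_mono le_rfl f3).trans (comm_le_right (nrm_cen f2))
  have e : F = Fst ⊤ ⊓ cen (L ⊔ Q) := le_antisymm (le_inf f1 (le_cen_symm (sup_le cL f3))) (f4 _ inf_le_left (nrm_inf
    (le_nrm_self _) (e1.ge.trans (sup_le (le_nrm_of_le_cen (le_cen_symm (cen_anti le_sup_left))) (nrm_cen (nrm_sup
      (inf_le_left.trans nL) (le_nrm_of_le_cen inf_le_right)))))) (le_cen_symm (inf_le_right.trans (cen_anti le_sup_right))))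
  have ph : L ⊓ F ≤ Phi L := by
    refine le_Phi_of_le_der ?_ (inf_le_right.trans (le_cen_symm cL))
    have m := nrm_comm_left L L
    have m' := nrm_commutator qL qL
    have e3 : im (qm ⁅L, L⁆) L = im (qm ⁅L, L⁆) (Fit L) := by
      refine (congrArg _ fL).symm.trans ?_
      rw [Fst, im_sup ((Lay_le L).trans m) ((Fit_le L).trans m), (im_eq_bot_iff ((Lay_le L).trans m)).2 (by
        rw [kr_qm]; exact (Lay_perfect L).ge.trans (commutator_mono (Lay_le L) (Lay_le L))), bot_sup_eq]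
    have := comm_inf_cen_of_comm (isComm_iff.2 ((im_le_cen_iff m m).2 (kr_qm _).ge)) (im_le_nrm (qm ⁅L, L⁆) qL)
      (coprime_of_isPGroup (isPGroup_im _ hQ) (e3 ▸ coprime_im _ (coprime_Fit oL))).symm
    rw [← im_commutator m m', e2] at this
    rw [← kr_qm ⁅L, L⁆, ← im_eq_bot_iff (inf_le_left.trans m), eq_bot_iff, ← this]
    exact le_inf (im_mono _ inf_le_left) (im_le_cen _ (inf_le_right.trans (le_cen_symm f3)))
  refine ⟨e, e2, ph, fun B h1 h2 h3 => ?_, coprime_iff_not_dvd.2 fun d => ?_⟩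
  · have b : B ≤ nrm L := hL ▸ nrm_commutator (n B) h2
    exact comm_eq_bot.2 ((eq_of_sup_Phi inf_le_left ((fst_comm fL oL h1 b).1.ge.trans (sup_le (((le_inf (comm_le_left b)
      h3).trans ph).trans le_sup_right) le_sup_left))).ge.trans inf_le_right)
  · obtain ⟨P, hP, h1⟩ := exists_syl_inv hQ (nrm_cen (nrm_sup (le_nrm_of_le_cen f3) qL))
    have c := inf_le_left.trans hP.le (a := P ⊓ cen Q)
    have b := hP.isPGroup.to_le (inf_le_left : P ⊓ cen Q ≤ P)
    refine pgroup_inf_cen_ne_bot' hQ hP.isPGroup h1 (syl_ne_bot hP d) (eq_bot_of_cen_Fst hO b le_top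
      (fst_cen (Fst_Fst ⊤) o b (n _) (le_trans ?_ (le_cen_symm (c.trans (cen_anti le_sup_left))))))
    refine (commutator_mono e1.ge le_rfl).trans (comm_sup_le (lL.trans f2) (inf_le_left.trans f2)
      ((comm_eq_bot'.2 (c.trans (cen_anti le_sup_right))).le.trans bot_le) (le_trans (le_inf ((commutator_mono inf_le_left
        le_rfl).trans (comm_le_left (n _))) (le_cen_sup ((commutator_mono le_rfl (c.trans (cen_anti le_sup_right))).trans
          (comm_le_right (nrm_cen (inf_le_left.trans nL)))) (comm_le_of_le inf_le_right inf_le_right))) e.ge))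

end Cfsg.Agent.S2817
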