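import Cfsg.Statements.S2818
import Cfsg.Agent.H1.LS3

set_option autoImplicit false
open Cfsg

namespace Cfsg.Agent.S2818

open H7 H1B Subgroup
open scoped commutatorElement

/-- Let P be a finite p-subgroup of a group G and H a subgroup of N_G(P) with [P, H] ≤ Ω₁(Z(P)) (the elements of order dividing p in the centre of P). Then H centralizes the Frattini subgroup of P. -/
theorem result {G : Type*} [Group G] [Finite G] {p : ℕ} [Fact p.Prime] (P : Subgroup G) (hP : IsPGroup p ↥P) (H : Subgroup G) (hH : H ≤ Subgroup.normalizer (P : Set G)) (h : ⁅P, H⁆ ≤ Cfsg.omegaOne p (P ⊓ Subgroup.centralizer (P : Set G))) : ⁅(frattini ↥P).map P.subtype, H⁆ = ⊥ := by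
  rw [omegaOne_eq] at h
  have c : ⁅⁅P, H⁆, P⁆ = ⊥ := comm_eq_bot.2 (h.trans (Z1_le_cen p P))
  refine comm_eq_bot.2 (Phi_le_of_elem (Fact.out : p.Prime) (comm_eq_bot.1 (le_bot_iff.1 (three_subgroups (le_nrm_bot _)
    (le_nrm_bot _) (le_nrm_bot _) c.le (commutator_comm P H ▸ c.le)))) fun x hx => mem_cen.2 fun y hy => ?_)
  have m := mem_Z1.1 (h (commutator_mem_commutator hx hy))
  have := H7.comm_pow_left (x := y) (y := x) (Commute.symm (mem_cen1.1 (m.2.1 hx))) p
  rw [m.2.2, commutatorElement_eq_one_iff_mul_comm] at this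
  exact this.symm

end Cfsg.Agent.S2818
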