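import Cfsg.Statements.S2819
import Cfsg.Agent.H1.LS3

set_option autoImplicit false
open Cfsg

namespace Cfsg.Agent.S2819

open H7 H1B Subgroup
open scoped commutatorElement

/-- Let P be a finite p-subgroup of a group G, H a subgroup of N_G(P), and Y a subgroup of H centralizing the derived subgroup P' such that [P, Y] is elementary abelian. Then O^p(⟨Y^H⟩), the subgroup of the normal closure of Y in H generated by its elements of order prime to p, centralizes the Frattini subgroup of P. -/
theorem result {G : Type*} [Group G] [Finite G] {p : ℕ} [Fact p.Prime] (P : Subgroup G) (hP : IsPGroup p ↥P) (H : Subgroup G) (hH : H ≤ Subgroup.normalizer (P : Set G)) (Y : Subgroup G) (hYH : Y ≤ H) (hYc : Y ≤ Subgroup.centralizer ((⁅P, P⁆ : Subgroup G) : Set G)) (hel : Cfsg.IsElementaryAbelian p ⁅P, Y⁆) (NY : Subgroup G) (hNY : NY = (Subgroup.normalClosure ((Y.subgroupOf H : Subgroup ↥H) : Set ↥H)).map H.subtype) : (Cfsg.pResidual p ↥NY).map NY.subtype ≤ Subgroup.centralizer (((frattini ↥P).map P.subtype : Subgroup G) : Set G) :=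 by
  rw [H1.normalClosure_subgroupOf_map hYH] at hNY
  subst hNY
  rw [H2.map_pResidual_subtype]
  have n := nrm_commutator hH hH
  refine pRes_le_cen_of_chain (hP.to_le (commutator_le_self P)) (comm_ncl_le' (hYH.trans n) (le_cmod.1 (Phi_le_of_elem
    (Fact.out : p.Prime) (le_cmod.2 ⟨le_nrm_self _, comm_le_left (hYH.trans n)⟩) fun x hx => mem_cmod.2
      ⟨nrm_comm_left P P (pow_mem hx p), fun c hc => ?_⟩)).2 n (nrm_Phi hH))
    ((H2.pRes_le _).trans (H1.ncl_le hYc (nrm_cen n)))
  have := mul_pow_mod_der hx (conj_mem hH (hYH hc) (inv_mem hx)) p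
  have e := EA.pow hel (commutator_mem_commutator hx hc)
  rw [show x * (c * x⁻¹ * c⁻¹) = ⁅x, c⁆ by rw [commutatorElement_def]; group, e] at this
  convert this using 1
  rw [commutatorElement_def, conj_pow]; group

end Cfsg.Agent.S2819
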