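import Cfsg.Statements.S2823
import Cfsg.Agent.H1.LS3

set_option autoImplicit false
open Cfsg

namespace Cfsg.Agent.S2823

open H7 H1B Subgroup

/-- Let H be a finite group, p a prime, T a Sylow p-subgroup and L a subgroup of characteristic p containing T; let Z_L be the subgroup generated by the Ω₁(Z(S)) over the Sylow p-subgroups S of L and O^p(L) the subgroup generated by the elements of L of order prime to p. Then Z_L = Ω₁(Z(L))·[Z_L, O^p(L)] and [Z_L, L] = [Z_L, O^p(L)]. -/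
theorem result {H : Type*} [Group H] [Finite H] {p : ℕ} [Fact p.Prime] (T : Sylow p H) (L : Subgroup H) (hTL : (T : Subgroup H) ≤ L) (hL : Subgroup.centralizer (Cfsg.pCore p ↥L : Set ↥L) ≤ Cfsg.pCore p ↥L) : Cfsg.sylowCenterClosure p L = (Cfsg.omegaOne p (L ⊓ Subgroup.centralizer ((L : Subgroup H) : Set H))) ⊔ ⁅Cfsg.sylowCenterClosure p L, (Cfsg.pResidual p ↥L).map L.subtype⁆ ∧ ⁅Cfsg.sylowCenterClosure p L, L⁆ = ⁅Cfsg.sylowCenterClosure p L, (Cfsg.pResidual p ↥L).map L.subtype⁆ := by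
  have s := syl_le T hTL
  rw [chp_iff] at hL
  rw [omegaOne_eq, scc_eq s, H2.map_pResidual_subtype]
  have l := H1.ncl_le (Z1_le_YY hL s) (red_YY p L).norm
  have e := (ea_YY p L).of_le l
  obtain ⟨h1, h2, h3⟩ := fix_comm e.comm e.isPGroup H1.le_nrm_ncl s (le_inf H1.le_ncl (Z1_le_cen p _))
  have h4 := H1.ncl_le le_sup_left h1
  have c := comm_le_left ((H2.pRes_le (p := p) L).trans (H1.le_nrm_ncl (A := Z1 p T)))
  refine ⟨le_antisymm (h4.trans (sup_le (h3.trans (sup_le (inf_le_left.trans le_sup_right) ((le_Z1 (e.of_le inf_le_left)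
    (inf_le_left.trans (l.trans (YY_le p L))) inf_le_right).trans le_sup_left))) le_sup_right))
    (sup_le ((le_Z1 (ea_Z1 p L) (s.le_of_normal (ea_Z1 p L).isPGroup (Z1_le p L) (nrm_Z1 (hTL.trans (le_nrm_self L))))
      ((Z1_le_cen p L).trans (cen_anti hTL))).trans H1.le_ncl) c),
    le_antisymm ((commutator_mono h4 le_rfl).trans h2) (commutator_mono le_rfl (H2.pRes_le L))⟩

end Cfsg.Agent.S2823
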