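import Cfsg.Statements.S2824
import Cfsg.Agent.H1.LS3

set_option autoImplicit false
open Cfsg

namespace Cfsg.Agent.S2824

open H7 H1B Subgroup

/-- Let H be a finite group, p a prime, T a Sylow p-subgroup, L and M subgroups of characteristic p containing T, Y_L the largest p-reduced normal subgroup of L and T₀ = C_T(Y_L). If M·C_H(Y_L) = L·C_H(Y_L), then L* := N_M(T₀) has Y_{L*} = Y_L and L·C_H(Y_L) = L*·C_H(Y_L). -/
theorem result {H : Type*} [Group H] [Finite H] {p : ℕ} [Fact p.Prime] (T : Sylow p H) (L M : Subgroup H) (hTL : (T : Subgroup H) ≤ L) (hTM : (T : Subgroup H) ≤ M) (hL : Subgroup.centralizer (Cfsg.pCore p ↥L : Set ↥L) ≤ Cfsg.pCore p ↥L) (hM : Subgroup.centralizer (Cfsg.pCore p ↥M : Set ↥M) ≤ Cfsg.pCore p ↥M) (T₀ : Subgroup H) (hT₀ : T₀ = (T : Subgroup H) ⊓ Subgroup.centralizer (((Cfsg.largestPReducedOf p L) : Subgroup H) : Set H)) (hfac : M ⊔ Subgroup.centralizer (((Cfsg.largestPReducedOf p L) : Subgroup H) : Set H)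 = L ⊔ Subgroup.centralizer (((Cfsg.largestPReducedOf p L) : Subgroup H) : Set H)) (Ls : Subgroup H) (hLs : Ls = M ⊓ Subgroup.normalizer ((T₀ : Subgroup H) : Set H)) : (Cfsg.largestPReducedOf p Ls) = (Cfsg.largestPReducedOf p L) ∧ L ⊔ Subgroup.centralizer (((Cfsg.largestPReducedOf p L) : Subgroup H) : Set H) = Ls ⊔ Subgroup.centralizer (((Cfsg.largestPReducedOf p L) : Subgroup H) : Set H) := by
  simp only [YY_eq] at *
  rw [chp_iff] at hL
  have s := syl_le T hTL
  have h := red_YY p L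
  have n : M ≤ nrm (YY p L) := le_sup_left.trans (hfac.le.trans (sup_le h.norm (cen_le_nrm _)))
  have n' := nrm_inf (le_nrm_self M) (nrm_cen n)
  have k := syl_inf (syl_le T hTM) inf_le_left (hTM.trans n')
  rw [← inf_assoc, inf_eq_left.2 hTM, ← hT₀] at k
  have fr := syl_frattini k inf_le_left n'
  rw [← hLs] at fr
  have e : L ⊔ cen (YY p L) = Ls ⊔ cen (YY p L) := by
    rw [← hfac]
    exact le_antisymm (sup_le (fr.ge.trans (sup_le_sup_left inf_le_right _)) le_sup_right)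
      (sup_le_sup_right (hLs.le.trans inf_le_left) _)
  have y : YY p L ≤ T₀ := hT₀ ▸ le_inf (h.le_Op.trans (Op_le_of_sylow s)) h.ea.le_cen
  have t : T₀ ≤ Ls := hLs ▸ le_inf (k.le.trans inf_le_left) (le_nrm_self _)
  have tl : (T : Subgroup H) ≤ Ls := hLs ▸ le_inf hTM (hT₀ ▸ nrm_inf (le_nrm_self _) (hTL.trans (nrm_cen h.norm)))
  have h' := red_YY p Ls
  have c := le_cen_symm ((le_Op t (hLs ▸ inf_le_right) k.isPGroup).trans h'.Op_le)
  refine ⟨le_antisymm (le_trans ?_ (YY_eq_Z1 hL s).ge) (h.congr (y.trans t) e).le_YY, e⟩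
  exact le_Z1 h'.ea (le_inf (h'.le_Op.trans (Op_le_of_sylow (syl_le T tl))) (c.trans (cen_anti y))) (hT₀ ▸ c)

end Cfsg.Agent.S2824
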