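import Cfsg.Statements.S2825
import Cfsg.Agent.H1.LS3

set_option autoImplicit false
open Cfsg

namespace Cfsg.Agent.S2825

open H7 H1B Subgroup

/-- Let L be a subnormal subgroup of the finite group H, p a prime, Y_H and Y_L the largest p-reduced normal subgroups. Then Y_H ∩ L = Y_H ∩ Y_L and this subgroup is a p-reduced normal subgroup of L; C_L(Y_L) = C_L(Y_H) = C_L(Y_H ∩ L); and if O^p(H) ≤ L, then [Y_L, L] = 1 if and only if [Y_H, H] = 1. -/
theorem result {H : Type*} [Group H] [Finite H] {p : ℕ} [Fact p.Prime] (L : Subgroup H) (hL : L.IsSubnormal) : Cfsg.largestPReduced p H ⊓ L = Cfsg.largestPReduced p H ⊓ (Cfsg.largestPReducedOf p L) ∧ Cfsg.IsPReducedNormal p ((Cfsg.largestPReduced p H ⊓ L).subgroupOf L) ∧ L ⊓ Subgroup.centralizer ((Cfsg.largestPReducedOf p L : Subgroup H) : Set H) = L ⊓ Subgroup.centralizer (Cfsg.largestPReduced p H : Set H) ∧ L ⊓ Subgroup.centralizer (Cfsg.largestPReduced p H : Set H) = L ⊓ Subgroup.centralizer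 ((Cfsg.largestPReduced p H ⊓ L : Subgroup H) : Set H) ∧ (Cfsg.pResidual p H ≤ L → (⁅(Cfsg.largestPReducedOf p L), L⁆ = ⊥ ↔ ⁅Cfsg.largestPReduced p H, (⊤ : Subgroup H)⁆ = ⊥)) := by
  rw [YY_eq, YY_top, ← H2.pRes_top]
  have s := sn_top_iff.2 hL
  have h := red_YY p (⊤ : Subgroup H)
  have e := cen_YY_eq (p := p) s
  refine ⟨le_antisymm (le_inf inf_le_left (h.inf_sn s).le_YY) (inf_le_inf_left _ (YY_le p L)),
    (red_iff inf_le_right).2 (h.inf_sn s), e, h.cen_inf_sn s, fun hl => ?_⟩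
  rw [comm_eq_bot', comm_eq_bot']
  exact ⟨fun c => h.le_cen' le_rfl (le_nrm_self _) (hl.trans ((le_inf le_rfl c).trans (e.le.trans inf_le_right))),
    fun c => (le_inf le_rfl (le_top.trans c)).trans (e.ge.trans inf_le_right)⟩

end Cfsg.Agent.S2825
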