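import Cfsg.Statements.S2826
import Cfsg.Agent.H1.LS3

set_option autoImplicit false
open Cfsg

namespace Cfsg.Agent.S2826

open H7 H1B Subgroup

/-- Let H be a finite group of characteristic p, T a Sylow p-subgroup, and V a normal elementary abelian p-subgroup of H containing Ω₁(Z(T)). Then C_H(Ω₁(Z(T))) = C_H([V, O^p(H)] ∩ Ω₁(Z(T))), O^p(H) being generated by the elements of order prime to p. -/
theorem result {H : Type*} [Group H] [Finite H] {p : ℕ} [Fact p.Prime] (hH : Subgroup.centralizer (Cfsg.pCore p H : Set H) ≤ Cfsg.pCore p H) (T : Sylow p H) (V : Subgroup H) [V.Normal] (hV : Cfsg.IsElementaryAbelian p V) (hZV : (Cfsg.omegaOne p ((T : Subgroup H) ⊓ Subgroup.centralizer (((T : Subgroup H) : Subgroup H) : Set H))) ≤ V) : Subgroup.centralizer ((Cfsg.omegaOne p ((T : Subgroup H) ⊓ Subgroup.centralizer (((T : Subgroup H) : Subgroup H) : Set H))) : Set H) = Subgroup.centralizer (((⁅V, Cfsg.pResidual p H⁆ ⊓ (Cfsg.omegaOne p ((T : Subgroup H) ⊓ Subgroup.centralizer (((T : Subgroup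 H) : Subgroup H) : Set H)))) : Subgroup H) : Set H) := by
  rw [omegaOne_eq] at hZV ⊢
  rw [← H2.pRes_top]
  obtain ⟨-, -, h⟩ := fix_comm (EA.comm hV) (EA.isPGroup hV) (top_nrm V) (syl_top T) (le_inf hZV (Z1_le_cen p _))
  have l := comm_le_left ((H2.pRes_le (p := p) ⊤).trans (top_nrm V))
  refine le_antisymm (cen_anti inf_le_right) (le_cen_symm (h.trans (sup_le (le_cen_symm (cen_anti (le_inf inf_le_left
    (le_Z1 (EA.of_le hV (inf_le_left.trans l)) ((inf_le_left.trans l).trans ((syl_top T).le_of_normal (EA.isPGroup hV)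
      le_top (le_nrm_of_normal _ V))) inf_le_right)))) (inf_le_right.trans (cen_anti le_top)))))

end Cfsg.Agent.S2826
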