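import Cfsg.Statements.S2827
import Cfsg.Agent.H1.LS4

set_option autoImplicit false
open Cfsg

namespace Cfsg.Agent.S2827

open H7 H1B Subgroup

/-- Let H be a finite p-irreducible group (not p-closed, and O^p(H) lies in every normal subgroup that is not p-closed) and T a Sylow p-subgroup. Then H is generated by the conjugates of T and H = H'·T; O^p(H) ≤ H'; and for every normal subgroup Y of T not contained in O_p(H), O^p(H) = [O^p(H), Y] and O^p(H) is contained in the normal closure of Y in H. -/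
theorem result {H : Type*} [Group H] [Finite H] {p : ℕ} [Fact p.Prime] (hH : Cfsg.IsPIrreducible p H) (T : Sylow p H) : Subgroup.normalClosure ((T : Subgroup H) : Set H) = ⊤ ∧ commutator H ⊔ (T : Subgroup H) = ⊤ ∧ Cfsg.pResidual p H ≤ commutator H ∧ ∀ Y : Subgroup H, Y ≤ (T : Subgroup H) → (T : Subgroup H) ≤ Subgroup.normalizer (Y : Set H) → ¬ Y ≤ Cfsg.pCore p H → ⁅Cfsg.pResidual p H, Y⁆ = Cfsg.pResidual p H ∧ Cfsg.pResidual p H ≤ Subgroup.normalClosure (Y : Set H) := by
  rw [pirr_top] at hH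
  have s := syl_top T
  simp only [← H2.pRes_top, ← H1.ncl_top, pCore_eq, _root_.commutator_def]
  have h : pRes p (⊤ : Subgroup H) ≤ ⁅⊤, ⊤⁆ := (hH.comm_eq s le_rfl (le_nrm_self _) fun c => hH.1 (pcl_of_syl s c)).ge.trans
    (commutator_mono le_top le_top)
  exact ⟨hH.ncl_syl s, eq_top_iff.2 (syl_le_of_pRes s (h.trans le_sup_left) le_sup_right), h, fun Y h1 h2 h3 =>
    ⟨hH.comm_eq s h1 h2 h3, hH.le_ncl le_top (T.isPGroup'.to_le h1) h3⟩⟩

end Cfsg.Agent.S2827
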