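import Cfsg.Statements.S2830
import Cfsg.Agent.H1.LS4

set_option autoImplicit false
open Cfsg

namespace Cfsg.Agent.S2830

open H7 H1B Subgroup

/-- Let H act by conjugation on the elementary abelian p-subgroup V of a finite group G (H ≤ N(V)), with H p-irreducible and O^p(H) not centralizing V. Then C_H(V) is p-closed and C_T(V) ≤ O_p(H) for every p-subgroup T of H. If in addition O_p(H) centralizes V, then C_T(V) = T ∩ O_p(H) for every p-subgroup T of H, and V is p-reduced for H: O_p(H/C_H(V)) = 1. -/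
theorem result {G : Type*} [Group G] [Finite G] {p : ℕ} [Fact p.Prime] (V H : Subgroup G) (hV : Cfsg.IsElementaryAbelian p V) (hHV : H ≤ Subgroup.normalizer (V : Set G)) (hH : Cfsg.IsPIrreducible p ↥H) (hnc : ¬ (Cfsg.pResidual p ↥H).map H.subtype ≤ Subgroup.centralizer (V : Set G)) [hn : ((Subgroup.centralizer (V : Set G)).subgroupOf H).Normal] : Cfsg.IsPClosed p ↥(H ⊓ Subgroup.centralizer (V : Set G)) ∧ (∀ T : Subgroup G, T ≤ H → IsPGroup p ↥T → T ⊓ Subgroup.centralizer (V : Set G) ≤ Cfsg.pCoreOf p H) ∧ (Cfsg.pCoreOf p H ≤ Subgroup.centralizer (V : Set G) → (∀ T : Subgroup G, T ≤ H → IsPGroup p ↥T → T ⊓ Subgroup.centralizer (V : Set G) = T ⊓ Cfsg.pCoreOf p H) ∧ Cfsg.pCore p (↥H ⧸ (Subgroup.centralizer (V : Set G)).subgroupOf H) = ⊥) := by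
  rw [pirr_iff] at hH
  rw [H2.map_pResidual_subtype] at hnc
  rw [pcl_iff, pCoreOf_eq, rd_iff_quot hHV]
  have n := nrm_inf (le_nrm_self H) (nrm_cen hHV)
  have c : PCl p (H ⊓ cen V) := by_contra fun c => hnc ((hH.2 _ inf_le_left n c).trans inf_le_right)
  have k : ∀ T ≤ H, IsPGroup p T → T ⊓ cen V ≤ Op p H := fun T h1 h2 =>
    c.le_Op_of_sn (SN.of_normal inf_le_left n) (inf_le_inf_right _ h1) (h2.to_le inf_le_left)
  refine ⟨c, k, fun h => ⟨fun T h1 h2 => le_antisymm (le_inf inf_le_left (k T h1 h2)) (inf_le_inf_left T h),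
    rd_of hHV fun M h1 h2 h3 => ?_⟩⟩
  have d : PCl p M := by_contra fun d => hnc ((pRes_le_pRes (hH.2 M h1 h2 d)).trans h3)
  exact syl_le_of_pRes d.syl h3 ((Opi_le_of_normal _ h1 h2).trans h)

end Cfsg.Agent.S2830
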