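import Cfsg.Statements.S2832
import Cfsg.Agent.H1.LS4

set_option autoImplicit false
open Cfsg

namespace Cfsg.Agent.S2832

open H7 H1B Subgroup

/-- Let H be a finite group with Sylow p-subgroup T such that H is T-minimal (generated by the conjugates of T, with T in exactly one maximal subgroup), and let N be a normal subgroup of H. Then either H/N is a p-group or H/N is minimal over the image of T in the same sense. -/
theorem result {H : Type*} [Group H] [Finite H] {p : ℕ} [Fact p.Prime] (T : Sylow p H) (hmin : Cfsg.IsMinimalOver (T : Subgroup H)) (N : Subgroup H) [N.Normal] : IsPGroup p (H ⧸ N) ∨ Cfsg.IsMinimalOver ((T : Subgroup H).map (QuotientGroup.mk' N)) := by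
  obtain ⟨M, h⟩ := minO_top.1 hmin
  refine (h.pRes_le_or T.isPGroup' le_top (top_nrm N)).imp (fun c => ?_) fun c => minO_top.2 ⟨_, by
    have := h.im (f := res (QuotientGroup.mk' N) ⊤) le_top (by rwa [ker_mk, top_inf_eq])
    rwa [im_mk_top, im_top] at this⟩
  have := (pg_im_iff (f := res (QuotientGroup.mk' N) ⊤) le_top).2 (by rwa [ker_mk])
  rw [im_mk_top] at this
  exact this.of_equiv topEquiv

end Cfsg.Agent.S2832
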