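import Cfsg.Statements.S2833
import Cfsg.Agent.H1.LS3
import Cfsg.Agent.H7.FF1

set_option autoImplicit false
open Cfsg

namespace Cfsg.Agent.S2833

open H7 H1B Subgroup

/-- Let V be a subgroup of a finite group G normalized by the subgroup L, let X ≤ L and g ∈ L with [V, X, X] = 1 and L generated by X and gXg⁻¹. Put W = [V, L]. Then W = [V, X]·[V, gXg⁻¹], C_W(X) = [V, X], and C_W(L) = [V, X] ∩ [V, gXg⁻¹]. -/
theorem result {G : Type*} [Group G] [Finite G] (V L : Subgroup G) (hLV : L ≤ Subgroup.normalizer (V : Set G)) (X : Subgroup G) (hX : X ≤ L) (g : G) (hg : g ∈ L) (hq : ⁅⁅V, X⁆, X⁆ = ⊥) (hgen : X ⊔ X.map (MulAut.conj g).toMonoidHom = L) (W : Subgroup G) (hW : W = ⁅V, L⁆) : ⁅V, X⁆ ⊔ ⁅V, X.map (MulAut.conj g).toMonoidHom⁆ = W ∧ W ⊓ Subgroup.centralizer (X : Set G) = ⁅V, X⁆ ∧ W ⊓ Subgroup.centralizer (L : Set G) = ⁅V, X⁆ ⊓ ⁅V, X.map (MulAut.conj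 g).toMonoidHom⁆ := by
  change X ⊔ cj g X = L at hgen
  change ⁅V, X⁆ ⊔ ⁅V, cj g X⁆ = W ∧ _ ∧ _ = ⁅V, X⁆ ⊓ ⁅V, cj g X⁆
  have hX' := cj_le_of_mem hg hX
  have e1 : ⁅V, X⁆ ⊔ ⁅V, cj g X⁆ = W := by rw [hW, ← hgen, comm_sup_right (hX.trans hLV) (hX'.trans hLV)]
  have e2 : cj g ⁅V, X⁆ = ⁅V, cj g X⁆ := by rw [cj_commutator, cj_of_mem_nrm (hLV hg)]
  have c := comm_eq_bot.1 hq
  have c' : ⁅V, cj g X⁆ ≤ cen (cj g X) := by rw [← e2, ← cj_cen]; exact H7.cj_mono g c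
  have e3 : W ⊓ cen X = ⁅V, X⁆ := by
    rw [← e1, modular ((comm_le_left (hX.trans hLV)).trans (nrm_comm_left _ _)) c]
    refine sup_eq_left.2 ?_
    have h1 : ⁅V, cj g X⁆ ⊓ cen X ≤ cen L := hgen ▸ le_cen_sup inf_le_right (inf_le_left.trans c')
    rw [← le_cj_of_le_cen (inv_mem hg) h1, ← le_cj_iff, e2]; exact inf_le_left
  refine ⟨e1, e3, ?_⟩
  have e4 : cj g W = W := cj_of_mem_nrm (hW ▸ nrm_comm_right V L hg)
  rw [← e2, ← e3, H7.cj_inf, e4, cj_cen, ← inf_inf_distrib_left, ← cen_sup, hgen]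

end Cfsg.Agent.S2833
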