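import Cfsg.Statements.S2834
import Cfsg.Agent.H1.Xt

set_option autoImplicit false
open Cfsg

namespace Cfsg.Agent.S2834

open H7 H1B Subgroup
section
variable {G : Type*} [Group G] {A B M U V Y R : Subgroup G}
theorem le_wc {g : G} (h : cj g A ≤ U) : cj g A ≤ weakClosure A U :=
  le_iSup (fun g : {g : G // A.map (MulAut.conj g).toMonoidHom ≤ U} => A.map (MulAut.conj (g : G)).toMonoidHom) ⟨g, h⟩
theorem wc_le_iff : weakClosure A U ≤ V ↔ ∀ g, cj g A ≤ U → cj g A ≤ V :=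
  ⟨fun h _ a => (le_wc a).trans h, fun h => iSup_le fun g => h g.1 g.2⟩
theorem wc_le : weakClosure A U ≤ U := wc_le_iff.2 fun _ a => a
theorem wc_mono (h : weakClosure A U ≤ V) : weakClosure A U ≤ weakClosure A V :=
  wc_le_iff.2 fun _ a => le_wc ((le_wc a).trans h)
theorem nrm_wc : nrm U ≤ nrm (weakClosure A U) := le_nrm_of_cj_le fun x hx => H7.cj_le_iff.2 (wc_le_iff.2 fun g a => by
  rw [← H7.cj_le_iff, ← H7.cj_mul]
  exact le_wc (by rw [H7.cj_mul]; exact cj_le_of_mem_nrm hx a))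
variable [Finite G] {p : ℕ} [Fact p.Prime]
theorem part2 (hA : IsPGroup p A) (hY : IsPGroup p Y) (h1 : A ⊔ Y ≤ M) (h2 : A ≤ nrm Y) (h3 : ¬ nrm Y ≤ M)
    (h4 : ∀ R : Subgroup G, IsPGroup p R → A ⊔ Y ≤ R → R ≤ M → nrm R ≤ M) : ∃ L, A ⊔ Y ≤ L ∧ A ⊔ Op p L ≤ L ⊓ M ∧ L ⊓ M < L ∧
      (∀ X, A ⊔ Op p L ≤ X → X < L → X ≤ L ⊓ M) ∧ ∀ x ∈ L, x ∉ L ⊓ M → A ⊔ cj x A ⊔ Op p L = L := by
  obtain ⟨L, hL⟩ := exists_minimal_of_wellFoundedLT (fun L => A ⊔ Y ≤ L ∧ L ≤ nrm Y ∧ ¬ L ≤ M)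
    ⟨_, sup_le h2 (le_nrm_self _), le_rfl, h3⟩
  obtain ⟨a, b, c⟩ := hL.prop
  have m : ∀ X, A ⊔ Y ≤ X → X < L → X ≤ M := fun X u v => by_contra fun w =>
    v.not_ge (hL.le_of_le ⟨u, v.le.trans b, w⟩ v.le)
  have lt : L ⊓ M < L := inf_lt_left.2 c
  have pA := H7.isPGroup_sup h2 hA hY
  have nn : L ⊓ nrm (L ⊓ M) ≤ M := m _ ((le_inf a h1).trans (le_inf inf_le_left (le_nrm_self _))) (inf_lt_left.2 fun n => by
    obtain ⟨R, hR, l⟩ := H2.exists_isSylowIn_ge pA (le_inf a h1)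
    exact c ((syl_frattini hR inf_le_left n).ge.trans (sup_le (inf_le_right.trans
      (h4 R hR.2 l (hR.1.trans inf_le_right))) inf_le_right)))
  have yo : Y ≤ Op p L := le_Op (le_sup_right.trans a) b hY
  have aL := le_sup_left.trans a
  have o : A ⊔ Op p L ≤ M := by
    refine m _ (sup_le_sup_left yo _) (lt_of_le_of_ne (sup_le aL (Opi_le _ _)) fun e => ?_)
    have := nilp_lt_nrm (nilp_of_isPGroup (e ▸ H7.isPGroup_sup (aL.trans (le_nrm_Opi _ _)) hA (isPGroup_Op p L))) lt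
    exact this.not_ge (le_inf inf_le_left nn)
  have mm : ∀ X, A ⊔ Op p L ≤ X → X < L → X ≤ L ⊓ M := fun X u v => le_inf v.le (m X ((sup_le_sup_left yo _).trans u) v)
  refine ⟨L, a, le_inf (sup_le aL (Opi_le _ _)) o, lt, mm, fun x hx hx' => by_contra fun e => hx' (mem_inf.2 ⟨hx, nn (mem_inf.2 ⟨hx, ?_⟩)⟩)⟩
  have k := mm _ (sup_le_sup_right le_sup_left _) (lt_of_le_of_ne (sup_le (sup_le aL (cj_le_of_mem hx aL)) (Opi_le _ _)) e)
  have k2 := mm (cj x⁻¹ (L ⊓ M)) (H7.cj_le_iff.1 (by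
    rw [H7.cj_sup, cj_of_mem_nrm (le_nrm_Opi _ _ hx)]
    exact (sup_le_sup_right le_sup_right _).trans k)) (lt_of_le_of_ne (cj_le_of_mem (inv_mem hx) inf_le_left) fun e => by
      rw [H7.cj_eq_iff, cj_of_mem (inv_mem (inv_mem hx))] at e
      exact lt.ne e)
  exact inv_mem_iff.1 (mem_nrm_of_cj_le k2)
end

/-- The L-Lemma: let H be a finite group with Sylow p-subgroup T such that H is T-minimal (generated by the conjugates of T, T in exactly one maximal subgroup M), and let A ≤ T with A not contained in O_p(H). Then there is a subgroup L of H containing A·O_p(H) such that (a) A·O_p(L) lies in exactly one maximal subgroup L₀ of L, and L₀ = L ∩ gMg⁻¹ for some g ∈ H; (b) L = ⟨A, xAx⁻¹⟩·O_p(L) for every x ∈ L outside L₀. -/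
theorem result {H : Type*} [Group H] [Finite H] {p : ℕ} [Fact p.Prime] (T : Sylow p H) (hmin : Cfsg.IsMinimalOver (T : Subgroup H)) (M : Subgroup H) (hM : IsCoatom M ∧ (T : Subgroup H) ≤ M) (A : Subgroup H) (hAT : A ≤ (T : Subgroup H)) (hA : ¬ A ≤ Cfsg.pCore p H) : ∃ L : Subgroup H, A ⊔ Cfsg.pCore p H ≤ L ∧ ∃ L₀ : Subgroup H, A ⊔ (Cfsg.pCoreOf p L) ≤ L₀ ∧ L₀ < L ∧ (∀ X : Subgroup H, A ⊔ (Cfsg.pCoreOf p L) ≤ X → X < L → X ≤ L₀) ∧ (∃ g : H, L₀ = L ⊓ ((M : Subgroup H).map (MulAut.conj (g : H)).toMonoidHom)) ∧ ∀ x ∈ L, x ∉ L₀ → (A ⊔ ((A : Subgroup H).map (MulAut.conj (x : H)).toMonoidHom)) ⊔ (Cfsg.pCoreOf p L) = L := by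
  rw [pCore_eq] at hA ⊢
  simp only [pCoreOf_eq]
  set O := Op p (⊤ : Subgroup H) with hO
  have nO : ∀ X : Subgroup H, X ≤ nrm O := fun X => le_top.trans (le_nrm_Opi _ _)
  have pO := isPGroup_Op p (⊤ : Subgroup H)
  have h := MinO.of_coatom hmin hM.1 hM.2
  have oT : O ≤ T := Op_le_of_sylow (syl_top T)
  obtain ⟨Y, -, hY⟩ := exists_maximal_ge_of_wellFoundedGT
    (fun Y : Subgroup H => IsPGroup p Y ∧ O ≤ Y ∧ Y ≤ M ∧ ¬ nrm Y ≤ M ∧ Y ≤ weakClosure A Y ⊔ O) O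
    ⟨pO, le_rfl, oT.trans hM.2, fun a => h.lt.not_ge ((nO ⊤).trans a), le_sup_right⟩
  obtain ⟨a, b, c, d, e⟩ := hY.prop
  obtain ⟨S, hS, l⟩ := H2.exists_isSylowIn_ge a c
  have nY : ∀ U, Y ≤ U → weakClosure A U ≤ Y → nrm U ≤ nrm Y := fun U u v => by
    have : Y = weakClosure A U ⊔ O := le_antisymm (e.trans (sup_le_sup_right (wc_mono (wc_le.trans u)) _)) (sup_le v b)
    rw [this]; exact nrm_sup nrm_wc (nO _)
  obtain ⟨g, g1, g2⟩ : ∃ g, cj g A ≤ S ⊓ nrm Y ∧ ¬ cj g A ≤ Y := by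
    by_contra k
    push Not at k
    have k1 := nY _ (le_inf l (le_nrm_self _)) (wc_le_iff.2 k)
    have k2 : S ≤ nrm Y := inf_eq_left.1 (by_contra fun ne =>
      (nilp_lt_nrm (nilp_of_isPGroup hS.2) (lt_of_le_of_ne inf_le_left ne)).not_ge (inf_le_inf_left _ k1))
    rw [inf_eq_left.2 k2] at k
    obtain ⟨m, hm, em⟩ := H2.IsSylowIn.exists_cj_eq (syl_le T hM.2) hS
    have h' := h.cj m
    rw [em, H2.cj_top, cj_of_mem hm] at h'
    rcases h'.le_or k2 with n | n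
    · have := (k m (em ▸ H7.cj_mono m hAT)).trans (le_Op le_top n a)
      rw [H7.cj_le_iff, cj_of_mem_nrm (nO ⊤ (mem_top _))] at this
      exact hA this
    · exact d (by rwa [top_inf_eq] at n)
  obtain ⟨L, l1, l2, l3, l4, l5⟩ := part2 (Y := cj g⁻¹ Y) (M := cj g⁻¹ M) (T.isPGroup'.to_le hAT) (H7.isPGroup_cj.2 a)
    (sup_le (H7.cj_le_iff.1 (g1.trans (inf_le_left.trans hS.1))) (H7.cj_mono _ c))
    (by rw [← cj_nrm]; exact H7.cj_le_iff.1 (g1.trans inf_le_right))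
    (by rw [← cj_nrm, H2.cj_le_cj_iff]; exact d) (fun R r1 r2 r3 => by
      rw [← H7.cj_le_iff, cj_nrm]
      have y1 : Y ≤ cj g R := H7.le_cj_iff.2 (le_sup_right.trans r2)
      have y2 : cj g A ≤ weakClosure A (cj g R) := le_wc (H7.cj_mono _ (le_sup_left.trans r2))
      have y3 : weakClosure A (cj g R) ⊔ O ≤ cj g R := sup_le wc_le (b.trans y1)
      by_contra n
      refine g2 (y2.trans (le_sup_left.trans (hY.le_of_ge ⟨(H7.isPGroup_cj.2 r1).to_le y3, le_sup_right,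
        y3.trans (H7.cj_le_iff.2 r3), fun k => n ((nrm_sup nrm_wc (nO _)).trans k),
        sup_le_sup_right (wc_mono le_sup_left) _⟩ (e.trans (sup_le_sup_right (wc_mono (wc_le.trans y1)) _))))))
  refine ⟨L, (sup_le_sup_left ?_ _).trans l1, _, l2, l3, l4, ⟨g⁻¹, rfl⟩, l5⟩
  rw [← H7.cj_le_iff, cj_of_mem_nrm (nO ⊤ (mem_top _))]
  exact b

end Cfsg.Agent.S2834
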