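import Cfsg.Statements.S2835
import Cfsg.Agent.H1.LS4

set_option autoImplicit false
open Cfsg

namespace Cfsg.Agent.S2835

open H7 H1B Subgroup

/-- Let L be a finite group, L₀ a maximal subgroup, T a Sylow p-subgroup of L₀ and Y ≤ T, and suppose L is Y-minimal (generated by the conjugates of Y, with Y in exactly one maximal subgroup, necessarily L₀). Then N_L(T) ≤ L₀, O_p(L) ≤ L₀ and T is a Sylow p-subgroup of L; N_L(L₀) = L₀; L = ⟨Y, gYg⁻¹⟩ for each g ∈ L outside L₀; and if Y is abelian then Y ∩ gYg⁻¹ = C_Y(L) for each such g. -/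
theorem result {L : Type*} [Group L] [Finite L] {p : ℕ} [Fact p.Prime] (L₀ : Subgroup L) (hL₀ : IsCoatom L₀) (T : Sylow p ↥L₀) (Y : Subgroup L) (hYT : Y ≤ (T : Subgroup ↥L₀).map L₀.subtype) (hmin : Cfsg.IsMinimalOver Y) : Subgroup.normalizer (((T : Subgroup ↥L₀).map L₀.subtype : Subgroup L) : Set L) ≤ L₀ ∧ Cfsg.pCore p L ≤ L₀ ∧ (∃ P : Sylow p L, (P : Subgroup L) = (T : Subgroup ↥L₀).map L₀.subtype) ∧ Subgroup.normalizer (L₀ : Set L) = L₀ ∧ (∀ g : L, g ∉ L₀ → Y ⊔ Y.map (MulAut.conj g).toMonoidHom = ⊤) ∧ (IsMulCommutative ↥Y → ∀ g : L, g ∉ L₀ → Y ⊓ Y.map (MulAut.conj g).toMonoidHom = Y ⊓ Subgroup.center L) := by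
  have s := syl_sub T
  have h := MinO.of_coatom hmin hL₀ (hYT.trans s.le)
  refine ⟨(top_inf_eq _).ge.trans (h.nrm_le hYT s.le), (pCore_eq p).le.trans (h.Op_le s hYT),
    ⟨_, (h.syl s hYT).coe_toSylowTop⟩, le_antisymm ((top_inf_eq _).ge.trans (h.nrm_le h.le le_rfl)) (le_nrm_self _),
    fun g hg => h.sup_cj (mem_top g) hg, fun c g hg => ?_⟩
  rw [← cen_top]
  refine le_antisymm (le_inf inf_le_left ?_) (le_inf inf_le_left ?_)
  · rw [← h.sup_cj (mem_top g) hg]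
    exact le_cen_sup (inf_le_left.trans (isComm_iff.1 c)) (inf_le_right.trans (isComm_iff.1 (isComm_cj.2 c)))
  · exact (le_cj_of_le_cen (mem_top g) inf_le_right).ge.trans (H7.cj_mono g inf_le_left)

end Cfsg.Agent.S2835
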