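import Cfsg.Statements.S2836
import Cfsg.Agent.H1.LS4

set_option autoImplicit false
open Cfsg

namespace Cfsg.Agent.S2836

open H7 H1B Subgroup

/-- Let L be a finite group, L₀ a maximal subgroup, T a Sylow p-subgroup of L₀, Y ≤ T, and suppose L is Y-minimal. Let D be the intersection of the conjugates of L₀ (the core of L₀). Then D contains O_p(L) and D/O_p(L) is the Frattini subgroup of L/O_p(L), so D is p-closed; and every normal subgroup N of L contained in L₀ is p-closed with N/O_p(N) a nilpotent group of order prime to p. -/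
theorem result {L : Type*} [Group L] [Finite L] {p : ℕ} [Fact p.Prime] (L₀ : Subgroup L) (hL₀ : IsCoatom L₀) (T : Sylow p ↥L₀) (Y : Subgroup L) (hYT : Y ≤ (T : Subgroup ↥L₀).map L₀.subtype) (hmin : Cfsg.IsMinimalOver Y) : (Cfsg.pCore p L ≤ L₀.normalCore ∧ (L₀.normalCore).map (QuotientGroup.mk' (Cfsg.pCore p L)) = frattini (L ⧸ Cfsg.pCore p L) ∧ Cfsg.IsPClosed p ↥(L₀.normalCore)) ∧ ∀ (N : Subgroup L) [N.Normal], N ≤ L₀ → Cfsg.IsPClosed p ↥N ∧ Group.IsNilpotent (↥N ⧸ Cfsg.pCore p ↥N) ∧ (Nat.card (↥N ⧸ Cfsg.pCore p ↥N)).Coprime p := by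
  have s := syl_sub T
  have h := MinO.of_coatom hmin hL₀ (hYT.trans s.le)
  have s' := h.syl s hYT
  have o : pCore p L ≤ L₀ := (pCore_eq p).le.trans (h.Op_le s hYT)
  set f := res (QuotientGroup.mk' (pCore p L)) ⊤
  have kf : kr f = pCore p L := ker_mk _
  have k := h.im (f := f) le_top (by rwa [kf, top_inf_eq])
  have z : Op p (im f ⊤) = ⊥ := Opi_im_eq_bot le_top (by rw [kf, top_inf_eq, pCore_eq])
  have a : ∀ N : Subgroup L, ⊤ ≤ nrm N → N ≤ L₀ → im f N ≤ Phi (im f ⊤) := fun N h1 h2 =>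
    k.le_Phi (syl_im s' le_top f) (im_mono f hYT) z (im_le_nrm f h1) (im_mono f h2)
  refine ⟨⟨normal_le_normalCore.2 o, ?_, pcl_iff.2 (h.pcl s' hYT (top_nrm _) (normalCore_le _))⟩, fun N _ hN => ?_⟩
  · rw [← im_top, ← Phi_top, ← im_mk_top]
    refine le_antisymm (a _ (top_nrm _) (normalCore_le _)) ?_
    rw [← im_pre_of_le (Phi_le (im f ⊤))]
    refine im_mono f ((le_core_iff _ (le_nrm_pre le_top (le_nrm_Phi _))).2 ((pre_mono f (Phi_le_of_max k.lt fun U h1 h2 =>
      h2.eq_or_lt.symm.imp (fun c => le_antisymm (k.max U (k.le.trans h1) c) h1) id)).trans (pre_im_of_le le_top (kf.le.trans o)).le))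
  · have c := h.pcl s' hYT (top_nrm N) hN
    have e := quotIm f (le_top : N ≤ ⊤) (pCore p N) (by
      rw [kf, pCore_eq_subgroupOf, Opi_of_normal _ le_top (top_nrm N), pCore_eq, inf_subgroupOf_right])
    haveI := nilp_of_le (a N (top_nrm N) hN) (nilp_Phi _)
    refine ⟨pcl_iff.2 c, nilpotent_of_mulEquiv e.symm, coprime_iff_not_dvd.2 ?_⟩
    rw [← index_eq_card, pCore_eq_subgroupOf]; exact c.syl.not_dvd

end Cfsg.Agent.S2836
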