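import Cfsg.Statements.S2837
import Cfsg.Agent.H1.Xt

set_option autoImplicit false
open Cfsg

namespace Cfsg.Agent.S2837

open H7 H1B Subgroup
open scoped commutatorElement

/-- Let L be a finite group of characteristic p, L₀ a maximal subgroup, Y an elementary abelian p-subgroup of L₀ with L Y-minimal and O_p(L) ≤ N_L(Y). Put A = the normal closure of O_p(L) ∩ Y in L. Then for every g ∈ L outside L₀: Φ(A) = A' = [A ∩ Y, A] = [A ∩ Y, A ∩ gYg⁻¹] ≤ C_Y(L), and Y ∩ gYg⁻¹ = (A ∩ Y) ∩ (A ∩ gYg⁻¹) = C_Y(L) = C_A(L). -/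
theorem result {L : Type*} [Group L] [Finite L] {p : ℕ} [Fact p.Prime] (hchar : Subgroup.centralizer (Cfsg.pCore p L : Set L) ≤ Cfsg.pCore p L) (L₀ : Subgroup L) (hL₀ : IsCoatom L₀) (Y : Subgroup L) (hYL₀ : Y ≤ L₀) (hYel : Cfsg.IsElementaryAbelian p Y) (hmin : Cfsg.IsMinimalOver Y) (hOY : Cfsg.pCore p L ≤ Subgroup.normalizer (Y : Set L)) (A : Subgroup L) (hA : A = Subgroup.normalClosure (((Cfsg.pCore p L ⊓ Y : Subgroup L)) : Set L)) (g : L) (hg : g ∉ L₀) : (frattini ↥A).map A.subtype = ⁅A, A⁆ ∧ ⁅A, A⁆ = ⁅A ⊓ Y, A⁆ ∧ ⁅A ⊓ Y, A⁆ = ⁅A ⊓ Y, A ⊓ Y.map (MulAut.conj g).toMonoidHom⁆ ∧ ⁅A ⊓ Y, A⁆ ≤ Y ⊓ Subgroup.center L ∧ Y ⊓ Y.map (MulAut.conj g).toMonoidHom = Y ⊓ Subgroup.center L ∧ (A ⊓ Y) ⊓ (A ⊓ Y.map (MulAut.conj g).toMonoidHom) = Y ⊓ Subgroup.center L ∧ A ⊓ Subgroup.center L = Y ⊓ Subgroup.center L := by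
  rw [pCore_eq] at hchar hOY hA
  set O := Op p (⊤ : Subgroup L) with hO
  have nO : ∀ X : Subgroup L, X ≤ nrm O := fun X => le_top.trans (le_nrm_Opi _ _)
  have e := (MinO.of_coatom hmin hL₀ hYL₀).sup_cj (mem_top g) hg
  rw [← H1.ncl_top] at hA
  rw [← H7.cj_def, ← Phi_def, ← cen_top]
  have eY : EA p Y := hYel
  have eW : EA p (cj g Y) := eY.cj g
  have cO : cj g O = O := cj_of_mem_nrm (nO ⊤ (mem_top g))
  have hOW : O ≤ nrm (cj g Y) := by rw [← cj_nrm, ← cO]; exact H7.cj_mono g hOY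
  have z : ∀ X : Subgroup L, X ≤ cen Y → X ≤ cen (cj g Y) → X ≤ cen ⊤ := fun X a b => e ▸ le_cen_sup a b
  have i1 : Y ⊓ cj g Y = Y ⊓ cen ⊤ := le_antisymm (le_inf inf_le_left (z _ (inf_le_left.trans eY.le_cen) (inf_le_right.trans eW.le_cen)))
    (le_inf inf_le_left (by rw [← le_cj_of_le_cen (mem_top g) (inf_le_right : Y ⊓ cen ⊤ ≤ _)]; exact H7.cj_mono g inf_le_left))
  have i2 : cj g Y ⊓ cen ⊤ ≤ Y := by
    rw [← le_cj_of_le_cen (mem_top g⁻¹) (inf_le_right : cj g Y ⊓ cen ⊤ ≤ _), H7.cj_le_iff, inv_inv]; exact inf_le_left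
  have zO : cen (⊤ : Subgroup L) ≤ O := (cen_anti le_top).trans hchar
  set W := cj g Y with hW
  have nB : O ≤ nrm (O ⊓ Y) := nrm_inf (le_nrm_self _) hOY
  have nC : O ≤ nrm (O ⊓ W) := nrm_inf (le_nrm_self _) hOW
  have AO : O ⊓ Y ⊔ O ⊓ W ≤ O := sup_le inf_le_left inf_le_left
  have eA : A = O ⊓ Y ⊔ O ⊓ W := by
    refine le_antisymm (hA.le.trans (H1.ncl_le le_sup_left (e.ge.trans (sup_le ?_ ?_)))) (sup_le (H1.le_ncl.trans hA.ge) ?_)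
    · exact le_nrm_of_comm_le (((commutator_mono AO le_rfl).trans (comm_le_inf hOY (nO _))).trans le_sup_left)
    · exact le_nrm_of_comm_le (((commutator_mono AO le_rfl).trans (comm_le_inf hOW (nO _))).trans le_sup_right)
    · rw [hA]
      refine le_trans ?_ (cj_le_of_mem_nrm (H1.le_nrm_ncl (mem_top g)) H1.le_ncl)
      rw [H7.cj_inf, cO]
  have a1 : A ⊓ Y = O ⊓ Y := le_antisymm (inf_le_inf_right _ (eA ▸ AO)) (le_inf (eA ▸ le_sup_left) inf_le_right)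
  have a2 : A ⊓ W = O ⊓ W := le_antisymm (inf_le_inf_right _ (eA ▸ AO)) (le_inf (eA ▸ le_sup_right) inf_le_right)
  rw [a1, a2]
  have c1 : ⁅O ⊓ Y, O ⊓ W⁆ ≤ Y ⊓ cen ⊤ := (comm_le_inf (inf_le_left.trans nC) (inf_le_left.trans nB)).trans
    (i1 ▸ inf_le_inf inf_le_right inf_le_right)
  have nN : ∀ X : Subgroup L, X ≤ O → X ≤ nrm ⁅O ⊓ Y, O ⊓ W⁆ := fun X a => a.trans (nrm_commutator nB nC)
  have b1 : ⁅O ⊓ Y, O ⊓ Y⁆ = ⊥ := commutator_eq_bot_iff_le_centralizer.2 (eY.of_le inf_le_right).le_cen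
  have b2 : ⁅O ⊓ W, O ⊓ W⁆ = ⊥ := commutator_eq_bot_iff_le_centralizer.2 (eW.of_le inf_le_right).le_cen
  have c2 : ⁅A, A⁆ ≤ ⁅O ⊓ Y, O ⊓ W⁆ := by
    rw [eA]
    refine comm_sup_le (nN _ inf_le_left) (nN _ inf_le_left) ?_ ?_ <;> refine comm_sup_le' (nN _ inf_le_left) (nN _ inf_le_left) ?_ ?_
    · exact b1.le.trans bot_le
    · exact le_rfl
    · exact (Subgroup.commutator_comm _ _).le
    · exact b2.le.trans bot_le
  have c3 : ⁅O ⊓ Y, O ⊓ W⁆ ≤ ⁅O ⊓ Y, A⁆ := commutator_mono le_rfl (eA ▸ le_sup_right)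
  have c4 : ⁅O ⊓ Y, A⁆ ≤ ⁅A, A⁆ := commutator_mono (eA ▸ le_sup_left) le_rfl
  have dec : ∀ x ∈ A, ∃ b ∈ O ⊓ Y, ∃ c ∈ O ⊓ W, b * c = x := fun x hx => (mem_sup_nrm (inf_le_left.trans nC)).1 (eA ▸ hx)
  refine ⟨le_antisymm (Phi_le_of_elem (p := p) Fact.out le_rfl fun x hx => ?_)
    (comm_le_Phi (nilp_of_isPGroup ((isPGroup_Op p ⊤).to_le (eA ▸ AO)))), le_antisymm (c2.trans c3) c4,
    le_antisymm (c4.trans c2) c3, (c4.trans c2).trans c1, i1, ?_, le_antisymm (le_inf (fun x hx => ?_) inf_le_right) ?_⟩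
  · obtain ⟨b, hb, c, hc, rfl⟩ := dec x hx
    have := mul_pow_mod_der (P := A) (a1.ge hb).1 (a2.ge hc).1 p
    rwa [eY.pow hb.2, eW.pow hc.2, mul_one, mul_one, inv_mem_iff] at this
  · rw [inf_inf_inf_comm, inf_idem, i1, inf_eq_right]
    exact inf_le_right.trans zO
  · obtain ⟨b, hb, c, hc, rfl⟩ := dec x hx.1
    refine mul_mem hb.2 (i2 (mem_inf.2 ⟨hc.2, z (zpowers c) (zpowers_le.2 ?_) (zpowers_le.2 (eW.le_cen hc.2)) (mem_zpowers c)⟩))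
    exact (mul_mem_cancel_left (eY.le_cen hb.2)).1 (cen_anti le_top hx.2)
  · exact le_inf ((le_inf (inf_le_right.trans zO) inf_le_left).trans (a1.ge.trans inf_le_left)) inf_le_right

end Cfsg.Agent.S2837
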