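import Cfsg.Statements.S2840
import Cfsg.Agent.H1.LS4

set_option autoImplicit false
open Cfsg

namespace Cfsg.Agent.S2840

open H7 H1B Subgroup

/-- Let Q be a nontrivial p-subgroup of the finite group H that is a weakly closed subgroup and K a subgroup containing Q; let K° be the weak closure of Q in K (generated by the H-conjugates of Q inside K). Then K° is generated by the K-conjugates of Q, and K° is the subnormal closure of Q in K. -/
theorem result {H : Type*} [Group H] [Finite H] {p : ℕ} [Fact p.Prime] (Q : Subgroup H) (hQp : IsPGroup p ↥Q) (hQ1 : Q ≠ ⊥) (hwc : Cfsg.IsWeaklyClosedSubgroup p Q) (K : Subgroup H) (hQK : Q ≤ K) (Kc : Subgroup H) (hKc : Kc = Cfsg.weakClosure Q K) : Kc = ⨆ k : ↥K, ((Q : Subgroup H).map (MulAut.conj ((k : H) : H)).toMonoidHom) ∧ Kc = (Cfsg.subnormalClosure (Q.subgroupOf K)).map K.subtype := by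
  rw [wc_iff] at hwc
  rw [hKc, hwc.wcl_eq hQK]
  obtain ⟨h1, h2, h3⟩ := scl_spec (Q.subgroupOf K)
  have l := H1.ncl_le_of_le hQK le_rfl
  refine ⟨(iSup_cj_eq_ncl Q K).symm, le_antisymm (hwc.ncl_le_of_sn (sn_map_subtype_iff.2 (sn_top_iff.1 h1))
    ((subgroupOf_map hQK).ge.trans (map_mono h2))) ((map_mono (h3 _ (sn_top_iff.2 (sn_iff.1 (SN.of_normal l
      H1.le_nrm_ncl)).2) (comap_mono H1.le_ncl))).trans (subgroupOf_map l).le)⟩

end Cfsg.Agent.S2840
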