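import Cfsg.Statements.S2841
import Cfsg.Agent.H1.LS4

set_option autoImplicit false
open Cfsg

namespace Cfsg.Agent.S2841

open H7 H1B Subgroup

/-- Let Q be a nontrivial p-subgroup of the finite group H that is a weakly closed subgroup and N a normal subgroup of H. Then N = N_N(Q)·[N, Q] and [N, Q] = (Q ∩ [N, Q])·[N, Q, Q]. -/
theorem result {H : Type*} [Group H] [Finite H] {p : ℕ} [Fact p.Prime] (Q : Subgroup H) (hQp : IsPGroup p ↥Q) (hQ1 : Q ≠ ⊥) (hwc : Cfsg.IsWeaklyClosedSubgroup p Q) (N' : Subgroup H) [N'.Normal] : (∀ n : H, n ∈ N' → ∃ a ∈ N' ⊓ Subgroup.normalizer ((Q : Subgroup H) : Set H), ∃ b ∈ ⁅N', Q⁆, n = a * b) ∧ (∀ c : H, c ∈ ⁅N', Q⁆ → ∃ a ∈ Q ⊓ ⁅N', Q⁆, ∃ b ∈ ⁅⁅N', Q⁆, Q⁆, c = a * b) := by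
  rw [wc_iff] at hwc
  have e := hwc.sup_comm (le_nrm_of_normal Q N')
  have n := nrm_comm_left N' Q
  have n1 : N' ⊓ nrm Q ≤ nrm ⁅N', Q⁆ := inf_le_left.trans n
  refine ⟨fun x hx => ?_, fun x hx => ?_⟩
  · obtain ⟨a, ha, b, hb, h⟩ := (mem_sup_nrm n1).1 ((e.ge.trans (sup_comm _ _).le) hx)
    exact ⟨a, ha, b, hb, h.symm⟩
  · have : ⁅N', Q⁆ ≤ Q ⊓ ⁅N', Q⁆ ⊔ ⁅⁅N', Q⁆, Q⁆ := (commutator_mono e.ge le_rfl).trans (comm_sup_le (le_nrm_of_comm_le
      ((comm_sup_le (inf_le_left.trans (nrm_comm_right _ _)) (le_nrm_self _) ((commutator_mono inf_le_left le_rfl).trans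
        (commutator_comm _ _).le) (comm_le_left (nrm_comm_left _ _))).trans le_sup_right))
      (nrm_sup (nrm_inf inf_le_right n1) (nrm_commutator n1 inf_le_right)) le_sup_right
      ((le_inf (comm_le_right inf_le_right) (commutator_mono inf_le_left le_rfl)).trans le_sup_left))
    obtain ⟨a, ha, b, hb, h⟩ := (mem_sup_nrm (inf_le_left.trans (nrm_comm_right _ _))).1 (this hx)
    exact ⟨a, ha, b, hb, h.symm⟩

end Cfsg.Agent.S2841
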