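import Cfsg.Statements.S2842
import Cfsg.Agent.H1.LS4

set_option autoImplicit false
open Cfsg

namespace Cfsg.Agent.S2842

open H7 H1B Subgroup

/-- Let Q be a nontrivial p-subgroup of the finite group H that is a weakly closed subgroup with C_H(Q) ≤ Q, and Q ≤ L ≤ H. Suppose H has characteristic p, or more generally that C_H(y) has characteristic p for some nonidentity y ∈ C_{O_p(L)}(Q). Then [Q, C_H(O_p(L))] ≤ Q ∩ O_p(L), C_H(O_p(L)) is a p-group, and L has characteristic p. -/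
theorem result {H : Type*} [Group H] [Finite H] {p : ℕ} [Fact p.Prime] (Q : Subgroup H) (hQp : IsPGroup p ↥Q) (hQ1 : Q ≠ ⊥) (hwc : Cfsg.IsWeaklyClosedSubgroup p Q) (hCQ : Subgroup.centralizer ((Q : Subgroup H) : Set H) ≤ Q) (L : Subgroup H) (hQL : Q ≤ L) (hyp : Subgroup.centralizer (Cfsg.pCore p H : Set H) ≤ Cfsg.pCore p H ∨ ∃ y : H, y ≠ 1 ∧ y ∈ (Cfsg.pCoreOf p L) ⊓ Subgroup.centralizer ((Q : Subgroup H) : Set H) ∧ Subgroup.centralizer (Cfsg.pCore p ↥(Subgroup.centralizer ({y} : Set H)) : Set ↥(Subgroup.centralizer ({y} : Set H))) ≤ Cfsg.pCore p ↥(Subgroup.centralizer ({y} : Set H))) : ⁅Q, Subgroup.centralizer (((Cfsg.pCoreOf p L) : Subgroup H) : Set H)⁆ ≤ Q ⊓ (Cfsg.pCoreOf p L) ∧ IsPGroup p ↥(Subgroup.centralizer (((Cfsg.pCoreOf p L) : Subgroup H) : Set H)) ∧ Subgroup.centralizer (Cfsg.pCore p ↥L : Set ↥L) ≤ Cfsg.pCore p ↥L := by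
  rw [wc_iff] at hwc
  rw [pCoreOf_eq, chp_iff]
  have : ⁅Q, cen (Op p L)⁆ ≤ Q ⊓ Op p L ∧ IsPGroup p (cen (Op p L)) := by
    rcases hyp with h | ⟨y, -, h1, h2⟩
    · exact hwc.core hCQ hQL le_rfl (nrm_cen (le_nrm_Opi _ L)) (isPGroup_Op p ⊤) (le_top.trans (le_nrm_Opi _ _))
        (le_top.trans (le_nrm_Opi _ _)) ((isPGroup_Op p ⊤).to_le ((inf_le_inf_right _ le_top).trans (chp_top.1 h)))
    · rw [pCoreOf_eq] at h1
      exact hwc.core' hCQ hQL h1.1 (le_cen1_iff.2 h1.2) (chp_iff.1 h2)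
  exact ⟨this.1, this.2, chp_of_pg (this.2.to_le inf_le_right)⟩

end Cfsg.Agent.S2842
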