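import Cfsg.Statements.S2843
import Cfsg.Agent.H1.LS4

set_option autoImplicit false
open Cfsg

namespace Cfsg.Agent.S2843

open H7 H1B Subgroup

/-- Let Q be a nontrivial large p-subgroup of the finite group H, Q ≤ L ≤ H, and Y a nontrivial p-subgroup of H normalized by L. Let L° be the weak closure of Q in L (generated by the conjugates of Q inside L). Then L° equals the weak closure of Q in L·C_H(Y), and [L°, C_H(Y)] ≤ O_p(L°); in particular C_H(Y) normalizes L°. -/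
theorem result {H : Type*} [Group H] [Finite H] {p : ℕ} [Fact p.Prime] (Q : Subgroup H) (hQp : IsPGroup p ↥Q) (hQ1 : Q ≠ ⊥) (hL : Cfsg.IsLarge Q) (L : Subgroup H) (hQL : Q ≤ L) (Y : Subgroup H) (hYp : IsPGroup p ↥Y) (hY1 : Y ≠ ⊥) (hLY : L ≤ Subgroup.normalizer ((Y : Subgroup H) : Set H)) : Cfsg.weakClosure Q L = Cfsg.weakClosure Q (L ⊔ Subgroup.centralizer ((Y : Subgroup H) : Set H)) ∧ ⁅Cfsg.weakClosure Q L, Subgroup.centralizer ((Y : Subgroup H) : Set H)⁆ ≤ (Cfsg.pCoreOf p (Cfsg.weakClosure Q L)) ∧ Subgroup.centralizer ((Y : Subgroup H) : Set H) ≤ Subgroup.normalizer (((Cfsg.weakClosure Q L) : Subgroup H) : Set H) := by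
  have h := lg_of hQp hQ1 hL
  rw [h.wc.wcl_eq hQL, h.wc.wcl_eq (hQL.trans le_sup_left), pCoreOf_eq]
  have c := h.cen_le_nrm hYp hY1 (hQL.trans hLY)
  have m := nrm_cen hLY
  have n := nrm_ncl_of m c
  have l := H1.ncl_le_of_le hQL le_rfl
  have w : L ≤ nrm (Op p (cen Y) ⊓ H1.ncl Q L) := nrm_inf (nrm_Opi _ m) H1.le_nrm_ncl
  refine ⟨(ncl_sup_of_nrm n).symm, (comm_ncl_le (hQL.trans w) (le_inf ((comm_le_inf (hQL.trans m) c).trans (le_Op
    inf_le_right (nrm_inf c (le_nrm_self _)) (hQp.to_le inf_le_left))) ((comm_le_left c).trans H1.le_ncl)) w m).trans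
    (le_Op inf_le_right (l.trans w) ((isPGroup_Op p _).to_le inf_le_left)), n⟩

end Cfsg.Agent.S2843
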