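import Cfsg.Statements.S2844
import Cfsg.Agent.H1.LS4

set_option autoImplicit false
open Cfsg

namespace Cfsg.Agent.S2844

open H7 H1B Subgroup

/-- Let Q be a nontrivial large p-subgroup of the finite group H and Q• = O_p(N_H(Q)). Then for every g ∈ H outside N_H(Q): C_H(Q) ∩ C_H(gQg⁻¹) = 1, C_H(Q•) ∩ C_H(gQ•g⁻¹) = 1, Z(Q) ∩ Z(gQg⁻¹) = 1 and Z(Q•) ∩ Z(gQ•g⁻¹) = 1; moreover N_H(Q) = N_H(Q•) and Q• is large in H. -/
theorem result {H : Type*} [Group H] [Finite H] {p : ℕ} [Fact p.Prime] (Q : Subgroup H) (hQp : IsPGroup p ↥Q) (hQ1 : Q ≠ ⊥) (hL : Cfsg.IsLarge Q) (Qb : Subgroup H) (hQb : Qb = Cfsg.largeBullet p Q) : (∀ g : H, g ∉ Subgroup.normalizer ((Q : Subgroup H) : Set H) → Subgroup.centralizer ((Q : Subgroup H) : Set H) ⊓ Subgroup.centralizer ((((Q : Subgroup H).map (MulAut.conj (g : H)).toMonoidHom) : Subgroup H) : Set H) = ⊥ ∧ Subgroup.centralizer ((Qb : Subgroup H) : Set H)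 ⊓ Subgroup.centralizer ((((Qb : Subgroup H).map (MulAut.conj (g : H)).toMonoidHom) : Subgroup H) : Set H) = ⊥ ∧ (Q ⊓ Subgroup.centralizer ((Q : Subgroup H) : Set H)) ⊓ (((Q : Subgroup H).map (MulAut.conj (g : H)).toMonoidHom) ⊓ Subgroup.centralizer ((((Q : Subgroup H).map (MulAut.conj (g : H)).toMonoidHom) : Subgroup H) : Set H)) = ⊥ ∧ (Qb ⊓ Subgroup.centralizer ((Qb : Subgroup H) : Set H)) ⊓ (((Qb : Subgroup H).map (MulAut.conj (g : H)).toMonoidHom) ⊓ Subgroup.centralizer ((((Qb : Subgroup H).map (MulAut.conj (g : H)).toMonoidHom) : Subgroup H) : Set H)) = ⊥) ∧ Subgroup.normalizer ((Q : Subgroup H) : Set H) = Subgroup.normalizer ((Qb : Subgroup H) : Set H) ∧ Cfsg.IsLarge Qb := by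
  have h := lg_of hQp hQ1 hL
  rw [largeBullet, pCoreOf_eq] at hQb
  have l : Q ≤ Qb := hQb ▸ le_Op (le_nrm_self Q) le_rfl hQp
  have e : nrm Q = nrm Qb := le_antisymm (hQb ▸ le_nrm_Opi _ _) (h.wc.nrm_le (hQb ▸ isPGroup_Op p _) l)
  refine ⟨fun g hg => ?_, e, ((cen_anti l).trans h.cen_le).trans l,
    fun U h1 h2 => (h.nrm_le U (h1.trans (cen_anti l)) h2).trans e.le⟩
  have a : cen Q ⊓ cen (cj g Q) = ⊥ := by_contra fun c => hg (h.mem_nrm c)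
  have b : cen Qb ⊓ cen (cj g Qb) = ⊥ := eq_bot_iff.2 (a ▸ inf_le_inf (cen_anti l) (cen_anti (H7.cj_mono g l)))
  exact ⟨a, b, eq_bot_iff.2 ((inf_le_inf inf_le_right inf_le_right).trans a.le),
    eq_bot_iff.2 ((inf_le_inf inf_le_right inf_le_right).trans b.le)⟩

end Cfsg.Agent.S2844
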