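import Cfsg.Statements.S2846
import Cfsg.Agent.H1.LS6

set_option autoImplicit false
open Cfsg

namespace Cfsg.Agent.S2846

open H7 H1B Subgroup

/-- Let Q be a nontrivial large p-subgroup of the finite group H, S a Sylow p-subgroup containing Q, and L a subgroup containing S with O_p(L) ≠ 1 and C_H(O_p(L)) ≤ O_p(L). Then there are a subgroup M containing S having the basic property (M ∈ 𝔐_H, writing Y_X for the largest p-reduced normal subgroup of X and 𝓛_H for the set of subgroups X with O_p(X) ≠ 1 and C_H(O_p(X)) ≤ O_p(X): M ∈ 𝓛_H, M·C_H(Y_M) is the only maximal member of 𝓛_H containing M and its largest p-reduced normal subgroup is again Y_M, C_M(Y_M) is p-closed, and the image of C_M(Y_M) in M/O_p(M) lies in the Frattini subgroup of M/O_p(M)) and a subgroup L* with S ≤ L* ≤ M, O_p(L*) ≠ 1, C_H(O_p(L*)) ≤ O_p(L*), such that L·C_H(Y_L) = L*·C_H(Y_L), the weak closures of Q in L and in L* agree and lie in that of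 M, and Y_L = Y_{L*} ≤ Y_M. If moreover Q is not normal in L, then Q is normal in neither L* nor M. -/
theorem result {H : Type*} [Group H] [Finite H] {p : ℕ} [Fact p.Prime] (Q : Subgroup H) (hQp : IsPGroup p ↥Q) (hQ1 : Q ≠ ⊥) (hLg : Cfsg.IsLarge Q) (S : Sylow p H) (hQS : Q ≤ (S : Subgroup H)) (L : Subgroup H) (hSL : (S : Subgroup H) ≤ L) (hL : L ∈ Cfsg.charPSubgroups p H) : ∃ M Ls : Subgroup H, (S : Subgroup H) ≤ M ∧ Cfsg.IsInFrakM p M ∧ (S : Subgroup H) ≤ Ls ∧ Ls ≤ M ∧ Ls ∈ Cfsg.charPSubgroups p H ∧ L ⊔ Subgroup.centralizer (((Cfsg.largestPReducedOf p L) : Subgroup H) : Set H) = Ls ⊔ Subgroup.centralizer (((Cfsg.largestPReducedOf p L) : Subgroup H) : Set H) ∧ Cfsg.weakClosure Q L = Cfsg.weakClosure Q Ls ∧ Cfsg.weakClosure Q Ls ≤ Cfsg.weakClosure Q M ∧ (Cfsg.largestPReducedOf p L) = (Cfsg.largestPReducedOf p Ls) ∧ (Cfsg.largestPReducedOf p Ls) ≤ (Cfsg.largestPReducedOf p M) ∧ (¬ L ≤ Subgroup.normalizer ((Q : Subgroup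 H) : Set H) → ¬ Ls ≤ Subgroup.normalizer ((Q : Subgroup H) : Set H) ∧ ¬ M ≤ Subgroup.normalizer ((Q : Subgroup H) : Set H)) := by
  simp only [YY_eq]
  have h := lg_of hQp hQ1 hLg
  obtain ⟨M, K, a, b, c, d, e, f, g, k⟩ := exists_frM h.par (syl_top S) hSL hL
  have n := h.cen_le_nrm (ea_YY p L).isPGroup (YY_ne_bot hL) ((hQS.trans hSL).trans (red_YY p L).norm)
  have w : ∀ X : Subgroup H, X ≤ nrm (YY p L) → H1.ncl Q (X ⊔ cen (YY p L)) = H1.ncl Q X := fun X x =>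
    ncl_sup_of_nrm (nrm_ncl_of (nrm_cen x) n)
  have q : ¬ L ≤ nrm Q → ¬ K ≤ nrm Q := fun x y => x ((le_sup_left.trans k.le).trans (sup_le y n))
  refine ⟨M, K, a, b, c, d, e, k, ?_, ?_, f, f ▸ g, fun x => ⟨q x, fun y => q x (d.trans y)⟩⟩
  · rw [h.wc.wcl_eq (hQS.trans hSL), h.wc.wcl_eq (hQS.trans c), ← w L (red_YY p L).norm, k, w K (by rw [f]; exact (red_YY p K).norm)]
  · rw [h.wc.wcl_eq (hQS.trans c), h.wc.wcl_eq (hQS.trans a)]
    exact H1.ncl_mono le_rfl d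

end Cfsg.Agent.S2846
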