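import Cfsg.Statements.S2850
import Cfsg.Agent.H1.LS5

set_option autoImplicit false
open Cfsg

namespace Cfsg.Agent.S2850

open H7 H1B Subgroup

/-- Standing hypotheses: G a finite group, S a Sylow p-subgroup, Q a nontrivial large p-subgroup of G contained in S (C_G(Q) ≤ Q and N_G(U) ≤ N_G(Q) for all nontrivial U ≤ C_G(Q)), and M a subgroup containing S with the basic property (M ∈ 𝔐_G(S)); Y_M denotes the largest p-reduced normal subgroup of M and M† = M·C_G(Y_M). Suppose Y_M is asymmetric in G. Then N_G(L) ≤ N_G(O_p(M)) ≤ M† for every p-subgroup L containing O_p(M); O_p(M) is a weakly closed subgroup of G; for every subgroup L containing O_p(M), L ∩ M† contains a Sylow p-subgroup of L; and two elements of Y_M conjugate in G are conjugate in M. -/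
theorem result {G : Type*} [Group G] [Finite G] {p : ℕ} [Fact p.Prime] (S : Sylow p G) (Q : Subgroup G) (hQp : IsPGroup p ↥Q) (hQ1 : Q ≠ ⊥) (hQS : Q ≤ (S : Subgroup G)) (hQ : Cfsg.IsLarge Q) (M : Subgroup G) (hSM : (S : Subgroup G) ≤ M) (hM : Cfsg.IsInFrakM p M) (hasym : ¬ Cfsg.IsSymmetricIn (Cfsg.largestPReducedOf p M)) : (∀ L : Subgroup G, IsPGroup p ↥L → (Cfsg.pCoreOf p M) ≤ L → Subgroup.normalizer ((L : Subgroup G) : Set G) ≤ Subgroup.normalizer (((Cfsg.pCoreOf p M) : Subgroup G) : Set G) ∧ Subgroup.normalizer (((Cfsg.pCoreOf p M) : Subgroup G) : Set G) ≤ (M ⊔ Subgroup.centralizer (((Cfsg.largestPReducedOf p M) : Subgroup G) : Set G))) ∧ Cfsg.IsWeaklyClosedSubgroup p (Cfsg.pCoreOf p M) ∧ (∀ L : Subgroup G, (Cfsg.pCoreOf p M) ≤ L → Cfsg.IsParabolic p ((L ⊓ (M ⊔ Subgroup.centralizer (((Cfsg.largestPReducedOf p M) : Subgroup G) : Set G))).subgroupOf L)) ∧ (∀ x ∈ (Cfsg.largestPReducedOf p M), ∀ g :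 G, g * x * g⁻¹ ∈ (Cfsg.largestPReducedOf p M) → ∃ m ∈ M, m * x * m⁻¹ = g * x * g⁻¹) := by
  have h := frM_of S hQp hQ1 hQ hSM hM
  rw [YY_eq] at *
  rw [pCoreOf_eq, ← h.nrmY]
  have w := h.wc (asym_of hasym)
  refine ⟨fun L h1 h2 => ⟨w.nrm_le h1 h2, h.nrmO⟩, wc_iff.2 w, fun L h1 => ?_, fun x hx g hy => ?_⟩
  · obtain ⟨T, t, -, h2⟩ := w.exists_syl h1
    exact ⟨t.toSylow, t.coe_toSylow ▸ comap_mono (le_inf t.le (h2.trans h.nrmO))⟩
  · obtain ⟨k, hk, e⟩ := w.exists_cj (h.O_le.trans (cen_le_cen1 hy)) (cj_cen1 g x ▸ H7.cj_mono g (h.O_le.trans (cen_le_cen1 hx)))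
    have : k⁻¹ * g ∈ M ⊔ cen (YY p M) := h.nrmY.le (h.nrmO (cj_eq_self_iff.1 (by rw [H7.cj_mul, e, H2.cj_inv_cj])))
    obtain ⟨m, hm, c, hc, e⟩ := (mem_sup_nrm (nrm_cen (red_YY p M).norm)).1 this
    refine ⟨m, hm, ?_⟩
    have e1 := conj_eq_of_mem_cen hc hx
    have e2 := mem_cen1.1 hk
    calc m * x * m⁻¹ = (m * c) * x * (m * c)⁻¹ := by
          conv_lhs => rw [← e1]
          group
      _ = k⁻¹ * ((g * x * g⁻¹) * k) := by rw [e]; group
      _ = _ := by rw [← e2]; group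

end Cfsg.Agent.S2850
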