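import Cfsg.Statements.S2851
import Cfsg.Agent.H1.LS5

set_option autoImplicit false
open Cfsg

namespace Cfsg.Agent.S2851

open H7 H1B Subgroup

/-- Standing hypotheses: G a finite group, S a Sylow p-subgroup, Q a nontrivial large p-subgroup of G contained in S, M a subgroup containing S with the basic property (M ∈ 𝔐_G(S)); Y_M the largest p-reduced normal subgroup of M and M† = M·C_G(Y_M). Let F be the preimage in M† of the generalized Fitting subgroup of M†/C_{M†}(Y_M). If Y_M is asymmetric in G and H is a subgroup of characteristic p containing F, then Y_M ≤ Y_H. -/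
theorem result {G : Type*} [Group G] [Finite G] {p : ℕ} [Fact p.Prime] (S : Sylow p G) (Q : Subgroup G) (hQp : IsPGroup p ↥Q) (hQ1 : Q ≠ ⊥) (hQS : Q ≤ (S : Subgroup G)) (hQ : Cfsg.IsLarge Q) (M : Subgroup G) (hSM : (S : Subgroup G) ≤ M) (hM : Cfsg.IsInFrakM p M) (hasym : ¬ Cfsg.IsSymmetricIn (Cfsg.largestPReducedOf p M)) [hn : ((Subgroup.centralizer (((Cfsg.largestPReducedOf p M) : Subgroup G) : Set G)).subgroupOf (M ⊔ Subgroup.centralizer (((Cfsg.largestPReducedOf p M) : Subgroup G) : Set G))).Normal] (F : Subgroup G) (hF : F = ((Cfsg.generalizedFittingSubgroup (↥(M ⊔ Subgroup.centralizer (((Cfsg.largestPReducedOf p M) : Subgroup G) : Set G)) ⧸ (Subgroup.centralizer (((Cfsg.largestPReducedOf p M) : Subgroup G) : Set G)).subgroupOf (M ⊔ Subgroup.centralizer (((Cfsg.largestPReducedOf p M) : Subgroup G) : Set G)))).comap (QuotientGroup.mk' ((Subgroup.centralizer (((Cfsg.largestPReducedOf p M) : Subgroup G) : Set G)).subgroupOf (M ⊔ Subgroup.centralizer (((Cfsg.largestPReducedOf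 p M) : Subgroup G) : Set G))))).map ((M ⊔ Subgroup.centralizer (((Cfsg.largestPReducedOf p M) : Subgroup G) : Set G))).subtype) (H : Subgroup G) (hFH : F ≤ H) (hH : Subgroup.centralizer (Cfsg.pCore p ↥H : Set ↥H) ≤ Cfsg.pCore p ↥H) : (Cfsg.largestPReducedOf p M) ≤ Cfsg.largestPReducedOf p H := by
  have h := frM_of S hQp hQ1 hQ hSM hM
  have e := YY_eq (p := p) (L := M)
  rw [YY_eq (L := H)]
  rw [chp_iff] at hH
  have w := h.wc (asym_of (e ▸ hasym))
  have n := h.nrmY
  have r := red_YY p M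
  have o := h.O_le
  have y := h.Y_le
  have no := h.nrmO
  rw [← e] at n r o y no
  set Y := largestPReducedOf p M
  set D := M ⊔ cen Y
  set f := QuotientGroup.mk' ((cen Y).subgroupOf D)
  have kf : kr f = cen Y := (kr_mk'_subgroupOf _ _).trans (inf_eq_left.2 le_sup_right)
  have hF' : F = pre f (Fst ⊤) := by rw [hF, gfit_eq]; rfl
  have c : cen Y ≤ H := (kf.ge.trans (kr_le_pre f _)).trans (hF'.ge.trans hFH)
  have o0 : Op p (⊤ : Subgroup (D ⧸ (cen Y).subgroupOf D)) = ⊥ :=
    (pCore_eq p).symm.trans ((rd_iff_quot n.ge).2 (r.rd.congr r.norm (by rw [sup_assoc, sup_idem])))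
  obtain ⟨T, t, h1, h2⟩ := w.exists_syl (o.trans c)
  refine Red.le_YY_of (R := H ⊓ D) ⟨le_inf (y.trans (o.trans c)) (r.le.trans le_sup_left), inf_le_right.trans n.ge, r.ea,
    rd_of (inf_le_right.trans n.ge) fun N h3 h4 h5 => ?_⟩ hH t (le_inf t.le (h2.trans (no.trans n.le))) inf_le_left
  have d := h3.trans inf_le_right
  have pg := (pg_im_iff (f := f) d).2 (kf ▸ h5)
  have nn : Fst ⊤ ≤ nrm (im f N) := by
    have := im_le_nrm f ((le_inf hFH (hF'.le.trans (pre_le f _))).trans h4)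
    rwa [hF', im_pre, im_mk'_dom, inf_top_eq] at this
  rw [← kf, ← im_eq_bot_iff d]
  refine eq_bot_of_cen_Fst o0 pg le_top (le_cen_of_inf_eq_bot (le_top.trans (le_nrm_Fst ⊤)) nn (eq_bot_iff.2 ?_))
  exact (Op_eq_bot_of_sn o0 (sn_Fst ⊤)).symm ▸ le_Op inf_le_right (nrm_inf nn (le_nrm_self _)) (pg.to_le inf_le_left)

end Cfsg.Agent.S2851
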