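import Cfsg.Statements.S2852
import Cfsg.Agent.H1.LS5

set_option autoImplicit false
open Cfsg

namespace Cfsg.Agent.S2852

open H7 H1B Subgroup

/-- Standing hypotheses: G a finite group, S a Sylow p-subgroup, Q a nontrivial large p-subgroup of G contained in S, M a subgroup containing S with the basic property (M ∈ 𝔐_G(S)); Y_M the largest p-reduced normal subgroup of M. If Y_M is char-p-tall and asymmetric in G, then some subgroup H of G lies in ℌ_G(O_p(M)): H has characteristic p, O_p(M) ≤ H, Y_M ≰ O_p(H), and Y_M ≤ O_p(P) for every proper subgroup P of H containing O_p(M). -/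
theorem result {G : Type*} [Group G] [Finite G] {p : ℕ} [Fact p.Prime] (S : Sylow p G) (Q : Subgroup G) (hQp : IsPGroup p ↥Q) (hQ1 : Q ≠ ⊥) (hQS : Q ≤ (S : Subgroup G)) (hQ : Cfsg.IsLarge Q) (M : Subgroup G) (hSM : (S : Subgroup G) ≤ M) (hM : Cfsg.IsInFrakM p M) (htall : Cfsg.IsCharPTall p (Cfsg.largestPReducedOf p M)) (hasym : ¬ Cfsg.IsSymmetricIn (Cfsg.largestPReducedOf p M)) : ∃ H : Subgroup G, Cfsg.IsInFrakH p M H := by
  have h := frM_of S hQp hQ1 hQ hSM hM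
  obtain ⟨T, L, h1, h2, h3⟩ := htall
  rw [pCore_map] at h3
  rw [chp_iff] at h2
  have t := syl_sub T
  rw [YY_eq] at h3 hasym
  simp only [YY_eq] at t h1
  obtain ⟨c, hc, e⟩ := t.exists_cj_eq h.syl_cen
  obtain ⟨H, k⟩ := exists_minimal_of_wellFoundedLT (fun P => Op p M ≤ P ∧ P ≤ cj c L ∧ ¬ YY p M ≤ Op p P)
    ⟨cj c L, e ▸ H7.cj_mono c h1, le_rfl, fun a => h3 (by
      rwa [← cj_Opi, le_cj_iff, cj_of_mem_nrm (inv_mem (cen_le_nrm _ hc))] at a)⟩
  exact ⟨H, frH_iff.2 ⟨(h.wc (asym_of hasym)).chp h.cen_le k.1.1 k.1.2.1 (h2.cj c), k.1.1, k.1.2.2, fun P a b =>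
    by_contra fun d => b.not_ge (k.2 ⟨a, b.le.trans k.1.2.1, d⟩ b.le)⟩⟩

end Cfsg.Agent.S2852
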