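import Cfsg.Statements.S2854
import Cfsg.Agent.H1.LS5

set_option autoImplicit false
open Cfsg

namespace Cfsg.Agent.S2854

open H7 H1B Subgroup

/-- Standing hypotheses: G a finite group, S a Sylow p-subgroup, Q a nontrivial large p-subgroup of G contained in S, M a subgroup containing S with the basic property (M ∈ 𝔐_G(S)); Y_M the largest p-reduced normal subgroup of M and M† = M·C_G(Y_M). Suppose Y_M is asymmetric in G, H ∈ ℌ_G(O_p(M)), and H ≤ N_G(gQg⁻¹) for some g ∈ G. Then gQg⁻¹ ≤ O_p(H·gQg⁻¹) ≤ N_G(O_p(M)) ≤ N_G(Y_M) = M†; H is normal in H·gQg⁻¹ with O^p(H) = O^p(H·gQg⁻¹); and H·gQg⁻¹ is p-irreducible. -/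
theorem result {G : Type*} [Group G] [Finite G] {p : ℕ} [Fact p.Prime] (S : Sylow p G) (Q : Subgroup G) (hQp : IsPGroup p ↥Q) (hQ1 : Q ≠ ⊥) (hQS : Q ≤ (S : Subgroup G)) (hQ : Cfsg.IsLarge Q) (M : Subgroup G) (hSM : (S : Subgroup G) ≤ M) (hM : Cfsg.IsInFrakM p M) (hasym : ¬ Cfsg.IsSymmetricIn (Cfsg.largestPReducedOf p M)) (H : Subgroup G) (hH : Cfsg.IsInFrakH p M H) (g : G) (hHQ : H ≤ Subgroup.normalizer ((((Q : Subgroup G).map (MulAut.conj (g : G)).toMonoidHom) : Subgroup G) : Set G)) : ((Q : Subgroup G).map (MulAut.conj (g : G)).toMonoidHom) ≤ Cfsg.pCoreOf p (H ⊔ ((Q : Subgroup G).map (MulAut.conj (g : G)).toMonoidHom)) ∧ Cfsg.pCoreOf p (H ⊔ ((Q : Subgroup G).map (MulAut.conj (g : G)).toMonoidHom)) ≤ Subgroup.normalizer (((Cfsg.pCoreOf p M) : Subgroup G) : Set G) ∧ Subgroup.normalizer (((Cfsg.pCoreOf p M) : Subgroup G) : Set G) ≤ Subgroup.normalizer (((Cfsg.largestPReducedOf p M) : Subgroup G)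 : Set G) ∧ Subgroup.normalizer (((Cfsg.largestPReducedOf p M) : Subgroup G) : Set G) = (M ⊔ Subgroup.centralizer (((Cfsg.largestPReducedOf p M) : Subgroup G) : Set G)) ∧ (H.subgroupOf (H ⊔ ((Q : Subgroup G).map (MulAut.conj (g : G)).toMonoidHom))).Normal ∧ (Cfsg.pResidual p ↥H).map H.subtype = (Cfsg.pResidual p ↥(H ⊔ ((Q : Subgroup G).map (MulAut.conj (g : G)).toMonoidHom))).map (H ⊔ ((Q : Subgroup G).map (MulAut.conj (g : G)).toMonoidHom)).subtype ∧ Cfsg.IsPIrreducible p ↥(H ⊔ ((Q : Subgroup G).map (MulAut.conj (g : G)).toMonoidHom)) := by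
  have h := frM_of S hQp hQ1 hQ hSM hM
  have k := frH_iff.1 hH
  have ha := asym_of (YY_eq (p := p) (L := M) ▸ hasym)
  rw [← cj_def] at *
  have pg : IsPGroup p (cj g Q) := isPGroup_cj.2 hQp
  have n : H ⊔ cj g Q ≤ nrm (cj g Q) := sup_le hHQ (le_nrm_self _)
  have o := h.le_nrmO ha (isPGroup_Op p (H ⊔ cj g Q)) (k.le.trans (le_sup_left.trans (le_nrm_Opi _ _)))
  have l := le_Op le_sup_right n pg
  have m : cj g Q ≤ nrm H := k.ncl_O ▸ nrm_ncl_of hHQ (l.trans o)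
  rw [YY_eq, pCoreOf_eq, pCoreOf_eq, H2.map_pResidual_subtype, H2.map_pResidual_subtype, pirr_iff]
  refine ⟨l, o, h.nrmO, h.nrmY, normal_subgroupOf (sup_le (le_nrm_self H) m), (pRes_sup_pg pg m).symm, ?_⟩
  rw [← pirr_im_iff (f := qm (cj g Q)) n (pg.to_le (inf_le_right.trans (kr_qm _).le))]
  have := im_sup_kr (f := qm (cj g Q)) hHQ
  rw [kr_qm] at this
  rw [this, pirr_im_iff hHQ (pg.to_le (inf_le_right.trans (kr_qm _).le))]
  exact k.pirr

end Cfsg.Agent.S2854
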