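import Cfsg.Statements.S2855
import Cfsg.Agent.H1.Xt

set_option autoImplicit false
open Cfsg

namespace Cfsg.Agent.S2855

open H7 H1B Subgroup
open scoped commutatorElement
section
variable {G : Type*} [Group G] [Finite G] {p : ℕ} [Fact p.Prime] {E K M T X : Subgroup G} {𝒦 : Set (Subgroup G)}
theorem nrm_max {x : G} (h : MinO (T ⊓ E) E M) (hT : T ≤ X) (hE : ¬ E ≤ X) (h1 : x ∈ X) (h2 : x ∈ nrm E) : x ∈ nrm M := by
  have a : cj x (T ⊓ E) ≤ E ⊓ X := le_inf (cj_le_of_mem_nrm h2 inf_le_right) (cj_le_of_mem h1 (inf_le_left.trans hT))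
  have b := a.trans ((h.le_or (inf_le_left.trans hT)).resolve_left hE)
  refine inv_mem_iff.1 (mem_nrm_of_cj_le (h.max _ (H7.cj_le_iff.1 b) (lt_of_le_of_ne (cj_le_of_mem_nrm (inv_mem h2) h.lt.le) fun e => ?_)))
  rw [H7.cj_eq_iff, cj_of_mem_nrm (inv_mem (inv_mem h2))] at e
  exact h.lt.ne e
theorem core1 (hne : 𝒦.Nonempty) (hinv : ∀ h, ∀ E ∈ 𝒦, cj h E ∈ 𝒦) (htr : ∀ E ∈ 𝒦, ∀ K ∈ 𝒦, ∃ h, K = cj h E)
    (hres : pRes p ⊤ ≤ sSup 𝒦) (hn : ∀ E ∈ 𝒦, sSup 𝒦 ≤ nrm E) (h : ∀ E ∈ 𝒦, IsPMinimal p E) (hT : IsSylowIn p T ⊤) :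
    ∃ M, MinO T ⊤ M := by
  set R := sSup 𝒦 with hR
  have nR : ⊤ ≤ nrm R := nrm_sSup fun a _ K hK => hinv a K hK
  have e : T ⊔ R = ⊤ := eq_top_iff.2 (syl_le_of_pRes hT (hres.trans le_sup_right) le_sup_left)
  have s : ∀ E ∈ 𝒦, ∃ M, MinO (T ⊓ E) E M := fun E hE =>
    (pmin_iff (syl_sn hT ((SN.of_normal (le_sSup hE) (hn E hE)).trans (SN.of_normal le_top nR)))).1 (h E hE)
  obtain ⟨E, hE⟩ := hne
  obtain ⟨M, hM⟩ := s E hE
  have c : ∀ t : T, MinO (T ⊓ cj (t : G) E) (cj (t : G) E) (cj (t : G) M) := fun t => by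
    have := hM.cj t
    rwa [H7.cj_inf, cj_of_mem t.2] at this
  let D : Subgroup G := ⨅ t : T, nrm (cj (t : G) M)
  have nD : T ≤ nrm D := le_nrm_of_cj_le fun a ha => le_iInf fun t => by
    rw [H7.cj_le_iff, cj_nrm, ← H7.cj_mul]
    exact iInf_le (fun t : T => nrm (cj (t : G) M)) ⟨_, mul_mem (inv_mem ha) t.2⟩
  have k : ∀ X, T ≤ X → X < ⊤ → X ⊓ R ≤ D := fun X a b => le_iInf fun t x hx =>
    nrm_max (c t) a (fun l => b.not_ge (e.ge.trans (sup_le a (sSup_le fun K hK => by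
      obtain ⟨g, rfl⟩ := htr _ (hinv t E hE) K hK
      obtain ⟨u, hu, r, hr, rfl⟩ := (mem_sup_nrm (le_top.trans nR)).1 (e.ge (mem_top g))
      rw [H7.cj_mul, cj_of_mem_nrm (hn _ (hinv t E hE) hr)]
      exact cj_le_of_mem (a hu) l)))) hx.1 (hn _ (hinv t E hE) hx.2)
  have nD' : T ≤ nrm (D ⊓ R) := nrm_inf nD (le_top.trans nR)
  refine ⟨T ⊔ D ⊓ R, eq_top_iff.2 (e.ge.trans (sup_le H1.le_ncl (sSup_le fun K hK => ?_))), le_sup_left,
    lt_top_iff_ne_top.2 fun e2 => ?_, fun X a b => ?_⟩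
  · obtain ⟨N, hN⟩ := s K hK
    exact hN.gen.ge.trans (H1.ncl_mono inf_le_left le_top)
  · have := (prm_of_nrm nD').modular' (inf_le_right : D ⊓ R ≤ R)
    rw [e2, top_inf_eq] at this
    have l : R ≤ D := this.le.trans (sup_le (k T le_rfl (lt_top_iff_ne_top.2 fun e3 => hM.lt.not_ge (by
      have := hM.le; rwa [e3, top_inf_eq] at this))) inf_le_left)
    have l2 := ((le_sSup hE).trans l).trans (iInf_le (fun t : T => nrm (cj (t : G) M)) 1)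
    rw [OneMemClass.coe_one, H2.cj_one] at l2
    exact hM.not_le l2 hM.le le_rfl
  · have := modular (le_top.trans nR : T ≤ _) a
    rw [e, top_inf_eq, inf_comm] at this
    exact this.le.trans (sup_le_sup_left (le_inf (k X a b) inf_le_right) _)
theorem lemA (hO : Op p K = ⊥) (hn : E ≤ nrm K) (h : PIrr p E) (hc : ⁅K, E⁆ ≤ cen E) : E ≤ cen K := by
  obtain ⟨S, hS⟩ := H2.exists_isSylowIn (p := p) E
  exact (h.ncl_syl hS).ge.trans (H1.ncl_le (le_cen_symm (cen_of_quad hO hS.2 (hS.1.trans hn)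
    ((commutator_mono le_rfl hS.1).trans (hc.trans (cen_anti hS.1))))) (nrm_cen hn))
theorem core2 (hO : Op p (⊤ : Subgroup G) = ⊥) (hne : 𝒦.Nonempty) (hinv : ∀ h, ∀ E ∈ 𝒦, cj h E ∈ 𝒦)
    (htr : ∀ E ∈ 𝒦, ∀ K ∈ 𝒦, ∃ h, K = cj h E) (hres : pRes p ⊤ ≤ sSup 𝒦) (hn : ∀ E ∈ 𝒦, sSup 𝒦 ≤ nrm E)
    (h : ∀ E ∈ 𝒦, SPIrr p E) : PIrr p (⊤ : Subgroup G) ∧ ∀ E ∈ 𝒦, ∀ K ∈ 𝒦, pRes p E = pRes p K ∨ ⁅E, K⁆ = ⊥ := by
  set R := sSup 𝒦 with hR
  have nR : ⊤ ≤ nrm R := nrm_sSup fun a _ K hK => hinv a K hK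
  have o : ∀ E ∈ 𝒦, Op p E = ⊥ := fun E hE =>
    Op_eq_bot_of_sn hO ((SN.of_normal (le_sSup hE) (hn E hE)).trans (SN.of_normal le_top nR))
  have k : ∀ E ∈ 𝒦, ∀ N, E ≤ nrm N → pRes p E ≤ N ∨ N ⊓ E ≤ cen E := fun E hE N a => or_iff_not_imp_right.2 fun b =>
    ((h E hE).2 _ inf_le_right (nrm_inf a (le_nrm_self _)) fun c => b (comm_eq_bot.1 (eq_bot_iff.2 (c.trans (o E hE).le)))).trans inf_le_left
  refine ⟨⟨fun c => ?_, fun N _ n c => ?_⟩, fun E hE K hK => ?_⟩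
  · obtain ⟨E, hE⟩ := hne
    exact (h E hE).1 (c.of_le le_top)
  · by_cases d : ∃ E ∈ 𝒦, pRes p E ≤ N
    · obtain ⟨E, hE, d⟩ := d
      have nn : ∀ X : Subgroup G, X ≤ nrm N := fun X => le_top.trans n
      rw [← pRes_of_le hres le_top, ← kr_qm N, ← pg_im_iff (nn _)]
      refine (isPGroup_Op p (im (qm N) R)).to_le ?_
      rw [im_le_iff (nn _)]
      refine sSup_le fun K hK => (im_le_iff (nn _)).1 (le_Op (im_mono _ (le_sSup hK)) (im_le_nrm _ (hn K hK)) ?_)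
      obtain ⟨g, rfl⟩ := htr E hE K hK
      rw [pg_im_iff (nn _), kr_qm, ← H2.cj_pRes]
      exact cj_le_of_mem_nrm (nn ⊤ (mem_top g)) d
    · push Not at d
      have n0 := nrm_inf n nR
      have a : R ≤ cen (N ⊓ R) := sSup_le fun E hE => lemA (Op_eq_bot_of_sn hO (SN.of_normal le_top n0)) (le_top.trans n0) (h E hE).pirr
        (((comm_le_inf (inf_le_right.trans (hn E hE)) (le_top.trans n0)).trans (inf_le_inf_right _ inf_le_left)).trans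
          ((k E hE N (le_top.trans n)).resolve_left (d E hE)))
      have b : R ≤ cen N := sSup_le fun E hE => lemA (Op_eq_bot_of_sn hO (SN.of_normal le_top n)) (le_top.trans n) (h E hE).pirr
        ((((commutator_mono le_rfl (le_sSup hE)).trans (comm_le_inf (le_top.trans nR) (le_top.trans n))).trans (le_cen_symm a)).trans
          (cen_anti (le_sSup hE)))
      exact absurd (pcl_of_comm_le le_top n ((comm_eq_bot'.2 (hres.trans b)).le.trans bot_le)) c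
  · have nE := (le_sSup hK).trans (hn E hE)
    rcases k K hK E nE with a | a
    · obtain ⟨g, rfl⟩ := htr E hE K hK
      exact Or.inl (eq_of_le_of_card_ge (pRes_le_pRes a) (by rw [← H2.cj_pRes, H2.card_cj])).symm
    · exact Or.inr (comm_eq_bot'.2 (lemA (o E hE) nE (h K hK).pirr ((comm_le_inf ((le_sSup hE).trans (hn K hK)) nE).trans a)))
end

/-- Let H be a finite group, p a prime, and 𝒦 a nonempty set of subgroups of H permuted transitively by conjugation, with R the subgroup generated by the members of 𝒦. Suppose O^p(H) ≤ R, each E ∈ 𝒦 has E·O_p(H) normal in R·O_p(H), and each E ∈ 𝒦 is p-minimal (generated by the conjugates of a Sylow p-subgroup T_E of E, with T_E in exactly one maximal subgroup of E). Then H is p-minimal in the same sense. If instead each E ∈ 𝒦 is strongly p-irreducible, then H is p-irreducible and, for E, K ∈ 𝒦, either O^p(E·O_p(H)) = O^p(K·O_p(H))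 or [E, K] ≤ O_p(H). -/
theorem result {H : Type*} [Group H] [Finite H] {p : ℕ} [Fact p.Prime] (𝒦 : Set (Subgroup H)) (hne : 𝒦.Nonempty) (hinv : ∀ h : H, ∀ E ∈ 𝒦, E.map (MulAut.conj h).toMonoidHom ∈ 𝒦) (htr : ∀ E ∈ 𝒦, ∀ K ∈ 𝒦, ∃ h : H, K = E.map (MulAut.conj h).toMonoidHom) (hres : Cfsg.pResidual p H ≤ sSup 𝒦) (hnorm : ∀ E ∈ 𝒦, sSup 𝒦 ⊔ Cfsg.pCore p H ≤ Subgroup.normalizer ((E ⊔ Cfsg.pCore p H : Subgroup H) : Set H)) : ((∀ E ∈ 𝒦, ∀ T : Sylow p ↥E, Cfsg.IsMinimalOver (T : Subgroup ↥E)) → ∀ T : Sylow p H, Cfsg.IsMinimalOver (T : Subgroup H)) ∧ ((∀ E ∈ 𝒦, Cfsg.IsStronglyPIrreducible p ↥E) → Cfsg.IsPIrreducible p H ∧ ∀ E ∈ 𝒦, ∀ K ∈ 𝒦, (Cfsg.pResidual p ↥(E ⊔ Cfsg.pCore p H)).map (E ⊔ Cfsg.pCore p H).subtype = (Cfsg.pResidual p ↥(K ⊔ Cfsg.pCore p H)).map (K ⊔ Cfsg.pCore p H).subtype ∨ ⁅E, K⁆ ≤ Cfsg.pCore p H) := by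
  simp only [pCore_map, pCore_eq, ← H7.cj_def] at *
  set O := Op p (⊤ : Subgroup H) with hO
  have nO : ∀ X : Subgroup H, X ≤ nrm O := fun X => le_top.trans (le_nrm_Opi _ _)
  have pO := isPGroup_Op p (⊤ : Subgroup H)
  have kO : ∀ X : Subgroup H, IsPGroup p (X ⊓ kr (qm O) : Subgroup H) := fun X => pO.to_le (by rw [kr_qm]; exact inf_le_right)
  have t : im (qm O) ⊤ = ⊤ := eq_top_iff.2 ((im_qm_dom O).ge.trans (im_mono _ le_top))
  have sj : ∀ y : Quo O, ∃ x, ev (qm O) x = y := fun y => by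
    obtain ⟨x, -, -, e⟩ := mem_im.1 (t.ge (mem_top y)); exact ⟨x, e⟩
  have io : ∀ X : Subgroup H, im (qm O) (X ⊔ O) = im (qm O) X := fun X => by
    have := im_sup_kr (f := qm O) (nO X); rwa [kr_qm] at this
  have s : sSup (im (qm O) '' 𝒦) = im (qm O) (sSup 𝒦) := (im_sSup fun A _ => nO A).symm
  have h1 : ∀ h, ∀ E ∈ im (qm O) '' 𝒦, cj h E ∈ im (qm O) '' 𝒦 := by
    rintro h _ ⟨E, hE, rfl⟩
    obtain ⟨x, rfl⟩ := sj h
    exact ⟨_, hinv x E hE, im_cj (nO ⊤ (mem_top x)) E⟩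
  have h2 : ∀ E ∈ im (qm O) '' 𝒦, ∀ K ∈ im (qm O) '' 𝒦, ∃ h, K = cj h E := by
    rintro _ ⟨E, hE, rfl⟩ _ ⟨K, hK, rfl⟩
    obtain ⟨x, rfl⟩ := htr E hE K hK
    exact ⟨_, im_cj (nO ⊤ (mem_top x)) E⟩
  have h3 : pRes p ⊤ ≤ sSup (im (qm O) '' 𝒦) := by
    rw [s, ← t, ← im_pRes (nO _), H2.pRes_top]; exact im_mono _ hres
  have h4 : ∀ E ∈ im (qm O) '' 𝒦, sSup (im (qm O) '' 𝒦) ≤ nrm E := by
    rintro _ ⟨E, hE, rfl⟩
    rw [s, ← io E]
    exact im_le_nrm _ (le_sup_left.trans (hnorm E hE))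
  refine ⟨fun h T => ?_, fun h => ?_⟩
  · have sT := syl_im (syl_top T) (nO _) (qm O)
    rw [t] at sT
    obtain ⟨M, hM⟩ := core1 (hne.image _) h1 h2 h3 h4 (by
      rintro _ ⟨E, hE, rfl⟩
      obtain ⟨S, hS⟩ := H2.exists_isSylowIn (p := p) E
      obtain ⟨M, hM⟩ := (minO_iff hS.1).1 (h E hE hS.toSylow)
      refine (pmin_iff (syl_im hS (nO _) _)).2 ⟨_, hM.im (nO _) (le_trans ?_ hM.le)⟩
      rw [kr_qm, inf_comm]
      exact (inf_le_Opi _ le_top).trans (Op_le_of_sylow hS)) sT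
    rw [← t] at hM
    exact minO_top.2 ⟨_, hM.pre le_top (nO _) (by rw [kr_qm, top_inf_eq]; exact Op_le_of_sylow (syl_top T))⟩
  · obtain ⟨a, b⟩ := core2 (p := p) (by rw [← t]; exact Opi_im_qm _ _) (hne.image _) h1 h2 h3 h4 (by
      rintro _ ⟨E, hE, rfl⟩
      exact (spirr_im_iff (nO _) (kO _)).2 (spirr_iff.1 (h E hE)))
    rw [← t, pirr_im_iff (nO _) (kO _)] at a
    refine ⟨pirr_top.2 a, fun E hE K hK => (b _ ⟨E, hE, rfl⟩ _ ⟨K, hK, rfl⟩).imp (fun e => ?_) fun e => ?_⟩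
    · have q : ∀ E K : Subgroup H, pRes p (im (qm O) E) = pRes p (im (qm O) K) → pRes p (E ⊔ O) ≤ pRes p (K ⊔ O) := fun E K e =>
        pRes_le_pRes (by
          rw [← im_le_im_iff' (f := qm O) (nO _) (by rw [kr_qm]; exact le_sup_right), im_pRes (nO _), io, io, e]
          exact H2.pRes_le _)
      rw [H2.map_pResidual_subtype, H2.map_pResidual_subtype, pCore_eq]
      exact le_antisymm (q E K e) (q K E e.symm)
    · rwa [← im_commutator (nO _) (nO _), im_eq_bot_iff (nO _), kr_qm] at e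

end Cfsg.Agent.S2855
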