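import Cfsg.Statements.S2859
import Cfsg.Agent.H1.LS5

set_option autoImplicit false
open Cfsg

namespace Cfsg.Agent.S2859

open H7 H1B Subgroup
open scoped commutatorElement
theorem aux {G : Type*} [Group G] [Finite G] {p : ℕ} [Fact p.Prime] {Q Hc H₁ H₂ : Subgroup G} (w : WC p Q)
    (e : H1.ncl Q Hc = Hc) (l1 : H₁ ≤ Hc) (n1 : Hc ≤ nrm H₁) (l2 : H₂ ≤ Hc) (n2 : Hc ≤ nrm H₂) (hp : H₁ ⊔ H₂ = Hc)
    (hc : ⁅H₁, H₂⁆ ≤ nrm Q) {K : Subgroup G} (hK : K = pRes p (H1.ncl Q (H₁ ⊔ Q))) :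
    (⁅K, Q⁆ = K ∧ ⁅K, H₁⁆ = K ∧ K ≤ ⁅H₁, H₁⁆ ∧ Hc ≤ nrm K) ∧ ⁅K, H₂⁆ ≤ Op p Hc ∧ K ≤ H₁ ∧ K ≤ pRes p Hc ∧
      H₁ ≤ nrm (K ⊔ Q) := by
  have q : Q ≤ Hc := e ▸ H1.le_ncl
  have o := le_nrm_Opi {p} Hc
  have nD := nrm_commutator n1 n2
  have d1 : ⁅H₁, H₂⁆ ≤ H₁ := comm_le_left (l2.trans n1)
  have dO : ⁅⁅H₁, H₂⁆, Hc⁆ ≤ Op p Hc := by
    conv_lhs => rw [← e]
    exact comm_ncl_le' (q.trans o) ((comm_le_inf hc (q.trans nD)).trans ((le_Op inf_le_left (nrm_inf (le_nrm_self _) hc)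
      (w.pg.to_le inf_le_right)).trans (Opi_le_of_normal _ (d1.trans l1) nD))) o nD
  have wl : H1.ncl Q (H₁ ⊔ Q) ≤ H₁ ⊔ Q := H1.ncl_le_of_le le_sup_right le_rfl
  have k1 : K ≤ H₁ := hK ▸ (H2.pRes_mono wl).trans ((pRes_sup_pg w.pg (q.trans n1)).le.trans (H2.pRes_le _))
  have kq : ⁅K, Q⁆ = K := hK ▸ w.comm_pRes le_sup_right
  have kk : pRes p K = K := hK ▸ H2.pRes_pRes _
  have nK : H₁ ⊔ Q ≤ nrm K := hK ▸ le_nrm_pRes H1.le_nrm_ncl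
  have oK : Op p Hc ≤ nrm K := hK ▸ le_nrm_pRes (H1.nrm_ncl (w.le_nrm (isPGroup_Op p Hc) (q.trans o))
    (nrm_sup ((Opi_le _ _).trans n1) (w.le_nrm (isPGroup_Op p Hc) (q.trans o))))
  have nN : H₁ ≤ nrm ⁅K, H₁⁆ := nrm_comm_right _ _
  have qN : Q ≤ nrm ⁅K, H₁⁆ := nrm_commutator (le_sup_right.trans nK) (q.trans n1)
  have oN : Op p Hc ≤ nrm ⁅K, H₁⁆ := nrm_commutator oK ((Opi_le _ _).trans n1)
  have nX : Hc ≤ nrm (⁅K, H₁⁆ ⊔ ⁅H₁, H₂⁆) := hp.ge.trans (sup_le (nrm_sup nN (l1.trans nD)) (le_nrm_of_comm_le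
    ((commutator_mono (sup_le ((comm_le_left (le_sup_left.trans nK)).trans k1) d1) le_rfl).trans le_sup_right)))
  have a : K ≤ ⁅K, H₁⁆ ⊔ ⁅H₁, H₂⁆ := kq.ge.trans ((commutator_mono le_rfl (q.trans hp.ge)).trans (comm_sup_le' (l1.trans nX)
    (l2.trans nX) le_sup_left ((commutator_mono k1 le_rfl).trans le_sup_right)))
  have nY : H₁ ≤ nrm (Op p Hc ⊔ ⁅K, H₁⁆) := nrm_sup (l1.trans o) nN
  have b : K ≤ ⁅K, H₁⁆ := kk.ge.trans (pRes_le_of_le_sup (isPGroup_Op p Hc) oN (kq.ge.trans ((commutator_mono a le_rfl).trans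
    (comm_sup_le (le_sup_right.trans (le_nrm_self _)) (d1.trans nY) ((comm_le_left qN).trans le_sup_right)
      ((commutator_mono le_rfl q).trans (dO.trans le_sup_left))))))
  have c : K ≤ ⁅H₁, H₁⁆ := b.trans (commutator_mono k1 le_rfl)
  have d : ⁅K, H₂⁆ ≤ Op p Hc := (commutator_mono c le_rfl).trans (three_subgroups (l1.trans o) (l1.trans o) (l2.trans o)
    ((commutator_mono le_rfl l1).trans dO) ((commutator_mono (commutator_comm _ _).le l1).trans dO))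
  refine ⟨⟨kq, le_antisymm (comm_le_left (le_sup_left.trans nK)) b, c, hp.ge.trans (sup_le (le_sup_left.trans nK) ?_)⟩, d, k1,
    hK ▸ H2.pRes_mono (wl.trans (sup_le l1 q)), ?_⟩
  · rw [← kk, ← pRes_sup_pg (isPGroup_Op p Hc) oK]
    have m : K ⊔ Op p Hc ≤ nrm (K ⊔ Op p Hc) := le_nrm_self _
    exact le_nrm_pRes (le_nrm_of_comm_le (comm_sup_le (le_sup_left.trans m) (le_sup_right.trans m) (d.trans le_sup_right)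
      ((comm_le_left (l2.trans o)).trans le_sup_right)))
  · rw [hK, ← w.ncl_eq_sup le_sup_right]; exact le_sup_left.trans H1.le_nrm_ncl

/-- Let Q be a nontrivial p-subgroup of the finite group H that is a weakly closed subgroup, H° the weak closure of Q in H (generated by the conjugates of Q) and H_∘ = O^p(H°). Suppose H₁, H₂ are normal subgroups of H° with H° = H₁H₂ and [H₁, H₂] ≤ N_H(Q), and put Kᵢ = O^p of the weak closure of Q in HᵢQ. Then for i = 1, 2: Kᵢ = [Kᵢ, Q] = [Kᵢ, Hᵢ] ≤ Hᵢ′ and Kᵢ is normal in H°; H_∘ = K₁K₂; and [K₁, K₂] ≤ O_p(H°). -/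
theorem result {G : Type*} [Group G] [Finite G] {p : ℕ} [Fact p.Prime] (Q : Subgroup G) (hQp : IsPGroup p ↥Q) (hQ1 : Q ≠ ⊥) (hwc : Cfsg.IsWeaklyClosedSubgroup p Q) (Hc : Subgroup G) (hHc : Hc = Cfsg.weakClosure Q ⊤) (H₁ H₂ : Subgroup G) (hn₁ : H₁ ≤ Hc ∧ Hc ≤ Subgroup.normalizer ((H₁ : Subgroup G) : Set G)) (hn₂ : H₂ ≤ Hc ∧ Hc ≤ Subgroup.normalizer ((H₂ : Subgroup G) : Set G)) (hprod : H₁ ⊔ H₂ = Hc) (hcomm : ⁅H₁, H₂⁆ ≤ Subgroup.normalizer ((Q : Subgroup G) : Set G)) (K₁ K₂ : Subgroup G) (hK₁ : K₁ = ((Cfsg.pResidual p ↥(Cfsg.weakClosure Q (H₁ ⊔ Q))).map ((Cfsg.weakClosure Q (H₁ ⊔ Q))).subtype)) (hK₂ : K₂ = ((Cfsg.pResidual p ↥(Cfsg.weakClosure Q (H₂ ⊔ Q))).map ((Cfsg.weakClosure Q (H₂ ⊔ Q))).subtype)) : (⁅K₁, Q⁆ = K₁ ∧ ⁅K₁, H₁⁆ = K₁ ∧ K₁ ≤ ⁅H₁, H₁⁆ ∧ Hc ≤ Subgroup.normalizer ((K₁ : Subgroup G) : Set G)) ∧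 (⁅K₂, Q⁆ = K₂ ∧ ⁅K₂, H₂⁆ = K₂ ∧ K₂ ≤ ⁅H₂, H₂⁆ ∧ Hc ≤ Subgroup.normalizer ((K₂ : Subgroup G) : Set G)) ∧ K₁ ⊔ K₂ = ((Cfsg.pResidual p ↥Hc).map (Hc).subtype) ∧ ⁅K₁, K₂⁆ ≤ (Cfsg.pCoreOf p Hc) := by
  have w := wc_iff.1 hwc
  rw [w.wcl_eq le_top] at hHc
  rw [w.wcl_eq le_sup_right, H2.map_pResidual_subtype] at hK₁ hK₂
  have e : H1.ncl Q Hc = Hc := hHc ▸ w.ncl_ncl le_top
  obtain ⟨a1, a2, a3, a4, a5⟩ := aux w e hn₁.1 hn₁.2 hn₂.1 hn₂.2 hprod hcomm hK₁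
  obtain ⟨b1, b2, b3, b4, b5⟩ := aux w e hn₂.1 hn₂.2 hn₁.1 hn₁.2 ((sup_comm _ _).trans hprod) (commutator_comm H₁ H₂ ▸ hcomm) hK₂
  rw [H2.map_pResidual_subtype, pCoreOf_eq]
  have n := nrm_sup a1.2.2.2 b1.2.2.2
  refine ⟨a1, b1, le_antisymm (sup_le a4 b4) (pRes_le_of_le_sup hQp ((e ▸ H1.le_ncl).trans n) (e.ge.trans
    (H1.ncl_le le_sup_left (hprod.ge.trans (sup_le ?_ ?_))))), (commutator_mono le_rfl b3).trans a2⟩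
  · rw [← sup_assoc, sup_comm Q]; exact nrm_sup a5 (hn₁.1.trans b1.2.2.2)
  · rw [sup_comm K₁, ← sup_assoc, sup_comm Q]; exact nrm_sup b5 (hn₂.1.trans a1.2.2.2)

end Cfsg.Agent.S2859
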