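import Cfsg.Statements.S2860
import Cfsg.Agent.H1.LS5

set_option autoImplicit false
open Cfsg

namespace Cfsg.Agent.S2860

open H7 H1B Subgroup
open scoped commutatorElement

/-- Let Q be a nontrivial large p-subgroup of the finite group H, U a nontrivial elementary abelian p-subgroup of H, and Q ≤ E ≤ N_H(U) with Q not normal in E. Suppose O_p(E/C_E(U)) = 1 and O^p(E)·C_E(U)/C_E(U) is quasisimple. Let E° be the weak closure of Q in E (generated by the conjugates of Q inside E) and E_∘ = O^p(E°). Then O^p(E)·C_E(U) = E_∘·C_E(U); E_∘ is perfect and equals O^p(E_∘); E_∘/C_{E_∘}(U) and E_∘/O_p(E_∘) are quasisimple; and E_∘ = [E_∘, Y] for every p-subgroup Y of E not centralizing U. -/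
theorem result {G : Type*} [Group G] [Finite G] {p : ℕ} [Fact p.Prime] (Q : Subgroup G) (hQp : IsPGroup p ↥Q) (hQ1 : Q ≠ ⊥) (hQ : Cfsg.IsLarge Q) (U : Subgroup G) (hU : Cfsg.IsElementaryAbelian p U) (hU1 : U ≠ ⊥) (E : Subgroup G) (hQE : Q ≤ E) (hEU : E ≤ Subgroup.normalizer ((U : Subgroup G) : Set G)) (hQn : ¬ E ≤ Subgroup.normalizer ((Q : Subgroup G) : Set G)) [hn : ((Subgroup.centralizer ((U : Subgroup G) : Set G)).subgroupOf E).Normal] (hred : Cfsg.pCore p (↥E ⧸ (Subgroup.centralizer ((U : Subgroup G) : Set G)).subgroupOf E) = ⊥) (hqs : Cfsg.IsQuasisimple ↥(((Cfsg.pResidual p ↥E) ⊔ (Subgroup.centralizer ((U : Subgroup G) : Set G)).subgroupOf E).map (QuotientGroup.mk' ((Subgroup.centralizer ((U : Subgroup G) : Set G)).subgroupOf E)))) (Er : Subgroup G) (hEr : Er = ((Cfsg.pResidual p ↥(Cfsg.weakClosure Q E)).map ((Cfsg.weakClosure Q E)).subtype)) [hn2 : ((Subgroup.centralizer ((U : Subgroup G) : Set G)).subgroupOf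 Er).Normal] : ((Cfsg.pResidual p ↥E).map (E).subtype) ⊔ (E ⊓ Subgroup.centralizer ((U : Subgroup G) : Set G)) = Er ⊔ (E ⊓ Subgroup.centralizer ((U : Subgroup G) : Set G)) ∧ ⁅Er, Er⁆ = Er ∧ ((Cfsg.pResidual p ↥Er).map (Er).subtype) = Er ∧ Cfsg.IsQuasisimple (↥Er ⧸ (Subgroup.centralizer ((U : Subgroup G) : Set G)).subgroupOf Er) ∧ Cfsg.IsQuasisimple (↥Er ⧸ Cfsg.pCore p ↥Er) ∧ ∀ Y : Subgroup G, Y ≤ E → IsPGroup p ↥Y → ¬ Y ≤ Subgroup.centralizer ((U : Subgroup G) : Set G) → ⁅Er, Y⁆ = Er := by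
  have h := lg_of hQp hQ1 hQ
  rw [h.wc.wcl_eq hQE, H2.map_pResidual_subtype] at hEr
  rw [H2.map_pResidual_subtype, H2.map_pResidual_subtype]
  obtain ⟨c1, c2⟩ := h.ncl_cen hQE (EA.isPGroup hU) hU1 hEU
  set W := H1.ncl Q E
  set f := QuotientGroup.mk' ((cen U).subgroupOf E)
  have kf : kr f = E ⊓ cen U := (kr_mk'_subgroupOf _ _).trans (inf_comm _ _)
  have fd : im f E = ⊤ := im_mk'_dom _
  have wE : W ≤ E := H1.ncl_le_of_le hQE le_rfl
  have rW : Er ≤ W := hEr ▸ H2.pRes_le _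
  have rE := rW.trans wE
  have o0 : Op p (⊤ : Subgroup (E ⧸ (cen U).subgroupOf E)) = ⊥ := (pCore_eq p).symm.trans hred
  have e0 : (pResidual p E ⊔ (cen U).subgroupOf E).map f = pRes p ⊤ := by
    rw [Subgroup.map_sup, (Subgroup.map_eq_bot_iff _).2 (QuotientGroup.ker_mk' _).ge, sup_bot_eq, ← im_map_subtype,
      H2.map_pResidual_subtype, im_pRes le_rfl, fd]
  have qs : QS (pRes p ⊤) := e0 ▸ qs_iff.1 hqs
  have cm : ∀ Y ≤ E, IsPGroup p Y → ¬ Y ≤ cen U → ⁅pRes p ⊤, im f Y⁆ = pRes p ⊤ := fun Y h1 h2 h3 =>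
    qs_res_comm o0 qs (isPGroup_im f h2) le_top fun e => h3 (((im_eq_bot_iff h1).1 e).trans (kf.le.trans inf_le_right))
  have e1 : im f Er = pRes p ⊤ := by
    rw [hEr, im_pRes wE]
    refine pRes_of_le ?_ le_top
    rw [im_ncl hQE le_rfl, fd, ← cm Q hQE hQp fun c => hQn (hEU.trans (h.nrm_le U (le_cen_symm c) hU1))]
    exact (commutator_mono le_top le_rfl).trans (comm_le_ncl' _ _)
  have rr : pRes p Er = Er := hEr ▸ H2.pRes_pRes _
  have nW : W ≤ nrm Er := hEr ▸ nrm_pRes' p W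
  have oo : ⁅Er ⊓ kr f, W⁆ ≤ Op p Er := (le_inf ((commutator_comm _ _).le.trans ((commutator_mono le_rfl (inf_le_right.trans
    (kf.le.trans inf_le_right))).trans c2)) ((commutator_mono inf_le_left le_rfl).trans (comm_le_left nW))).trans
      (inf_le_Opi _ rW)
  have key : ∀ N X, N ≤ Er → Er ≤ nrm N → X ≤ W → X ≤ nrm N → ⁅Er, X⁆ = Er → im f Er ≤ im f N → Er ≤ N :=
    fun N X h1 h2 h3 h4 h5 h6 => by
      have m := nrm_sup (le_nrm_Opi {p} Er) h2
      have : Er ≤ N ⊔ Er ⊓ kr f := by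
        rw [inf_comm, ← modular ((h1.trans rE).trans (le_nrm_kr f)) h1]
        exact le_inf ((im_le_im_iff rE (h1.trans rE)).1 h6) le_rfl
      exact rr.ge.trans (pRes_le_of_le_sup (isPGroup_Op p Er) ((Opi_le _ _).trans h2) (h5.ge.trans ((commutator_mono this
        le_rfl).trans (comm_sup_le (h1.trans m) (inf_le_left.trans m) ((comm_le_left h4).trans le_sup_right)
          ((commutator_mono le_rfl h3).trans (oo.trans le_sup_left))))))
  have pf : ⁅Er, Er⁆ = Er := le_antisymm (comm_le_of_le le_rfl le_rfl) (key _ Q (comm_le_of_le le_rfl le_rfl) (nrm_comm_left _ _)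
    H1.le_ncl (H1.le_ncl.trans (nrm_commutator nW nW)) (hEr ▸ h.wc.comm_pRes hQE) (by rw [im_commutator rE rE, e1, qs.perfect]))
  refine ⟨?_, pf, rr, isQuasisimple_of_equiv (quotIm f rE _ (by rw [kf]; ext x; exact ⟨fun h => ⟨rE x.2, h⟩, fun h => h.2⟩)).symm (qs_iff.2 (e1 ▸ qs)), ?_,
    fun Y h1 h2 h3 => ?_⟩
  · rw [← kf, ← pre_im rE, ← pre_im (H2.pRes_le E), e1, im_pRes le_rfl, fd]
  · have kg : kr (QuotientGroup.mk' (pCore p Er)) = Op p Er := (kr_mk' _).trans (pCore_map _ _)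
    have := qs_im_of_im (g := QuotientGroup.mk' (pCore p Er)) rE le_rfl pf (e1 ▸ qs) (kg ▸ (commutator_mono le_rfl rW).trans oo)
      fun e => qs.not_solv (e1 ▸ solv_im f (solv_of_isPGroup ((isPGroup_Op p Er).to_le (kg ▸ (im_eq_bot_iff le_rfl).1 e))))
    rwa [im_mk'_dom, qs_top_iff] at this
  · have n := comm_le_left (h1.trans (hEr ▸ le_nrm_pRes H1.le_nrm_ncl : E ≤ nrm Er))
    exact le_antisymm n (key _ Er n (nrm_comm_left _ _) rW (nrm_comm_left _ _) pf (by rw [im_commutator rE h1, e1, cm Y h1 h2 h3]))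

end Cfsg.Agent.S2860
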