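import Cfsg.Statements.S2862
import Cfsg.Agent.H1.LS6
import Cfsg.Agent.H1.BG4

set_option autoImplicit false
open Cfsg

namespace Cfsg.Agent.S2862

open H7 H1B Subgroup
open scoped commutatorElement

/-- Standing hypotheses: G a finite group, S a Sylow p-subgroup, Q a nontrivial large p-subgroup of G contained in S, M a subgroup containing S with the basic property (M ∈ 𝔐_G(S)); Y_M the largest p-reduced normal subgroup of M and M† = M·C_G(Y_M). Suppose Y_M is char-p-tall and asymmetric in G, H ∈ ℌ_G(O_p(M)), and L is minimal among the subgroups of H containing Y_M with Y_M ≰ O_p(L). Then H = ⟨L, O_p(M)⟩ = ⟨hY_Mh⁻¹, O_p(M)⟩ for every h ∈ L outside N_L(Y_M); L is Y_M-minimal and of characteristic p, with N_L(Y_M) the unique maximal subgroup of L containing Y_M; [V, O^p(L)] ≠ 1 for every noncentral chief factor V/W of H inside O_p(H) (that is, O^p(L) does not act trivially on V/W); and the normal closure of O_p(L)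 ∩ Y_M in L lies in O_p(H). -/
theorem result {G : Type*} [Group G] [Finite G] {p : ℕ} [Fact p.Prime] (S : Sylow p G) (Q : Subgroup G) (hQp : IsPGroup p ↥Q) (hQ1 : Q ≠ ⊥) (hQS : Q ≤ (S : Subgroup G)) (hQ : Cfsg.IsLarge Q) (M : Subgroup G) (hSM : (S : Subgroup G) ≤ M) (hM : Cfsg.IsInFrakM p M) (htall : Cfsg.IsCharPTall p (Cfsg.largestPReducedOf p M)) (hasym : ¬ Cfsg.IsSymmetricIn (Cfsg.largestPReducedOf p M)) (H : Subgroup G) (hH : Cfsg.IsInFrakH p M H) (L : Subgroup G) (hLH : L ≤ H) (hYL : (Cfsg.largestPReducedOf p M) ≤ L) (hYO : ¬ (Cfsg.largestPReducedOf p M) ≤ (Cfsg.pCoreOf p L)) (hmin : ∀ L' : Subgroup G, L' ≤ L → (Cfsg.largestPReducedOf p M) ≤ L' → ¬ (Cfsg.largestPReducedOf p M) ≤ (Cfsg.pCoreOf p L') → L' = L) : (L ⊔ (Cfsg.pCoreOf p M) = H ∧ ∀ h ∈ L, h ∉ Subgroup.normalizer (((Cfsg.largestPReducedOf p M) : Subgroup G) : Set G) → (((Cfsg.largestPReducedOf p M) : Subgroup G).map (MulAut.conj (h : G)).toMonoidHom)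 ⊔ (Cfsg.pCoreOf p M) = H) ∧ (Cfsg.IsMinimalOver (((Cfsg.largestPReducedOf p M)).subgroupOf L) ∧ Subgroup.centralizer (Cfsg.pCore p ↥L : Set ↥L) ≤ Cfsg.pCore p ↥L ∧ L ⊓ Subgroup.normalizer (((Cfsg.largestPReducedOf p M) : Subgroup G) : Set G) < L ∧ ∀ X : Subgroup G, (Cfsg.largestPReducedOf p M) ≤ X → X < L → X ≤ L ⊓ Subgroup.normalizer (((Cfsg.largestPReducedOf p M) : Subgroup G) : Set G)) ∧ (∀ V W' : Subgroup G, V ≤ (Cfsg.pCoreOf p H) → H ≤ Subgroup.normalizer ((V : Subgroup G) : Set G) → H ≤ Subgroup.normalizer ((W' : Subgroup G) : Set G) → W' < V → (∀ Z' : Subgroup G, H ≤ Subgroup.normalizer ((Z' : Subgroup G) : Set G) → W' ≤ Z' → Z' ≤ V → Z' = W' ∨ Z' = V) → ¬ ⁅V, H⁆ ≤ W' → ¬ ⁅V, ((Cfsg.pResidual p ↥L).map (L).subtype)⁆ ≤ W') ∧ (Subgroup.normalClosure (((((Cfsg.pCoreOf p L) ⊓ (Cfsg.largestPReducedOf p M)).subgroupOf L : Subgroup ↥L)) : Set ↥L)).map L.subtype ≤ (Cfsg.pCoreOf p H) := by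
  simp only [YY_eq, pCoreOf_eq, H2.map_pResidual_subtype, ← H7.cj_def] at *
  have m := frM_of S hQp hQ1 hQ hSM hM
  have h := frH_iff.1 hH
  have ha := asym_of hasym
  have eY := ea_YY p M
  obtain ⟨N, k⟩ := minO_of_Op eY.isPGroup hYL hYO fun X a b => by_contra fun c => b.ne (hmin X b.le a c)
  obtain ⟨a, b, c⟩ := h.min_main m ha hLH k hYO (by_contra fun c => k.lt.ne (hmin N k.lt.le k.le c))
  have e : L ⊓ nrm (YY p M) = N := le_antisymm (k.nrm_le le_rfl k.le) (le_inf k.lt.le a)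
  have e0 := h.sup_O hYL hLH hYO
  have nB : H ≤ nrm (Op p H) := le_nrm_Opi _ H
  refine ⟨⟨e0, fun g gL gN => ?_⟩, ⟨(minO_iff hYL).2 ⟨N, k⟩, chp_iff.2 (h.chp.of_nrm b hLH), e ▸ k.lt, e ▸ k.max⟩,
    fun V W v1 v2 w1 w2 w3 w4 w5 => w4 ?_, ?_⟩
  · refine le_antisymm (sup_le (cj_le_of_mem (hLH gL) h.Y_le) h.le) (e0.ge.trans (sup_le ?_ le_sup_right))
    exact (k.sup_cj gL fun d => gN (a d)).ge.trans (sup_le (m.Y_le.trans le_sup_right) le_sup_left)
  · have vH := v1.trans (Opi_le _ _)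
    have bY := (m.le_nrmO ha (isPGroup_Op p H) (h.le.trans nB)).trans m.nrmO
    have u : ⁅V, YY p M⁆ ≤ YY p M := comm_le_right (v1.trans bY)
    have eL : L ≤ pRes p L ⊔ YY p M := (k.le_or le_sup_right).resolve_right fun d => by
      obtain ⟨X, x1, x2, x3⟩ := k.exists_normal (sn_of_pRes_le ((le_inf (H2.pRes_le L) le_sup_left).trans d) k.lt.le) le_rfl
      exact k.not_le x3 (k.le.trans x1) x2
    have xV : ⁅V, YY p M⁆ ⊔ W ≤ V := sup_le (comm_le_left (h.Y_le.trans v2)) w2.le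
    have n : H ≤ nrm (⁅V, YY p M⁆ ⊔ W) := e0.ge.trans (sup_le (eL.trans (sup_le (le_nrm_of_comm_le' xV (w5.trans le_sup_right))
      (le_nrm_of_comm_le' xV le_sup_left))) (nrm_sup ((m.O_le.trans (cen_anti u)).trans (cen_le_nrm _)) (h.le.trans w1)))
    have z : ⁅V, YY p M⁆ ≤ W := by
      rcases w3 _ n le_sup_right xV with d | d
      · exact le_sup_left.trans d.le
      · refine (commutator_mono d.ge le_rfl).trans (comm_sup_le ((u.trans h.Y_le).trans w1) (le_nrm_self _) ?_ (comm_le_left (h.Y_le.trans w1)))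
        exact (comm_eq_bot.2 (u.trans eY.le_cen)).le.trans bot_le
    refine comm_le_of_chief (p := p) w2.le v2 w1 (vH.trans w1) ((piN_relIndex_iff (vH.trans w1)).2 ?_) (fun X x1 x2 x3 => w3 X x3 x1 x2)
      le_rfl (le_nrm_self _) ((commutator_mono le_rfl h.pRes_le).trans (comm_ncl_le' (h.Y_le.trans w1) z w1 v2))
    rw [pRes_pg ((isPGroup_Op p H).to_le v1)]; exact bot_le
  · haveI := normal_subgroupOf (hLH.trans nB)
    rw [map_le_iff_le_comap]
    exact normalClosure_le_normal (N := (Op p H).subgroupOf L) (comap_mono c)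

end Cfsg.Agent.S2862
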