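import Cfsg.Statements.S2864
import Cfsg.Agent.H1.LS5

set_option autoImplicit false
open Cfsg

namespace Cfsg.Agent.S2864

open H7 H1B Subgroup
open scoped commutatorElement

/-- Standing hypotheses: G a finite group, S a Sylow p-subgroup, Q a nontrivial large p-subgroup of G contained in S, M a subgroup containing S with the basic property (M ∈ 𝔐_G(S)); Y_M the largest p-reduced normal subgroup of M and M† = M·C_G(Y_M). Let I be a nontrivial normal p-subgroup of M and Y ≤ O_p(M†); let L be a subgroup of G containing Y and A a normal p-subgroup of L with I ≤ A ≤ M. If [Y, A] ≤ [I, A], then Y ≤ O_p(L). -/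
theorem result {G : Type*} [Group G] [Finite G] {p : ℕ} [Fact p.Prime] (S : Sylow p G) (Q : Subgroup G) (hQp : IsPGroup p ↥Q) (hQ1 : Q ≠ ⊥) (hQS : Q ≤ (S : Subgroup G)) (hQ : Cfsg.IsLarge Q) (M : Subgroup G) (hSM : (S : Subgroup G) ≤ M) (hM : Cfsg.IsInFrakM p M) (I : Subgroup G) (hI1 : I ≠ ⊥) (hIp : IsPGroup p ↥I) (hIM : I ≤ M ∧ M ≤ Subgroup.normalizer ((I : Subgroup G) : Set G)) (Y : Subgroup G) (hY : Y ≤ (Cfsg.pCoreOf p (M ⊔ Subgroup.centralizer (((Cfsg.largestPReducedOf p M) : Subgroup G) : Set G)))) (L : Subgroup G) (hYL : Y ≤ L) (A : Subgroup G) (hAp : IsPGroup p ↥A) (hAL : A ≤ L ∧ L ≤ Subgroup.normalizer ((A : Subgroup G) : Set G)) (hIA : I ≤ A) (hAM : A ≤ M) (hc : ⁅Y, A⁆ ≤ ⁅I, A⁆) : Y ≤ (Cfsg.pCoreOf p L) := by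
  have h := frM_of S hQp hQ1 hQ hSM hM
  rw [pCoreOf_eq] at *
  rw [YY_eq] at hY
  have l := H1.ncl_le_of_le hYL le_rfl
  have n := nrm_commutator hAL.2 hAL.2
  have c : pRes p (H1.ncl Y L) ≤ M ⊔ cen (YY p M) := (pRes_le_cen_of_Phi hAp (l.trans hAL.2) ((comm_ncl_le' (hYL.trans n)
    ((commutator_comm _ _).le.trans (hc.trans (commutator_mono hIA le_rfl))) n hAL.2).trans (comm_le_Phi (nilp_of_isPGroup hAp)))).trans
      ((cen_anti hIA).trans ((cen_le_nrm I).trans (h.nrm_le hIp hI1 hIM.2)))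
  exact (le_inf hY le_sup_right).trans ((inf_le_Opi _ (sup_le c (hY.trans (Opi_le _ _)))).trans (Opi_le_of_sn _
    ((sn_of_pRes_le le_sup_left (sup_le (H2.pRes_le _) H1.le_ncl)).trans (SN.of_normal l H1.le_nrm_ncl))))

end Cfsg.Agent.S2864
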