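import Cfsg.Statements.S2872
import Cfsg.Agent.H1.Xt

set_option autoImplicit false
open Cfsg

namespace Cfsg.Agent.S2872

open H7 H1B Subgroup

/-- Let S be a Sylow 2-subgroup of the finite group G. Then G has a proper normal subgroup of 2-power index (O²(G) ≠ G), or Ω₁(Z(S)) is contained in the Frattini subgroup of S, or N_G(S) acts nontrivially on Ω₁(Z(S)) by conjugation. -/
theorem result {G : Type*} [Group G] [Finite G] (S : Sylow 2 G) : Cfsg.pResidual 2 G ≠ ⊤ ∨ Cfsg.omegaOne 2 ((S : Subgroup G) ⊓ Subgroup.centralizer ((S : Subgroup G) : Set G)) ≤ (frattini ↥(S : Subgroup G)).map (S : Subgroup G).subtype ∨ ∃ g ∈ Subgroup.normalizer ((S : Subgroup G) : Set G), ∃ z ∈ Cfsg.omegaOne 2 ((S : Subgroup G) ⊓ Subgroup.centralizer ((S : Subgroup G) : Set G)), g * z * g⁻¹ ≠ z := by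
  by_contra c
  push Not at c
  obtain ⟨h0, h1, h2⟩ := c
  rw [omegaOne_eq] at h1 h2
  apply h1
  intro z hz
  have hz' : z ∈ Z1 2 (S : Subgroup G) := hz
  refine ⟨⟨z, Z1_le _ _ hz'⟩, (H1.le_frattini_iff (H := zpowers _)).2 (fun M hM => zpowers_le.2 ?_) (mem_zpowers _), rfl⟩
  obtain ⟨n, i⟩ := H2.coatom_normal_index S.isPGroup' hM
  obtain ⟨φ, e⟩ := exists_hom_of_index Nat.prime_two M i
  by_contra d
  have hy : ev φ z ≠ 1 := fun a => d (by rw [← e, MonoidHom.mem_ker, ← ev_eq]; exact a)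
  obtain ⟨g, a, b⟩ := ext_transfer_cen h0 (syl_top S) φ hz' hy
  rw [h2 g a z hz] at b
  exact hy (mem_kr.1 b).2

end Cfsg.Agent.S2872
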