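import Cfsg.Statements.S2873
import Cfsg.Agent.H1.Fitting

set_option autoImplicit false
open Cfsg

namespace Cfsg.Agent.S2873
set_option maxRecDepth 100000
open DihedralGroup in
theorem core {G : Type*} [Group G] [Finite G] {r : ℕ} [hp : Fact r.Prime] (hr : r ≠ 2) (Q : Subgroup G) [hQn : Q.Normal]
    (hQ : IsPGroup 2 Q) (φ : G →* DihedralGroup r) (hsurj : Function.Surjective φ) (hker : ∀ g, φ g = 1 ↔ g ∈ Q)
    (R : Sylow r G) (hC : Q ⊓ Subgroup.centralizer ((R : Subgroup G) : Set G) = ⊥) :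
    Nonempty (↥(Subgroup.normalizer ((R : Subgroup G) : Set G)) ≃* DihedralGroup r) ∧ ∀ a : G, a ∈ Subgroup.normalizer ((R : Subgroup G) : Set G) → orderOf a = 2 → (∀ b : G, orderOf b = 2 → b ∉ Q → ∃ g : G, g * a * g⁻¹ = b) ∧ Nat.card ↥(Q ⊓ Subgroup.centralizer ({a} : Set G)) ^ 2 = Nat.card ↥Q := by
  have : NeZero r := ⟨hp.out.ne_zero⟩
  have : Fact (Nat.Prime 2) := ⟨Nat.prime_two⟩
  set N := Subgroup.normalizer ((R : Subgroup G) : Set G) with hN
  have hodd : Odd r := hp.out.odd_of_ne_two hr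
  have h2 : (2 : ZMod r) ≠ 0 := by
    intro h
    have : ((2 : ℕ) : ZMod r) = 0 := by exact_mod_cast h
    rw [ZMod.natCast_eq_zero_iff] at this
    exact hr ((Nat.prime_dvd_prime_iff_eq hp.out Nat.prime_two).mp this)
  have hRQ : Disjoint (R : Subgroup G) Q := IsPGroup.disjoint_of_ne r 2 hr _ _ R.isPGroup' hQ
  have hRN : (R : Subgroup G) ≤ N := Subgroup.le_normalizer
  have hNmem : ∀ n ∈ N, ∀ x ∈ (R : Subgroup G), n * x * n⁻¹ ∈ (R : Subgroup G) := by
    intro n hn x hx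
    exact (Subgroup.mem_normalizer_iff.mp hn x).mp hx
  have hNQ : ∀ n ∈ N, n ∈ Q → n = 1 := by
    intro n hn hq
    have : n ∈ Q ⊓ Subgroup.centralizer ((R : Subgroup G) : Set G) := by
      refine Subgroup.mem_inf.mpr ⟨hq, Subgroup.mem_centralizer_iff.mpr ?_⟩
      intro x hx
      have h1 : n * x * n⁻¹ * x⁻¹ ∈ (R : Subgroup G) := (R : Subgroup G).mul_mem (hNmem n hn x hx) ((R : Subgroup G).inv_mem hx)
      have h3 : n * x * n⁻¹ * x⁻¹ ∈ Q := by
        have := Q.mul_mem hq (hQn.conj_mem _ (Q.inv_mem hq) x)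
        simpa [mul_assoc] using this
      have h4 := (Subgroup.disjoint_def.mp hRQ) h1 h3
      have : n * x = x * n := by
        calc n * x = (n * x * n⁻¹ * x⁻¹) * (x * n) := by group
          _ = x * n := by rw [h4, one_mul]
      exact this.symm
    rw [hC] at this
    exact Subgroup.mem_bot.mp this
  have hinj : ∀ n ∈ N, ∀ m ∈ N, φ n = φ m → n = m := by
    intro n hn m hm h
    have : n * m⁻¹ = 1 := hNQ _ (N.mul_mem hn (N.inv_mem hm)) ((hker _).mp (by rw [map_mul, map_inv, h, mul_inv_cancel]))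
    exact mul_inv_eq_one.mp this
  have hRrot : ∀ x ∈ (R : Subgroup G), ∃ i, φ x = DihedralGroup.r i := by
    intro x hx
    obtain ⟨k, hk⟩ := R.isPGroup' ⟨x, hx⟩
    have hk' : x ^ (r ^ k) = 1 := by simpa using congrArg Subtype.val hk
    rcases h : φ x with i | i
    · exact ⟨i, rfl⟩
    · exfalso
      have h1 : (sr i : DihedralGroup r) ^ (r ^ k) = 1 := by rw [← h, ← map_pow, hk', map_one]
      have h3 := orderOf_dvd_of_pow_eq_one h1
      rw [orderOf_sr] at h3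
      exact (Nat.not_even_iff_odd.mpr (hodd.pow (n := k))) (even_iff_two_dvd.mpr h3)
  have hrotz : ∀ i : ZMod r, (DihedralGroup.r i : DihedralGroup r) ∈ Subgroup.zpowers (DihedralGroup.r 1 : DihedralGroup r) := by
    intro i
    refine ⟨(i.val : ℤ), ?_⟩
    simp
  have hzP : IsPGroup r (Subgroup.zpowers (DihedralGroup.r 1 : DihedralGroup r)) :=
    IsPGroup.of_card (n := 1) (by rw [Nat.card_zpowers, orderOf_r_one, pow_one])
  have hle : (R : Subgroup G).map φ ≤ Subgroup.zpowers (DihedralGroup.r 1 : DihedralGroup r) := by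
    rintro _ ⟨x, hx, rfl⟩
    obtain ⟨i, hi⟩ := hRrot x hx
    rw [hi]; exact hrotz i
  have heq : Subgroup.zpowers (DihedralGroup.r 1 : DihedralGroup r) = (R : Subgroup G).map φ :=
    (R.mapSurjective hsurj).is_maximal' hzP hle
  have hrotR : ∀ i : ZMod r, ∃ x ∈ (R : Subgroup G), φ x = DihedralGroup.r i := by
    intro i
    have := hrotz i
    rw [heq] at this
    exact this
  have hzn : (Subgroup.zpowers (DihedralGroup.r 1 : DihedralGroup r)).Normal := by
    constructor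
    intro x hx g
    obtain ⟨k, rfl⟩ := hx
    rcases g with j | j
    · simpa using hrotz _
    · simpa using hrotz _
  have hNsurj : ∀ d : DihedralGroup r, ∃ n ∈ N, φ n = d := by
    have hF := Sylow.normalizer_sup_eq_top' (N := (Subgroup.zpowers (DihedralGroup.r 1 : DihedralGroup r)).comap φ) R
      (Subgroup.map_le_iff_le_comap.mp hle)
    have h1 : N.map φ = ⊤ := by
      have h3 := congrArg (Subgroup.map φ) hF
      rw [Subgroup.map_sup, Subgroup.map_comap_eq_self_of_surjective hsurj, Subgroup.map_top_of_surjective _ hsurj] at h3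
      rw [← h3]
      symm
      apply sup_eq_left.mpr
      rw [heq]
      exact Subgroup.map_mono hRN
    intro d
    have : d ∈ N.map φ := h1 ▸ Subgroup.mem_top d
    exact this
  have hgen : ∀ x ∈ (R : Subgroup G), x ≠ 1 → ∀ y ∈ (R : Subgroup G), ∃ k : ℕ, y = x ^ k := by
    intro x hx hx1 y hy
    obtain ⟨i, hi⟩ := hRrot x hx
    obtain ⟨j, hj⟩ := hRrot y hy
    have hi0 : i ≠ 0 := by
      rintro rfl
      exact hx1 (hinj _ (hRN hx) _ N.one_mem (by rw [hi, map_one]; rfl))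
    refine ⟨(j / i).val, hinj _ (hRN hy) _ (N.pow_mem (hRN hx) _) ?_⟩
    rw [map_pow, hi, hj, r_pow, ZMod.natCast_zmod_val, mul_div_cancel₀ _ hi0]
  have hCx : ∀ x ∈ (R : Subgroup G), x ≠ 1 → ∀ q ∈ Q, q * x = x * q → q = 1 := by
    intro x hx hx1 q hq h
    have : q ∈ Q ⊓ Subgroup.centralizer ((R : Subgroup G) : Set G) := by
      refine Subgroup.mem_inf.mpr ⟨hq, Subgroup.mem_centralizer_iff.mpr ?_⟩
      intro y hy
      obtain ⟨k, rfl⟩ := hgen x hx hx1 y hy
      exact ((show Commute q x from h).pow_right k).eq.symm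
    rw [hC] at this
    exact Subgroup.mem_bot.mp this
  have hconj : ∀ x ∈ (R : Subgroup G), x ≠ 1 → ∀ y, φ y = φ x → ∃ u ∈ Q, y = u * x * u⁻¹ := by
    intro x hx hx1 y hy
    let f : Q → Q := fun q => ⟨q * x * (q : G)⁻¹ * x⁻¹, by
      have := Q.mul_mem q.2 (hQn.conj_mem _ (Q.inv_mem q.2) x)
      simpa [mul_assoc] using this⟩
    have hf : Function.Injective f := by
      intro q q' h
      have h1 : (q : G) * x * (q : G)⁻¹ * x⁻¹ = q' * x * (q' : G)⁻¹ * x⁻¹ := congrArg Subtype.val h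
      have h3 : (q : G) * x * (q : G)⁻¹ = q' * x * (q' : G)⁻¹ := mul_right_cancel h1
      have h4 : (q' : G)⁻¹ * q = 1 := by
        apply hCx x hx hx1 _ (Q.mul_mem (Q.inv_mem q'.2) q.2)
        calc (q' : G)⁻¹ * q * x = (q' : G)⁻¹ * (q * x * (q : G)⁻¹) * q := by group
          _ = x * ((q' : G)⁻¹ * q) := by rw [h3]; group
      exact Subtype.ext (inv_mul_eq_one.mp h4).symm
    obtain ⟨u, hu⟩ := (Finite.injective_iff_surjective.mp hf) ⟨y * x⁻¹, (hker _).mp (by rw [map_mul, map_inv, hy, mul_inv_cancel])⟩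
    have h1 : (u : G) * x * (u : G)⁻¹ * x⁻¹ = y * x⁻¹ := congrArg Subtype.val hu
    exact ⟨u, u.2, (mul_right_cancel h1).symm⟩
  have hK : ∀ b c : G, b * b = 1 → c * c = 1 → ∀ x ∈ (R : Subgroup G), x ≠ 1 → φ (b * c) = φ x →
      ∃ u ∈ Q, b * c = u * x * u⁻¹ ∧ u⁻¹ * b * u ∈ N := by
    intro b c hb hc x hx hx1 h
    obtain ⟨u, hu, huy⟩ := hconj x hx hx1 _ h
    refine ⟨u, hu, huy, ?_⟩
    have hb' : b⁻¹ = b := inv_eq_of_mul_eq_one_right hb
    have hc' : c⁻¹ = c := inv_eq_of_mul_eq_one_right hc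
    have hx' : x = u⁻¹ * (b * c) * u := by rw [huy]; group
    have hinv : (u⁻¹ * b * u) * x * (u⁻¹ * b * u)⁻¹ = x⁻¹ := by
      rw [hx']
      calc (u⁻¹ * b * u) * (u⁻¹ * (b * c) * u) * (u⁻¹ * b * u)⁻¹ = u⁻¹ * (b * b) * c * b⁻¹ * u := by group
        _ = u⁻¹ * c⁻¹ * b⁻¹ * u := by rw [hb, hc', mul_one]
        _ = (u⁻¹ * (b * c) * u)⁻¹ := by group
    apply Subgroup.mem_normalizer_fintype
    intro y hy
    obtain ⟨k, rfl⟩ := hgen x hx hx1 y hy
    rw [← conj_pow, hinv]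
    exact (R : Subgroup G).pow_mem ((R : Subgroup G).inv_mem hx) k
  have hφQ : ∀ u ∈ Q, ∀ b, φ (u⁻¹ * b * u) = φ b := by
    intro u hu b
    rw [map_mul, map_mul, map_inv, (hker u).mpr hu]; simp
  have hsr : ∀ b : G, b * b = 1 → b ∉ Q → ∃ i, φ b = sr i := by
    intro b hb hbQ
    rcases h : φ b with i | i
    · exfalso
      have h1 : (DihedralGroup.r i : DihedralGroup r) * DihedralGroup.r i = 1 := by rw [← h, ← map_mul, hb, map_one]
      rw [r_mul_r, one_def] at h1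
      have h3 : i + i = 0 := by injection h1
      have h4 : i = 0 := by
        have : 2 * i = 0 := by rw [two_mul, h3]
        exact (mul_eq_zero.mp this).resolve_left h2
      exact hbQ ((hker b).mp (by rw [h, h4]; rfl))
    · exact ⟨i, rfl⟩
  have hsq : ∀ n ∈ N, ∀ i, φ n = sr i → n * n = 1 := by
    intro n hn i h
    exact hinj _ (N.mul_mem hn hn) _ N.one_mem (by rw [map_mul, h, sr_mul_self, map_one])
  have hcj : ∀ n ∈ N, ∀ m ∈ N, ∀ i j, φ n = sr i → φ m = sr j → ∃ g : G, g * n * g⁻¹ = m := by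
    intro n hn m hm i j hi hj
    obtain ⟨g, hg, hg'⟩ := hNsurj (DihedralGroup.r ((i - j) / 2))
    refine ⟨g, hinj _ (N.mul_mem (N.mul_mem hg hn) (N.inv_mem hg)) _ hm ?_⟩
    rw [map_mul, map_mul, map_inv, hg', hi, hj, inv_r, r_mul_sr, sr_mul_r]
    congr 1
    field_simp
    ring
  obtain ⟨x, hx, hxφ⟩ := hrotR 1
  have hx1 : x ≠ 1 := by
    rintro rfl
    rw [map_one, one_def] at hxφ
    have : (0 : ZMod r) = 1 := by injection hxφ
    exact zero_ne_one this
  refine ⟨⟨MulEquiv.ofBijective (φ.comp N.subtype) ⟨?_, ?_⟩⟩, ?_⟩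
  · intro n m h
    exact Subtype.ext (hinj _ n.2 _ m.2 h)
  · intro d
    obtain ⟨n, hn, h⟩ := hNsurj d
    exact ⟨⟨n, hn⟩, h⟩
  intro a ha hoa
  have haa : a * a = 1 := by rw [← pow_two, ← hoa, pow_orderOf_eq_one]
  have ha1 : a ≠ 1 := by rintro rfl; simp at hoa
  obtain ⟨i, hi⟩ := hsr a haa (fun h => ha1 (hNQ a ha h))
  refine ⟨?_, ?_⟩
  · intro b hob hbQ
    have hbb : b * b = 1 := by rw [← pow_two, ← hob, pow_orderOf_eq_one]
    obtain ⟨j, hj⟩ := hsr b hbb hbQ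
    obtain ⟨c, hc, hc'⟩ := hNsurj (sr (j + 1))
    obtain ⟨u, hu, -, huN⟩ := hK b c hbb (hsq c hc _ hc') x hx hx1 (by rw [map_mul, hj, hc', hxφ, sr_mul_sr]; congr 1; ring)
    obtain ⟨g, hg⟩ := hcj a ha _ huN i j hi (by rw [hφQ u hu, hj])
    refine ⟨u * g, ?_⟩
    calc u * g * a * (u * g)⁻¹ = u * (g * a * g⁻¹) * u⁻¹ := by group
      _ = b := by rw [hg]; group
  · obtain ⟨c, hc, hc'⟩ := hNsurj (sr (i + 1))
    have hcc := hsq c hc _ hc'
    have hac : a * c = x := hinj _ (N.mul_mem ha hc) _ (hRN hx) (by rw [map_mul, hi, hc', hxφ, sr_mul_sr]; congr 1; ring)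
    obtain ⟨g, hg⟩ := hcj a ha c hc i _ hi hc'
    have hm : ∀ t q : G, q ∈ Q ⊓ Subgroup.centralizer ({t} : Set G) ↔ q ∈ Q ∧ q * t = t * q := by
      intro t q
      rw [Subgroup.mem_inf, Subgroup.mem_centralizer_singleton_iff]
    have hcard : Nat.card ↥(Q ⊓ Subgroup.centralizer ({a} : Set G)) = Nat.card ↥(Q ⊓ Subgroup.centralizer ({c} : Set G)) := by
      apply Nat.card_congr
      refine (MulAut.conj g).toEquiv.subtypeEquiv ?_
      intro q
      rw [hm, hm]
      show _ ↔ g * q * g⁻¹ ∈ Q ∧ g * q * g⁻¹ * c = c * (g * q * g⁻¹)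
      constructor
      · rintro ⟨h1, h3⟩
        refine ⟨hQn.conj_mem _ h1 g, ?_⟩
        rw [← hg]
        calc g * q * g⁻¹ * (g * a * g⁻¹) = g * (q * a) * g⁻¹ := by group
          _ = g * a * g⁻¹ * (g * q * g⁻¹) := by rw [h3]; group
      · rintro ⟨h1, h3⟩
        refine ⟨by simpa [mul_assoc] using hQn.conj_mem _ h1 g⁻¹, ?_⟩
        rw [← hg] at h3
        calc q * a = g⁻¹ * (g * q * g⁻¹ * (g * a * g⁻¹)) * g := by group
          _ = a * q := by rw [h3]; group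
    rw [pow_two]
    nth_rewrite 2 [hcard]
    rw [← Nat.card_prod]
    apply Nat.card_congr
    refine Equiv.ofBijective (fun p => ⟨(p.1 : G) * (p.2 : G), Q.mul_mem p.1.2.1 p.2.2.1⟩) ⟨?_, ?_⟩
    · rintro ⟨u, v⟩ ⟨u', v'⟩ h
      have h1 : (u : G) * v = u' * v' := congrArg Subtype.val h
      have hw1 : (u' : G)⁻¹ * u ∈ Q ⊓ Subgroup.centralizer ({a} : Set G) := Subgroup.mul_mem _ (Subgroup.inv_mem _ u'.2) u.2
      have hw2 : (v' : G) * (v : G)⁻¹ ∈ Q ⊓ Subgroup.centralizer ({c} : Set G) := Subgroup.mul_mem _ v'.2 (Subgroup.inv_mem _ v.2)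
      have hw : (u' : G)⁻¹ * u = v' * (v : G)⁻¹ := by
        calc (u' : G)⁻¹ * u = (u' : G)⁻¹ * (u * v) * (v : G)⁻¹ := by group
          _ = v' * (v : G)⁻¹ := by rw [h1]; group
      rw [← hw] at hw2
      rw [hm] at hw1 hw2
      have h0 : (u' : G)⁻¹ * u = 1 := by
        apply hCx x hx hx1 _ hw1.1
        rw [← hac, ← mul_assoc, hw1.2, mul_assoc, hw2.2, ← mul_assoc]
      have h5 : (u : G) = u' := (inv_mul_eq_one.mp h0).symm
      have h6 : (v : G) = v' := by rw [h5] at h1; exact mul_left_cancel h1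
      exact Prod.ext (Subtype.ext h5) (Subtype.ext h6)
    · rintro ⟨q, hq⟩
      have hqc : (q * c * q⁻¹) * (q * c * q⁻¹) = 1 := by
        calc (q * c * q⁻¹) * (q * c * q⁻¹) = q * (c * c) * q⁻¹ := by group
          _ = 1 := by rw [hcc]; group
      obtain ⟨u, hu, huy, huN⟩ := hK a (q * c * q⁻¹) haa hqc x hx hx1 (by
        rw [← hac]; simp [map_mul, (hker q).mpr hq])
      have hua : u⁻¹ * a * u = a := hinj _ huN _ ha (hφQ u hu a)
      have hua' : u * a = a * u := by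
        calc u * a = u * (u⁻¹ * a * u) := by rw [hua]
          _ = a * u := by group
      have h7 : q * c * q⁻¹ = u * c * u⁻¹ := by
        apply mul_left_cancel (a := a)
        rw [huy, ← hac, ← mul_assoc u a c, hua']; group
      refine ⟨(⟨u, (hm a u).mpr ⟨hu, hua'⟩⟩, ⟨u⁻¹ * q, (hm c _).mpr ⟨Q.mul_mem (Q.inv_mem hu) hq, ?_⟩⟩), ?_⟩
      · calc u⁻¹ * q * c = u⁻¹ * (q * c * q⁻¹) * q := by group
          _ = c * (u⁻¹ * q) := by rw [h7]; group
      · apply Subtype.ext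
        show u * (u⁻¹ * q) = q
        group


/-- Let G be a finite group and r an odd prime such that G ⧸ O₂(G) is dihedral of order 2r, and let R be a Sylow r-subgroup of G with C_{O₂(G)}(R) = 1. Then N_G(R) is dihedral of order 2r; for any involution a of N_G(R), every involution of G outside O₂(G) is conjugate to a; and |C_{O₂(G)}(a)|² = |O₂(G)|. -/
theorem result {G : Type*} [Group G] [Finite G] {r : ℕ} [Fact r.Prime] (hr : r ≠ 2) [hN : (Cfsg.pCore 2 G).Normal] (hquot : Nonempty (G ⧸ Cfsg.pCore 2 G ≃* DihedralGroup r)) (R : Sylow r G) (hC : Cfsg.pCore 2 G ⊓ Subgroup.centralizer ((R : Subgroup G) : Set G) = ⊥) : Nonempty (↥(Subgroup.normalizer ((R : Subgroup G) : Set G)) ≃* DihedralGroup r) ∧ ∀ a : G, a ∈ Subgroup.normalizer ((R : Subgroup G) : Set G) → orderOf a = 2 → (∀ b : G, orderOf b = 2 → b ∉ Cfsg.pCore 2 G → ∃ g : G, g * a * g⁻¹ = b) ∧ Nat.card ↥(Cfsg.pCore 2 G ⊓ Subgroup.centralizer ({a} : Set G)) ^ 2 = Nat.card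 ↥(Cfsg.pCore 2 G) := by
  obtain ⟨e⟩ := hquot
  have : Fact (Nat.Prime 2) := ⟨Nat.prime_two⟩
  refine core hr (Cfsg.pCore 2 G) H1.isPGroup_pCore (e.toMonoidHom.comp (QuotientGroup.mk' _)) ?_ ?_ R hC
  · exact e.surjective.comp (QuotientGroup.mk'_surjective _)
  · intro g
    show e (g : G ⧸ Cfsg.pCore 2 G) = 1 ↔ _
    rw [map_eq_one_iff _ e.injective, QuotientGroup.eq_one_iff]

end Cfsg.Agent.S2873
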