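import Cfsg.Statements.S2879
import Cfsg.Agent.H1.Two5

set_option autoImplicit false
open Cfsg

namespace Cfsg.Agent.S2879

open H7 H1B Subgroup

/-- Let G be a finite solvable group with O(G) = 1 whose Sylow 2-subgroup T is dihedral of order at least 8 or semidihedral, with G ≠ T and Z(T) normal in G. Then G has a normal subgroup isomorphic to SL₂(3). -/
theorem result {G : Type*} [Group G] [Finite G] (hsol : IsSolvable G) (hO : Cfsg.oddCore G = ⊥) (T : Sylow 2 G) (hT : (∃ n : ℕ, 4 ≤ n ∧ Nonempty (↥(T : Subgroup G) ≃* DihedralGroup n)) ∨ Cfsg.IsQuasiDihedral ↥(T : Subgroup G)) (hne : (T : Subgroup G) ≠ ⊤) (hZ : ((T : Subgroup G) ⊓ Subgroup.centralizer ((T : Subgroup G) : Set G)).Normal) : ∃ U : Subgroup G, U.Normal ∧ Nonempty (↥U ≃* Matrix.SpecialLinearGroup (Fin 2) (ZMod 3)) := by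
  have s := syl_top T
  haveI : Group.IsSolvable G := hsol
  have C := H1.centralizer_pCore_le_of_isSolvable (p := 2) hO
  have FT := H1.pCore_le_sylow T
  have pF : IsPGroup 2 (Cfsg.pCore 2 G) := H1.isPGroup_pCore
  obtain ⟨g, og, g1⟩ := exists_odd_ne_one (p := 2) (G := G) fun h =>
    hne (s.eq_of_le (pg_top h) le_top le_rfl).symm
  have ng : ∀ g : G, g ∈ nrm (Cfsg.pCore 2 G) := fun g => top_nrm _ trivial
  have cg : g ∉ cen (Cfsg.pCore 2 G) := fun h => g1 (eq_one_of_coprime pF (C h) og)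
  have og' := Nat.coprime_two_right.1 og
  have key : ∀ a w n, MX (T : Subgroup G) a w n → Nonempty (Cfsg.pCore 2 G ≃* QuaternionGroup 2) := by
    intro a w n h
    refine (h.aut_cases FT (ng g) og' cg).resolve_left fun k => cg ?_
    rw [h.ctr] at hZ
    have zF := H1.le_pCore (s.isPGroup.to_le (zpowers_le.2 h.z_memP)) (mem_zpowers _)
    refine cen_of_fix_cyc pF zF ?_ (ng g) og' (hZ.conj_mem _ (mem_zpowers _) g)
    exact relIndex_two_of_card (n := 1) zF h.z_ord k.card_four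
  obtain ⟨a, n, hn, h⟩ := mx_of_qd' (hT.resolve_left fun ⟨m, hm, ⟨e⟩⟩ => by
    rcases dih_cases s.isPGroup (by omega) e with k | ⟨a, n, h⟩
    · have := k.card_four
      rw [Nat.card_congr e.toEquiv, DihedralGroup.nat_card] at this; omega
    · obtain ⟨e⟩ := key _ _ _ h.1
      exact h.no_q8 FT e)
  obtain ⟨e⟩ := key _ _ _ h
  obtain ⟨x, y, k, e1, e2, r⟩ := exists_s23 e (ng g) og' cg
  have ok : (orderOf k).Coprime 2 := by rwa [← Nat.card_zpowers, e1, Nat.card_zpowers]
  have k3 : k ^ 3 = 1 := eq_one_of_coprime pF (C (e2 ▸ r.cube)) (ok.coprime_dvd_left (orderOf_pow_dvd 3))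
  refine ⟨_, normal_of_index_eq_two ?_, r.sl23 k3⟩
  obtain ⟨y', hy, hya, y2, eQ⟩ := h.eq_q8 hn FT e
  have i := (h.q8_cases s hn hy hya y2 eQ).imp And.left And.left
  rw [sup_eq_left.2 C, top_le_iff.1 (top_nrm _), relIndex_top_right] at i
  have c1 := (Cfsg.pCore 2 G).card_mul_index
  have c2 := (zpowers x ⊔ zpowers y ⊔ zpowers k).card_mul_index
  have c3 := r.card_Q
  rw [r.card k3] at c2
  rw [e2] at c3
  rw [c3] at c1
  omega

end Cfsg.Agent.S2879
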