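import Cfsg.Statements.S2880
import Cfsg.Agent.H1.XS

set_option autoImplicit false
open Cfsg

namespace Cfsg.Agent.S2880

open H7 H1B Subgroup

/-- Let E be an extraspecial 2-group of order 2^(2m+1) of plus type, that is, containing an elementary abelian subgroup of order 2^(m+1) (equivalently, a central product of m dihedral groups of order 8). Then E has exactly 2^(2m) − 2^m elements of order 4. -/
theorem result {E : Type*} [Group E] [Finite E] (m : ℕ) (hm : 1 ≤ m) (hE : Cfsg.IsExtraspecial 2 E) (hcard : Nat.card E = 2 ^ (2 * m + 1)) (hplus : ∃ A : Subgroup E, Cfsg.IsElementaryAbelian 2 A ∧ Nat.card A = 2 ^ (m + 1)) : Nat.card {x : E // orderOf x = 4} = 2 ^ (2 * m) - 2 ^ m := by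
  obtain ⟨z, h, hc⟩ := xs_top hE
  have c := card_top.trans hcard
  obtain ⟨A, hA, k⟩ := hplus
  have e : nsq (⊤ : Subgroup E) = 2 ^ (2 * m) + 2 ^ m := by_contra fun e => by
    have := (h.rk c).2 e A le_top hA
    rw [k, Nat.pow_le_pow_iff_right one_lt_two] at this
    omega
  have := (h.cnt h.zc).1 h.z2
  have s := Set.ncard_add_ncard_compl {x : E | orderOf x = 4}
  rw [show {x : E | orderOf x = 4}ᶜ.ncard = nsq (⊤ : Subgroup E) from congrArg Set.ncard (Set.ext fun a =>
    ⟨fun ha => ⟨trivial, (h.sq trivial).resolve_right fun e => ha (orderOf_eq_prime_pow (p := 2) (n := 1)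
      (by simpa [pow_two, e] using h.z1) (by rw [← h.z2, ← e]; simp [pow_succ, mul_assoc]))⟩,
    fun ha e => absurd ((show orderOf a = 4 from e) ▸ orderOf_dvd_of_pow_eq_one ((pow_two a).trans ha.2))
      (by norm_num)⟩), e, hcard, pow_succ] at s
  change {x : E | orderOf x = 4}.ncard = _
  omega

end Cfsg.Agent.S2880
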