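import Cfsg.Statements.S2881
import Cfsg.Agent.H1.XS
import Cfsg.Agent.S2880

set_option autoImplicit false
open Cfsg

namespace Cfsg.Agent.S2881

open H7 H1B Subgroup

/-- Let E be an extraspecial 2-group of order 2^(2m+1) of plus type (containing an elementary abelian subgroup of order 2^(m+1)), and let ω be an automorphism of E of order 5 whose fixed points are exactly the centre of E. Then m is divisible by 4. -/
theorem result {E : Type*} [Group E] [Finite E] (m : ℕ) (hm : 1 ≤ m) (hE : Cfsg.IsExtraspecial 2 E) (hcard : Nat.card E = 2 ^ (2 * m + 1)) (hplus : ∃ A : Subgroup E, Cfsg.IsElementaryAbelian 2 A ∧ Nat.card A = 2 ^ (m + 1)) (ω : E ≃* E) (hω : orderOf ω = 5) (hfix : ∀ x : E, ω x = x ↔ x ∈ Subgroup.center E) : 4 ∣ m := by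
  haveI : Fact (Nat.Prime 5) := ⟨by norm_num⟩
  have c := S2880.result m hm hE hcard hplus
  obtain ⟨z, h, -⟩ := xs_top hE
  let f : {x : E // orderOf x = 4} → {x : E // orderOf x = 4} := fun x => ⟨ω x, by simpa using x.2⟩
  have it : ∀ k x, ((f^[k] x : _) : E) = (ω ^ k) x := fun k => by
    induction k with
    | zero => simp
    | succ k ih => intro x; rw [Function.iterate_succ_apply', pow_succ', MulAut.mul_apply, ← ih]
  haveI := Fintype.ofFinite E
  classical
  have := Equiv.Perm.card_fixedPoints_modEq (f := f) (p := 5) (n := 1) (funext fun x => Subtype.ext (by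
    change ((f^[5] x : _) : E) = x
    rw [it, ← hω, pow_orderOf_eq_one]; rfl))
  rw [← Nat.card_eq_fintype_card, c, Fintype.card_eq_zero_iff.2 ⟨fun x => by
    have := orderOf_dvd_of_mem_zpowers (h.ctr.le ⟨mem_top x.1.1,
      center_le_centralizer _ ((hfix x.1).1 (congrArg Subtype.val x.2))⟩)
    rw [h.oz, x.1.2] at this
    omega⟩,
    Nat.modEq_zero_iff_dvd, two_mul, pow_add, ← Nat.mul_sub_one] at this
  have := (Nat.modEq_iff_dvd' Nat.one_le_two_pow).2 ((Nat.Coprime.pow_right m (by norm_num)).dvd_of_dvd_mul_left this)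
  rw [← Nat.div_add_mod m 4, pow_add, pow_mul, Nat.ModEq, Nat.mul_mod, Nat.pow_mod] at this
  have l : m % 4 < 4 := Nat.mod_lt _ (by norm_num)
  rw [Nat.dvd_iff_mod_eq_zero]
  generalize m % 4 = r at *
  interval_cases r <;> simp at this ⊢

end Cfsg.Agent.S2881
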