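import Cfsg.Statements.S2882
import Cfsg.Agent.H6.SylM

set_option autoImplicit false
open Cfsg

namespace Cfsg.Agent.S2882
open H6 Finset MulAction
open scoped Pointwise
set_option maxRecDepth 100000

/-- In the Mathieu group of degree 24 (realised as the automorphism group of the extended binary Golay code) every Sylow 2-subgroup is self-normalizing. -/
theorem result (S : Sylow 2 ↥Cfsg.M24) : Subgroup.normalizer ((S : Subgroup ↥Cfsg.M24) : Set ↥Cfsg.M24) = (S : Subgroup ↥Cfsg.M24) := by
  obtain ⟨P, hP⟩ := exists_sylow_of_card pGroup_Syl2 (a := 10) (m := 239085) card_Syl2.ge card_M24 (by norm_num)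
  obtain ⟨g, rfl⟩ := exists_smul_eq Cfsg.M24 P S
  have h := syl_M24.2.2.2
  rw [top_inf_eq, ← hP] at h
  refine le_antisymm (fun x hx => ?_) Subgroup.le_normalizer
  have h1 : g⁻¹ * x * g ∈ Subgroup.normalizer ((P : Subgroup Cfsg.M24) : Set Cfsg.M24) := by
    refine Sylow.smul_eq_iff_mem_normalizer.1 ?_
    rw [mul_smul, mul_smul, Sylow.smul_eq_iff_mem_normalizer.2 hx, inv_smul_smul]
  have h2 := h _ trivial fun y hy => (Subgroup.mem_normalizer_iff.1 h1 y).1 hy
  rw [Sylow.coe_subgroup_smul, Subgroup.mem_pointwise_smul_iff_inv_smul_mem]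
  simpa using h2

end Cfsg.Agent.S2882
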