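import Cfsg.Statements.S2968
import Cfsg.Agent.H1.Iso

set_option autoImplicit false
open Cfsg

namespace Cfsg.Agent.S2968

open H7 H1B Subgroup

/-- Let G be a finite group, p a prime, P a Sylow p-subgroup of G and x ∈ P an element of p-power order which is isolated in G (the only conjugate of x commuting with x is x itself). Then x lies in the centre of P, and the subgroup generated by x is both strongly closed and weakly closed in P with respect to G. -/
theorem result {G : Type*} [Group G] [Finite G] {p : ℕ} [Fact p.Prime] (P : Sylow p G) (x : G) (hxP : x ∈ (P : Subgroup G)) (hx : ∃ k : ℕ, orderOf x = p ^ k) (hiso : Cfsg.IsIsolated x) : x ∈ (P : Subgroup G) ⊓ Subgroup.centralizer ((P : Subgroup G) : Set G) ∧ Cfsg.IsStronglyClosed (Subgroup.zpowers x) (P : Subgroup G) ∧ Cfsg.IsWeaklyClosed (Subgroup.zpowers x) (P : Subgroup G) := by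
  obtain ⟨k, hk⟩ := hx
  have q : IsPGroup p (zpowers x) := isPGroup_zpowers (k := k) (hk ▸ pow_orderOf_eq_one x)
  have c := iso_cen hiso P.2 hxP
  refine ⟨⟨hxP, le_cen1_iff.1 c⟩, ⟨zpowers_le.2 hxP, fun y hy g hg => ?_⟩, zpowers_le.2 hxP, fun g hg => ?_⟩
  · have a : cen1 x ≤ cen1 y := by rw [← cen_zpowers]; exact cen_le_cen1 hy
    obtain ⟨d, hd, e⟩ := iso_cj (g := g) (H := cen1 (g * y * g⁻¹)) hiso q (mem_cen1_comm.1 (c hg))
      (by rw [← cj_cen1]; exact conj_mem_cj.2 (a (self_mem_cen1 x)))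
    rw [← conj_eq_iff_cen1.2 hd, show d * (g * y * g⁻¹) * d⁻¹ = d * g * y * (d * g)⁻¹ by group, conj_eq_iff_cen1.2 (a e)]
    exact hy
  · rw [← cj_def, cj_zpowers] at hg ⊢
    rw [conj_eq_iff_cen1.2 (iso_eq hiso P.2 hxP (zpowers_le.1 hg))]

end Cfsg.Agent.S2968
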