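import Cfsg.Statements.S2970
import Cfsg.Agent.H1.Iso

set_option autoImplicit false
open Cfsg

namespace Cfsg.Agent.S2970

open H7 H1B Subgroup

/-- Let G be a finite group, p a prime and x ∈ G an element of p-power order which is isolated in G. Then the image of x in any quotient G ⧸ N is isolated in G ⧸ N; and if x ≠ 1 and the Sylow p-subgroups of G are cyclic, then G has a normal p-complement. -/
theorem result {G : Type*} [Group G] [Finite G] {p : ℕ} [Fact p.Prime] (x : G) (hx : ∃ k : ℕ, orderOf x = p ^ k) (hiso : Cfsg.IsIsolated x) : (∀ (N : Subgroup G) [N.Normal], Cfsg.IsIsolated (QuotientGroup.mk x : G ⧸ N)) ∧ (x ≠ 1 → (∀ P : Sylow p G, IsCyclic ↥(P : Subgroup G)) → Cfsg.HasNormalPComplement p G) := by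
  obtain ⟨k, hk⟩ := hx
  have q : IsPGroup p (zpowers x) := isPGroup_zpowers (k := k) (hk ▸ pow_orderOf_eq_one x)
  refine ⟨fun N _ g hg => ?_, fun h1 hc => ?_⟩
  · obtain ⟨g, rfl⟩ := QuotientGroup.mk_surjective g
    obtain ⟨c, hc, e⟩ := iso_cj (g := g) (H := (cen1 (x : G ⧸ N)).comap (QuotientGroup.mk' N)) hiso q
      (self_mem_cen1 (x : G ⧸ N)) (mem_cen1.2 hg.symm)
    have : ((c * g : G) : G ⧸ N) ∈ cen1 (x : G ⧸ N) := mem_cen1.2 (congrArg _ (mem_cen1.1 e) : ((c * g * x : G) : G ⧸ N) = (x * (c * g) : G))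
    exact conj_eq_iff_cen1.2 ((mul_mem_cancel_left hc).1 this)
  have cy : ∀ P ≤ (⊤ : Subgroup G), IsPGroup p P → IsCyclic P := fun P _ h => by
    obtain ⟨S, hS⟩ := h.exists_le_sylow
    exact cyc_of_le hS (hc S)
  refine npc_top_iff.2 (npc_of_iso hiso q (mem_top x) (.inr fun P a b => (cy P a b).isMulCommutative) fun z a b => ?_)
  have := Om_le_of_cyc (cy _ le_top (isPGroup_sup (le_nrm_of_le_cen (by rw [cen_zpowers]; exact zpowers_le.2 a.2))
    (ea_zpowers b).isPGroup q)) le_sup_right q (by rwa [Ne, zpowers_eq_bot]) (mem_Om (mem_sup_left (mem_zpowers z)) b)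
  rw [← cen_zpowers]
  exact inf_le_right.trans (cen_le_cen1 this)

end Cfsg.Agent.S2970
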