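import Cfsg.Statements.S2971
import Cfsg.Agent.H1.Iso

set_option autoImplicit false
open Cfsg

namespace Cfsg.Agent.S2971

open H7 H1B Subgroup

/-- Let G be a finite group and p an odd prime such that G has p-rank at most 1 (no elementary abelian subgroup of order p²). If x ∈ G is an isolated element of order p, then x is central modulo the largest normal subgroup of G of order prime to p. -/
theorem result {G : Type*} [Group G] [Finite G] {p : ℕ} [Fact p.Prime] (hp : p ≠ 2) (hrk : Cfsg.PRankLE p 1 G) (x : G) (hx : orderOf x = p) (hiso : Cfsg.IsIsolated x) : Cfsg.InZStar p x := by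
  have q := isPGroup_zpowers_of_orderOf hx
  refine zs_top.2 (npc_zs (npc_of_iso hiso q (mem_top x) (.inl hp) fun z a b => ?_) hiso q (mem_top x))
  have e := (ea_zpowers b).sup (ea_zpowers (hx ▸ pow_orderOf_eq_one x)) (by rw [cen_zpowers]; exact zpowers_le.2 a.2)
  have := mem_zp_of_card hx (mem_sup_right (mem_zpowers x)) ((hrk _ e.1 e.2).trans (pow_one p).le) (mem_sup_left (mem_zpowers z))
  rw [← cen_zpowers]
  exact inf_le_right.trans (cen_le_cen1 this)

end Cfsg.Agent.S2971
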