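import Cfsg.Statements.S2972
import Cfsg.Agent.H1.Iso

set_option autoImplicit false
open Cfsg

namespace Cfsg.Agent.S2972

open H7 H1B Subgroup

/-- Let G be a finite group, p a prime and x ∈ G an isolated element of order p (the only conjugate of x commuting with x is x) which is not central modulo the largest normal subgroup of order prime to p, while x is central modulo the largest normal subgroup of order prime to p in every proper subgroup containing x, and the image of x is so in every quotient of G by a nontrivial normal subgroup (a minimal counterexample to the Z*_p statement). Then the derived subgroup G' is a non-abelian simple group and G = G'⟨x⟩. -/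
theorem result {G : Type*} [Group G] [Finite G] {p : ℕ} [Fact p.Prime] (x : G) (hx : orderOf x = p) (hiso : Cfsg.IsIsolated x) (hnz : ¬ Cfsg.InZStar p x) (hmin : ∀ (H : Subgroup G) (hxH : x ∈ H), H ≠ ⊤ → Cfsg.InZStar p (⟨x, hxH⟩ : ↥H)) (hquot : ∀ (N : Subgroup G) [N.Normal], N ≠ ⊥ → Cfsg.InZStar p (QuotientGroup.mk x : G ⧸ N)) : IsSimpleGroup ↥(commutator G) ∧ ¬ IsMulCommutative ↥(commutator G) ∧ commutator G ⊔ Subgroup.zpowers x = ⊤ := by
  have h : MinZ p x := ⟨hx, hiso, hnz, hmin, hquot⟩
  have ne : Lay (⊤ : Subgroup G) ≠ ⊥ := fun e => Fst_ne_bot (H := (⊤ : Subgroup G))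
    (fun t => h.nc (t.le.trans bot_le)) (by rw [Fst, e, h.Fit_eq, bot_sup_eq])
  obtain ⟨K, hK⟩ := exists_isComp ne
  have : (Lay (⊤ : Subgroup G)).Normal := normal_iff_top_le_nrm.2 (le_nrm_Lay _)
  have : K.Normal := normal_iff_top_le_nrm.2 ((h.sup ne).ge.trans (sup_le hK.Lay_le_nrm
    (zpowers_le.2 (iso_nrm_comp hiso h.pg (mem_top x) h.Op'_eq hK))))
  have n : K ≠ ⊥ := fun e => hK.2.not_le_cen (e.le.trans bot_le)
  have e : commutator G = K := le_antisymm (h.der_le n) (hK.2.perfect.ge.trans (commutator_mono le_top le_top))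
  rw [e]
  exact ⟨(hK.simple_of_Fit h.Fit_eq).1, (hK.simple_of_Fit h.Fit_eq).2, h.sup n⟩

end Cfsg.Agent.S2972
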