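import Cfsg.Statements.S2975
import Cfsg.Agent.H1.Iso

set_option autoImplicit false
open Cfsg

namespace Cfsg.Agent.S2975

open H7 H1B Subgroup

/-- Let G be a finite group, p a prime and x ∈ G an isolated element of order p (the only conjugate of x commuting with x is x) which is not central modulo the largest normal subgroup of order prime to p, while x is central modulo the largest normal subgroup of order prime to p in every proper subgroup containing x, and the image of x is so in every quotient of G by a nontrivial normal subgroup (a minimal counterexample to the Z*_p statement). Then for every prime q, every q-subgroup of G that is normalized by x and maximal among the q-subgroups normalized by x is either trivial or a Sylow q-subgroup of G; and C_G(x) permutes the x-invariant Sylow q-subgroups of G transitively by conjugation. -/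
theorem result {G : Type*} [Group G] [Finite G] {p : ℕ} [Fact p.Prime] (x : G) (hx : orderOf x = p) (hiso : Cfsg.IsIsolated x) (hnz : ¬ Cfsg.InZStar p x) (hmin : ∀ (H : Subgroup G) (hxH : x ∈ H), H ≠ ⊤ → Cfsg.InZStar p (⟨x, hxH⟩ : ↥H)) (hquot : ∀ (N : Subgroup G) [N.Normal], N ≠ ⊥ → Cfsg.InZStar p (QuotientGroup.mk x : G ⧸ N)) (q : ℕ) [Fact q.Prime] : (∀ Q : Subgroup G, IsPGroup q ↥Q → x ∈ Subgroup.normalizer (Q : Set G) → (∀ R : Subgroup G, IsPGroup q ↥R → x ∈ Subgroup.normalizer (R : Set G) → Q ≤ R → R = Q) → Q = ⊥ ∨ ∃ S : Sylow q G, (S : Subgroup G) = Q) ∧ (∀ S₁ S₂ : Sylow q G, x ∈ Subgroup.normalizer ((S₁ : Subgroup G) : Set G) → x ∈ Subgroup.normalizer ((S₂ : Subgroup G) : Set G) → ∃ c ∈ Subgroup.centralizer ({x} : Set G), (S₁ : Subgroup G).map (MulAut.conj c).toMonoidHom = (S₂ : Subgroup G)) := by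
  have h : MinZ p x := ⟨hx, hiso, hnz, hmin, hquot⟩
  refine ⟨fun Q hQ hn hm => or_iff_not_imp_left.2 fun ne => ?_, fun S₁ S₂ h1 h2 => ?_⟩
  · by_cases e : q = p
    · subst e
      obtain ⟨S, hS⟩ := (isPGroup_sup (zpowers_le.2 hn) h.pg hQ).exists_le_sylow
      exact ⟨S, hm _ S.2 (le_nrm_self _ (hS (mem_sup_left (mem_zpowers x)))) (le_sup_right.trans hS)⟩
    have cp : ∀ {R : Subgroup G}, IsPGroup q R → (ord R).Coprime p := fun hR =>
      (coprime_of_isPGroup hR ((Nat.coprime_primes Fact.out Fact.out).2 (Ne.symm e))).symm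
    have t : nrm Q ≠ ⊤ := fun t => ne (eq_bot_iff.2 ((le_Op' le_top t.ge (cp hQ)).trans h.Op'_eq.le))
    have z := ((zs_iff hn).1 (hmin _ hn t)).comm hn
    obtain ⟨S, hS, l⟩ := exists_syl_ge hQ (le_nrm_self Q)
    have n := hS.1.trans (le_nrm_Opi {p}ᶜ (nrm Q))
    obtain ⟨R, hR, a, b⟩ := (cop_of_pgroup h.pg (coprime_sup n (cp hS.2) (coprime_Op' p _)) (le_nrm_of_comm_le
      ((commutator_mono (sup_le hS.1 (Opi_le _ _)) le_rfl).trans (z.trans le_sup_right)))).exists_syl_ge
      (l.trans le_sup_left) hQ (zpowers_le.2 hn)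
    obtain rfl := hm R hR.2 (zpowers_le.1 b) a
    obtain rfl := eq_of_le_of_card_le l (hR.card_le hS.2 le_sup_left)
    exact ⟨(syl_of_nrm le_top (by rwa [top_inf_eq])).toSylowTop, rfl⟩
  · obtain ⟨g, -, e⟩ := (syl_top S₁).exists_cj_eq (syl_top S₂)
    obtain ⟨c, hc, k⟩ := iso_cj (g := g) hiso h.pg h2 (by rw [← e, ← cj_nrm]; exact conj_mem_cj.2 h1)
    exact ⟨c * g, k, by rw [← cj_def, H7.cj_mul, e, cj_of_mem_nrm hc]⟩

end Cfsg.Agent.S2975
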