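import Cfsg.Statements.S3035
import Mathlib
import Cfsg.Agent.H8.BSW10
import Cfsg.Agent.S0255

set_option autoImplicit false
open Cfsg

namespace Cfsg.Agent.S3035

open Subgroup H7 H8

/-- Let G be a finite group with an involution z whose centralizer is dihedral of order 8. Then G = C_G(z) O(G) with O(G) the largest normal subgroup of odd order, or G is isomorphic to the symmetric group of degree 4, the symmetric group of degree 5, the group SL₃(2), or the alternating group of degree 6. -/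
theorem result {G : Type*} [Group G] [Finite G] (z : G) (hz : orderOf z = 2)
    (hC : Nonempty (↥(Subgroup.centralizer ({z} : Set G)) ≃* DihedralGroup 4)) :
    Subgroup.centralizer ({z} : Set G) ⊔ Cfsg.oddCore G = ⊤ ∨ Nonempty (G ≃* Equiv.Perm (Fin 4)) ∨ Nonempty (G ≃* Equiv.Perm (Fin 5)) ∨
      Nonempty (G ≃* Matrix.SpecialLinearGroup (Fin 3) (ZMod 2)) ∨ Nonempty (G ≃* ↥(alternatingGroup (Fin 6))) := by
  obtain ⟨e⟩ := hC
  obtain ⟨a, s, h, h1, h2, h3⟩ := d8_setup hz e
  have t1 : z ≠ 1 := fun e => by simp [e] at hz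
  have t2 : z * z = 1 := by rw [← pow_two, ← hz, pow_orderOf_eq_one]
  rw [oddCore, pPrimeCore_eq, sup_comm]
  by_cases e1 : IsConj s z <;> by_cases e2 : IsConj (s * a) z
  · haveI := Fact.mk (show Nat.Prime 7 by norm_num)
    rcases (h.bsw_two h3 h1 t2 t1 e1 e2).four (by rw [Nat.card_zpowers, h2]) with h | h
    · refine Or.inr (Or.inr (Or.inr (Or.inl (h.2.map2 .trans
        ((Cfsg.Agent.S0255.result (K := ZMod 2) (by simp) (by simp)).map fun e => e.trans
          ((QuotientGroup.quotientMulEquivOfEq (card_eq_one.1 ?_)).trans QuotientGroup.quotientBot))))))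
      rw [H4.card_center_sl]; simp
    · exact Or.inr (Or.inr (Or.inr (Or.inr h.2)))
  · have := d8_mixed (h.swap h.sa_mem) h1 t2 t1 h2 h3 e2 (IsConj.trans (isConj_iff.2 ⟨a, by
      calc a * (s * a * a) * a⁻¹ = s⁻¹ * (s * a * s⁻¹) * a⁻¹⁻¹ * (a⁻¹ * (s * s) * a) := by group
        _ = s := by rw [h.inv, h.s2, inv_eq_of_mul_eq_one_right h.s2]; group⟩) e1)
    tauto
  · have := d8_mixed h h1 t2 t1 h2 h3 e1 e2
    tauto
  · exact Or.inl (h.npc h3 h1 t2 t1 (fun g _ e => e1 (isConj_iff.2 ⟨g, e⟩)) fun g _ e => e2 (isConj_iff.2 ⟨g, e⟩))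

end Cfsg.Agent.S3035
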