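import Cfsg.Statements.S3183
import Mathlib
import Cfsg.Agent.H1.SylowIn

set_option autoImplicit false
open Cfsg

namespace Cfsg.Agent.S3183

open scoped Pointwise
open Subgroup

theorem map_center {G : Type*} [Group G] (U : Subgroup G) :
    (center U).map U.subtype = U ⊓ centralizer (U : Set G) := by
  ext x
  constructor
  · rintro ⟨y, hy, rfl⟩
    exact ⟨y.2, fun u hu => congrArg Subtype.val (mem_center_iff.1 hy ⟨u, hu⟩)⟩
  · rintro ⟨h1, h2⟩
    exact ⟨⟨x, h1⟩, mem_center_iff.2 fun u => Subtype.ext (h2 u u.2), rfl⟩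

theorem key {G : Type*} [Group G] [Finite G]
    (hCI : ∀ S T : Sylow 2 G, S ≠ T → ∃ U : Sylow 2 G,
      (S : Subgroup G) ⊓ (T : Subgroup G) ≤ (U : Subgroup G) ⊓ centralizer (U : Set G))
    (S U : Sylow 2 G) {x : G} (hx : x ∈ (S : Subgroup G))
    (hU : x ∈ (U : Subgroup G) ⊓ centralizer (U : Set G)) : x ∈ centralizer (S : Set G) := by
  have hUC : (U : Subgroup G) ≤ centralizer {x} := fun u hu =>
    mem_centralizer_singleton_iff.2 (hU.2 u hu)
  obtain ⟨V, hV, hSV⟩ := H1.exists_isSylowIn_ge (K := centralizer {x})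
    (S.isPGroup'.to_le (inf_le_left (b := centralizer {x}))) inf_le_right
  have hV' : H1.IsSylowIn 2 V ⊤ := H1.isSylowIn_of_card le_top (by
    rw [hV.card_eq, ← (H1.isSylowIn_of_le U hUC).card_eq, (H1.isSylowIn_top U).card_eq])
  obtain ⟨V', rfl⟩ := hV'.exists_sylow_top
  by_cases h : S = V'
  · subst h
    exact fun s hs => mem_centralizer_singleton_iff.1 (hV.le hs)
  obtain ⟨W, hW⟩ := hCI S V' h
  have h1 : (S : Subgroup G) ⊓ centralizer (S : Set G) ≤ (W : Subgroup G) ⊓ centralizer (W : Set G) :=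
    fun z hz => hW ⟨hz.1, hSV ⟨hz.1, mem_centralizer_singleton_iff.2 (hz.2 x hx).symm⟩⟩
  obtain ⟨k, -, hk⟩ := (H1.isSylowIn_top S).exists_conj (H1.isSylowIn_top W)
  have h2 : MulAut.conj k • ((S : Subgroup G) ⊓ centralizer (S : Set G)) =
      (W : Subgroup G) ⊓ centralizer (W : Set G) := by
    have := H1.centralizer_conj_smul k (S : Subgroup G)
    rw [hk] at this
    rw [smul_inf, hk]; exact congrArg _ this.symm
  have h3 := eq_of_le_of_card_ge h1 (by rw [← h2, H1.card_conj_smul])
  have h4 : x ∈ (W : Subgroup G) ⊓ centralizer (W : Set G) :=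
    hW ⟨hx, hSV ⟨hx, mem_centralizer_singleton_iff.2 rfl⟩⟩
  exact (h3 ▸ h4).2

/-- Let G be a finite group in which the intersection of any two distinct Sylow 2-subgroups is contained in the centre of some Sylow 2-subgroup, and let S be a Sylow 2-subgroup. Then for every x in S the centralizer of x in S is a Sylow 2-subgroup of the centralizer of x in G (no 2-subgroup centralizing x is larger), and for every other Sylow 2-subgroup T the intersection S ∩ T lies in both the centre of S and the centre of T. -/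
theorem result {G : Type*} [Group G] [Finite G]
    (hCI : ∀ S T : Sylow 2 G, S ≠ T → ∃ U : Sylow 2 G,
      (S : Subgroup G) ⊓ (T : Subgroup G) ≤ (Subgroup.center ↥(U : Subgroup G)).map (U : Subgroup G).subtype)
    (S : Sylow 2 G) :
    (∀ x ∈ (S : Subgroup G), ∀ P : Subgroup G, IsPGroup 2 ↥P → P ≤ Subgroup.centralizer ({x} : Set G) →
        Nat.card ↥P ≤ Nat.card ↥((S : Subgroup G) ⊓ Subgroup.centralizer ({x} : Set G))) ∧
    (∀ T : Sylow 2 G, T ≠ S →
        (S : Subgroup G) ⊓ (T : Subgroup G) ≤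
          (Subgroup.center ↥(S : Subgroup G)).map (S : Subgroup G).subtype ⊓
            (Subgroup.center ↥(T : Subgroup G)).map (T : Subgroup G).subtype) := by
  simp only [map_center] at hCI ⊢
  have h2 : ∀ S T : Sylow 2 G, T ≠ S → (S : Subgroup G) ⊓ (T : Subgroup G) ≤ centralizer (S : Set G) := by
    intro S T hT x hx
    obtain ⟨U, hU⟩ := hCI S T hT.symm
    exact key hCI S U hx.1 (hU hx)
  refine ⟨fun x hx P hP hPC => ?_, fun T hT y hy => ⟨⟨hy.1, h2 S T hT hy⟩, hy.2, h2 T S hT.symm ⟨hy.2, hy.1⟩⟩⟩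
  have hz : IsPGroup 2 (zpowers x) := S.isPGroup'.to_le (zpowers_le.2 hx)
  have hn : P ≤ normalizer (zpowers x : Set G) := fun g hg => H1.mem_normalizer_of_conj_mem fun y hy => by
    obtain ⟨k, rfl⟩ := hy
    have : g * x ^ k = x ^ k * g := ((show Commute g x from mem_centralizer_singleton_iff.1 (hPC hg)).zpow_right k).eq
    show g * x ^ k * g⁻¹ ∈ _
    rw [this, mul_inv_cancel_right]; exact zpow_mem_zpowers x k
  obtain ⟨T, hT⟩ := (IsPGroup.to_sup_of_normal_right' hP hz hn).exists_le_sylow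
  by_cases h : T = S
  · subst h
    exact card_le_of_le (le_inf (le_sup_left.trans hT) hPC)
  have h3 : x ∈ centralizer (S : Set G) := h2 S T h ⟨hx, hT (mem_sup_right (mem_zpowers x))⟩
  rw [inf_eq_left.2 (fun s hs => mem_centralizer_singleton_iff.2 (h3 s hs))]
  obtain ⟨k, -, hk⟩ := (H1.isSylowIn_top S).exists_conj_le hP le_top
  rw [← H1.card_conj_smul k]
  exact card_le_of_le hk

end Cfsg.Agent.S3183
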