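import Cfsg.Statements.S3190
import Mathlib
import Cfsg.Agent.H1.SylowIn
import Cfsg.Agent.H1.Action
import Cfsg.Agent.S3183

set_option autoImplicit false
open Cfsg

namespace Cfsg.Agent.S3190

open Subgroup

/-- Let p be an odd prime and, inside a finite group, let P be a p-subgroup normalized by a Klein four-group T. Let R be a subgroup of P, normal in P and normalized by T, such that P is the product of R with the centralizer of T in P. If T centralizes the centre of P, then T centralizes the centre of R. -/
theorem result {X : Type*} [Group X] [Finite X]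
    {p : ℕ} (hp : p.Prime) (hodd : Odd p) (P T R : Subgroup X) (hP : IsPGroup p ↥P) (hT : IsKleinFour ↥T)
    (hTP : T ≤ Subgroup.normalizer (P : Set X)) (hRP : R ≤ P) (hRn : (R.subgroupOf P).Normal)
    (hTR : T ≤ Subgroup.normalizer (R : Set X)) (hfac : R ⊔ (P ⊓ Subgroup.centralizer (T : Set X)) = P)
    (hZ : T ≤ Subgroup.centralizer (((Subgroup.center ↥P).map P.subtype : Subgroup X) : Set X)) :
    T ≤ Subgroup.centralizer (((Subgroup.center ↥R).map R.subtype : Subgroup X) : Set X) := by
  haveI := Fact.mk hp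
  rw [S3183.map_center] at hZ ⊢
  set Z := R ⊓ centralizer (R : Set X)
  have hZc : IsMulCommutative Z := H1.isMulCommutative_iff'.2 fun x hx y hy => hy.2 x hx.1
  have hTZ : T ≤ normalizer (Z : Set X) := H1.le_normalizer_inf hTR (H1.le_normalizer_centralizer hTR)
  have hPR : P ≤ normalizer (R : Set X) := (normal_subgroupOf_iff_le_normalizer hRP).1 hRn
  have hPZ : P ≤ normalizer (Z : Set X) := H1.le_normalizer_inf hPR (H1.le_normalizer_centralizer hPR)
  have hWZ : ⁅Z, T⁆ ≤ Z := le_normalizer_iff_commutator_le_left.1 hTZ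
  have hZp : IsPGroup p Z := hP.to_le (inf_le_left.trans hRP)
  have hc : (Nat.card T).Coprime (Nat.card Z) := by
    obtain ⟨n, hn⟩ := hZp.exists_card_eq
    rw [hT.card_four, hn]
    exact Nat.Coprime.pow 2 n (Nat.coprime_two_left.2 hodd)
  have h1 := H1.coprime_centralizer_inf_commutator hTZ hc
  have hPW : P ≤ normalizer ((⁅Z, T⁆ : Subgroup X) : Set X) := by
    rw [← hfac]
    refine sup_le ((le_centralizer_iff.1 (hWZ.trans inf_le_right)).trans (centralizer_le_normalizer _)) ?_
    exact H1.le_normalizer_commutator (inf_le_left.trans hPZ) (inf_le_right.trans (centralizer_le_normalizer _))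
  rw [← commutator_eq_bot_iff_le_centralizer, commutator_comm]
  by_contra hne
  haveI := hP.isNilpotent
  refine H1.inf_centralizer_ne_bot_of_isNilpotent (hWZ.trans (inf_le_left.trans hRP)) hPW hne ?_
  rw [eq_bot_iff, ← h1]
  intro w hw
  exact ⟨⟨hWZ hw.1, le_centralizer_iff.1 hZ ⟨hRP (hWZ hw.1).1, hw.2⟩⟩, hw.1⟩

end Cfsg.Agent.S3190
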