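import Cfsg.Statements.S3222
import Mathlib
import Cfsg.Agent.H8.Z2S4
import Cfsg.Agent.H4.Cover

set_option autoImplicit false
open Cfsg

namespace Cfsg.Agent.S3222

open Subgroup H7 H8 H8.Z2

/-- Let G be a finite group of even order such that (1) some involution t lying in the centre of a Sylow 2-subgroup of G has C_G(t) ≅ Z₂ × S₄, and (2) every Sylow 2-subgroup S of G satisfies C_G(S′) = S, where S′ is the derived subgroup of S. Then G = C_G(t) if G is solvable, and G ≅ S₆ otherwise. -/
theorem result {G : Type*} [Group G] [Finite G] (hev : Even (Nat.card G))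
    (t : G) (ht : orderOf t = 2) (T : Sylow 2 G) (htT : t ∈ (T : Subgroup G)) (htc : ∀ s ∈ (T : Subgroup G), s * t = t * s)
    (e : ↥(Subgroup.centralizer ({t} : Set G)) ≃* (Multiplicative (ZMod 2) × Equiv.Perm (Fin 4)))
    (h2 : ∀ S : Sylow 2 G, Subgroup.centralizer ((⁅(S : Subgroup G), (S : Subgroup G)⁆ : Subgroup G) : Set G) = (S : Subgroup G)) :
    (Group.IsSolvable G → Subgroup.centralizer ({t} : Set G) = ⊤) ∧
      (¬ Group.IsSolvable G → Nonempty (G ≃* Equiv.Perm (Fin 6))) := by
  let f : K →* G := (cen1 t).subtype.comp e.symm.toMonoidHom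
  have hf : Function.Injective f := (cen1 t).subtype_injective.comp e.symm.injective
  have hr : f.range = cen1 t := by
    rw [MonoidHom.range_comp, MonoidHom.range_eq_top.2 e.symm.surjective, ← MonoidHom.range_eq_map, range_subtype]
  have h0 : f t0 = t := by
    obtain ⟨x, hx⟩ := hr.ge (self_mem_cen1 t)
    have h1 : ∀ y, x * y = y * x := fun y => hf (by
      rw [map_mul, map_mul, hx]; exact (mem_cen1.1 (hr.le ⟨y, rfl⟩)).symm)
    rcases f2 x (h1 _) (h1 _) with rfl | rfl | rfl | rfl
    · rw [← hx, map_one, orderOf_one] at ht; omega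
    · exact hx
    · exact absurd (h1 y0) (by decide)
    · exact absurd (h1 y0) (by decide)
  have hT : (T : Subgroup G) ≤ cen1 t := fun x hx => mem_cen1.2 (htc x hx)
  have hC : ord (cen1 t) = 48 := by
    rw [← hr, ← card_K]; exact Nat.card_congr (MonoidHom.ofInjective hf).toEquiv.symm
  have h16 : ord ((cen1 z0).map f) = 16 := by rw [card_map_of_injective hf, card_cen]
  have hle : (cen1 z0).map f ≤ cen1 t := hr ▸ map_le_range _ _
  have hS : IsSylowIn 2 ((cen1 z0).map f) ⊤ := ⟨le_top, IsPGroup.of_card (n := 4) h16, fun e => by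
    rw [← relIndex_mul_relIndex _ _ _ hle le_top] at e
    refine (Nat.prime_two.dvd_mul.1 e).elim (by have := relIndex_mul_card' hle; rw [h16, hC] at this; omega) fun e =>
      (H2.sylow_isSylowIn_top T).not_dvd (e.trans (relIndex_dvd_of_le_left _ hT))⟩
  have h : Cf f := ⟨hf, h0 ▸ hr, le_trans (fun c hc => (h2 hS.toSylowTop).le ?_) (map_le_range _ _)⟩
  · have h3 := h.main
    rw [h0] at h3
    refine ⟨fun hs => h3.resolve_right fun ⟨φ⟩ => Equiv.Perm.not_isSolvable (Fin 6) (by simp; norm_num)
      (Group.isSolvable_of_surjective (f := φ.toMonoidHom) φ.surjective), fun hs => h3.resolve_left fun e' => hs ?_⟩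
    haveI := H4.solvable_s4
    exact Group.isSolvable_of_surjective (MonoidHom.range_eq_top.1 (hr.trans e'))
  · have : ⁅(cen1 z0).map f, (cen1 z0).map f⁆ ≤ cen1 c := commutator_le.2 (by
      rintro _ ⟨x, hx, rfl⟩ _ ⟨y, hy, rfl⟩
      rw [← map_commutatorElement, commutatorElement_def]
      rcases (f1 x (mem_cen1.1 hx)).2 y (mem_cen1.1 hy) with e | e <;> rw [e]
      · rw [map_one]; exact one_mem _
      · exact mem_cen1_comm.1 hc)
    exact fun y hy => mem_cen1.1 (this hy)

end Cfsg.Agent.S3222
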