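import Cfsg.Statements.S3277
import Mathlib
import Cfsg.Agent.H8.BSW9

set_option autoImplicit false
open Cfsg

namespace Cfsg.Agent.S3277

open Subgroup H7 H8

/-- Let G be a finite group containing an involution whose centralizer is elementary abelian of order 4. If G has no normal 2-complement and no normal elementary abelian 2-subgroup of order 2 or 4, then G is isomorphic to the alternating group of degree 5 (that is, to PSL(2, 5)). -/
theorem result {G : Type*} [Group G] [Finite G] (x : G) (hx : orderOf x = 2)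
    (hC4 : Nat.card ↥(Subgroup.centralizer ({x} : Set G)) = 4) (hCe : ∀ c ∈ Subgroup.centralizer ({x} : Set G), c ^ 2 = 1)
    (hnc : ¬ Cfsg.HasNormalPComplement 2 G)
    (hne : ∀ E : Subgroup G, E.Normal → Cfsg.IsElementaryAbelian 2 E → Nat.card ↥E ≠ 2 ∧ Nat.card ↥E ≠ 4) :
    Nonempty (G ≃* ↥(alternatingGroup (Fin 5))) := by
  have x1 : x ≠ 1 := fun e => by simp [e] at hx
  have hC : ∀ c ∈ cen1 x, c * c = 1 := fun c hc => by rw [← pow_two, hCe c hc]
  have x2 := hC x (self_mem_cen1 x)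
  obtain ⟨s, hs⟩ := dih_four hC4 hC (self_mem_cen1 x) x1
  have hm : ∀ u ∈ cen1 x, u = 1 ∨ u = x ∨ u = s ∨ u = s * x := fun u hu => by
    rcases (hs.mem u).1 hu with e | e <;> rcases mem_zpowers_of_sq x2 e with e | e
    · simp [e]
    · simp [e]
    · rw [eq_inv_of_mul_eq_one_right e, inv_eq_of_mul_eq_one_right hs.s2]; simp
    · rw [eq_inv_mul_of_mul_eq e, inv_eq_of_mul_eq_one_right hs.s2]; simp
  have h3 : Three x := fun z u z1 _ hz zx u1 _ hu => by
    have hsx := mem_cen1.1 hs.sS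
    rcases hm z (mem_cen1.2 hz) with e | e | rfl | rfl
    · exact (z1 e).elim
    · exact (zx e).elim
    · rw [← hsx]; exact (hm u (mem_cen1.2 hu)).resolve_left u1
    · rw [hsx, ← mul_assoc, x2, one_mul, ← hsx]; have := (hm u (mem_cen1.2 hu)).resolve_left u1; tauto
  have hp : IsPGroup 2 (cen1 x) := IsPGroup.of_card (n := 2) hC4
  rcases h3.central_or x1 x2 with ⟨S, hS, h⟩ | ⟨z, z1, z2, hz, -, h⟩
  · rw [← hS.eq_of_le hp h le_top] at hS
    rcases v4_main hC4 hC x1 hS with h | ⟨h, ⟨h1, -⟩ | h1⟩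
    · refine (hnc (npc_top_iff.2 (pRes_le_iff.2 fun y _ hy => ?_))).elim
      obtain ⟨a, ha, b, hb, rfl⟩ := (H2.mem_sup_of_le_normalizer (le_top.trans (le_nrm_Opi _ _))).1
        ((sup_comm _ _).trans h |>.ge (mem_top y))
      refine mem_of_pow_mem (k := 1) ?_ hy
      rw [pow_one, pow_two, show a * b * (a * b) = a * b * a⁻¹ * (a * a) * b by group, hC a ha, mul_one]
      exact mul_mem (nconj_mem (le_nrm_Opi _ _ (mem_top a)) hb) hb
    · refine ((hne (cen1 x) ⟨fun y hy g => by_contra fun e => ?_⟩ ⟨isComm_iff'.2 fun a ha b hb =>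
        comm_of_inv (s := 1) (fun k hk => by simpa [eq_inv_iff_mul_eq_one] using hC k hk) ha hb, hCe⟩).2 hC4).elim
      have h2 := (cen1 x).card_mul_index
      rw [hC4, h1, ← H3.card_isConj_eq_index] at h2
      have h4 : insert (g * y * g⁻¹) ((cen1 x : Set G) \ {1}) ⊆ {u | IsConj x u} := by
        rintro u (rfl | hu)
        · have y1 : y ≠ 1 := by rintro rfl; simp at e
          exact (h y y1 (hC y hy)).trans (isConj_iff.2 ⟨g, rfl⟩)
        · exact h u hu.2 (hC u hu.1)
      have h5 := Set.ncard_le_ncard h4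
      rw [Set.ncard_insert_of_notMem fun e' => e e'.1, Set.ncard_sdiff_singleton_of_mem (cen1 x).one_mem,
        show (cen1 x : Set G).ncard = 4 from hC4, show {u | IsConj x u}.ncard = 3 by
          rw [← Nat.card_coe_set_eq]; exact Nat.eq_of_mul_eq_mul_left four_pos h2] at h5
      omega
    · exact h1.2
  obtain ⟨h1, h2⟩ := ncl_elem z2 h
  set N := normalClosure ({z} : Set G)
  have hN := hne N inferInstance ⟨isComm_iff'.2 h1, fun a ha => by rw [pow_two, h2 a ha]⟩
  have h4 : 1 < ord N := (one_lt_card_iff_ne_bot N).2 fun e => z1 (mem_bot.1 (e ▸ subset_normalClosure rfl))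
  obtain ⟨k, hk⟩ := IsPGroup.iff_card.1 (show IsPGroup 2 N from fun a => ⟨1, Subtype.ext (by
    simpa [pow_two] using h2 a a.2)⟩)
  suffices ord N ≤ 4 by
    rw [hk] at h4 hN this
    have : k ≤ 2 := (Nat.pow_le_pow_iff_right one_lt_two).1 this
    interval_cases k <;> omega
  by_cases hxN : x ∈ N
  · exact hC4 ▸ card_le_of_le fun a ha => mem_cen1.2 (h1 a ha x hxN)
  have h5 : ord (N ⊓ cen1 x : Subgroup G) ≤ 2 := by
    have h6 := relIndex_mul_card' (inf_le_right : N ⊓ cen1 x ≤ _)
    have h7 := mt relIndex_eq_one.1 fun e : cen1 x ≤ N ⊓ cen1 x => hxN (e (self_mem_cen1 x)).1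
    rw [hC4] at h6
    rcases h8 : (N ⊓ cen1 x).relIndex (cen1 x) with _ | _ | j <;> rw [h8] at h6 h7 <;> first | omega | nlinarith
  let f : N →* (N ⊓ cen1 x : Subgroup G) := MonoidHom.mk' (fun a => ⟨a * (x * a * x⁻¹),
    mul_mem a.2 (normalClosure_normal.conj_mem _ a.2 x), mem_cen1.2 (by
      calc (a : G) * (x * a * x⁻¹) * x = (x * x) * a * x * a := by rw [x2]; group
        _ = x * (x * a * x⁻¹ * a) := by rw [inv_eq_of_mul_eq_one_right x2]; group
        _ = _ := by rw [h1 _ a.2 _ (normalClosure_normal.conj_mem _ a.2 x)])⟩) fun a b => Subtype.ext (by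
      have := h1 _ b.2 _ (normalClosure_normal.conj_mem _ a.2 x)
      calc (a : G) * b * (x * (a * b) * x⁻¹) = a * (b * (x * a * x⁻¹)) * (x * b * x⁻¹) := by group
        _ = _ := by rw [this]; simp [mul_assoc])
  have h6 := f.ker.card_mul_index
  have h7 : ord f.ker ≤ ord (N ⊓ cen1 x : Subgroup G) := Nat.card_le_card_of_injective
    (fun a => (⟨a, a.1.2, mem_cen1.2 (by
      have : (a : G) * (x * a * x⁻¹) = 1 := congrArg Subtype.val a.2
      rw [← h2 a a.1.2, mul_right_inj, mul_inv_eq_iff_eq_mul] at this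
      exact this.symm)⟩ : (N ⊓ cen1 x : Subgroup G))) fun a b e => Subtype.ext (Subtype.ext (Subtype.mk.inj e))
  rw [index_ker] at h6
  have h8 := card_le_of_le (le_top (a := f.range))
  rw [card_top] at h8
  nlinarith

end Cfsg.Agent.S3277
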