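import Cfsg.Statements.S3278
import Mathlib
import Cfsg.Agent.H8.Klein
import Cfsg.Agent.H8.ClassCount

set_option autoImplicit false
open Cfsg

namespace Cfsg.Agent.S3278

open Subgroup H7 H8

/-- Let G be a finite simple group with an involution x such that a Sylow 2-subgroup of C_G(x) is a Klein four-group which is normal in C_G(x). Then G is isomorphic to the alternating group of degree 5 (that is, to PSL(2, 5)). -/
theorem result {G : Type*} [Group G] [Finite G] [IsSimpleGroup G] (x : G) (hx : orderOf x = 2)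
    (S₀ : Subgroup G) (hle : S₀ ≤ Subgroup.centralizer ({x} : Set G)) (hK : IsKleinFour ↥S₀)
    (hodd : ¬ 2 ∣ S₀.relIndex (Subgroup.centralizer ({x} : Set G))) (hn : (S₀.subgroupOf (Subgroup.centralizer ({x} : Set G))).Normal) :
    Nonempty (G ≃* ↥(alternatingGroup (Fin 5))) := by
  have x1 : x ≠ 1 := fun e => by simp [e] at hx
  have x2 : x * x = 1 := by rw [← pow_two, ← hx, pow_orderOf_eq_one]
  have h4 : ord S₀ = 4 := hK.card_four
  have hsq : ∀ c ∈ S₀, c * c = 1 := fun c hc => congrArg Subtype.val (IsKleinFour.mul_self (⟨c, hc⟩ : S₀))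
  have hS : IsSylowIn 2 S₀ (cen1 x) := ⟨hle, IsPGroup.of_card (n := 2) h4, hodd⟩
  have hCN : cen1 x ≤ nrm S₀ := (normal_subgroupOf_iff_le_normalizer hle).1 hn
  have hN : ∀ u ∈ cen1 x, u * u = 1 → u ∈ S₀ := fun u hu e => zpowers_le.1 (hS.le_of_le_normalizer
    (isPGroup_zpowers (k := 1) (by simpa [pow_two] using e)) (zpowers_le.2 hu) (zpowers_le.2 (hCN hu)))
  have hxS := hN x (self_mem_cen1 x) x2
  obtain ⟨s, hs⟩ := dih_four h4 hsq hxS x1
  have hm : ∀ u ∈ S₀, u = 1 ∨ u = x ∨ u = s ∨ u = s * x := fun u hu => by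
    rcases (hs.mem u).1 hu with e | e <;> rcases mem_zpowers_of_sq x2 e with e | e
    · simp [e]
    · simp [e]
    · rw [eq_inv_of_mul_eq_one_right e, inv_eq_of_mul_eq_one_right hs.s2]; simp
    · rw [eq_inv_mul_of_mul_eq e, inv_eq_of_mul_eq_one_right hs.s2]; simp
  have hsx := mem_cen1.1 (hle hs.sS)
  have h3 : Three x := fun z u z1 z2 hz zx u1 u2 hu => by
    rcases hm z (hN z (mem_cen1.2 hz) z2) with e | e | rfl | rfl
    · exact (z1 e).elim
    · exact (zx e).elim
    · rw [← hsx]; exact (hm u (hN u (mem_cen1.2 hu) u2)).resolve_left u1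
    · rw [hsx, ← mul_assoc, x2, one_mul, ← hsx]; have := (hm u (hN u (mem_cen1.2 hu) u2)).resolve_left u1; tauto
  have cV : S₀ ≤ cen S₀ := fun a ha b hb => comm_of_inv (s := 1)
    (fun k hk => by simpa [eq_inv_iff_mul_eq_one] using hsq k hk) hb ha
  have hG : ¬ ∀ a b : G, a * b = b * a := fun e => by
    rcases (show (zpowers x).Normal from ⟨fun a ha g => by rwa [e g a, mul_inv_cancel_right]⟩).eq_bot_or_eq_top
      with e | e
    · exact x1 (zpowers_eq_bot.1 e)
    · exact hs.sa (e ▸ mem_top s)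
  have hnN : nrm S₀ ≠ ⊤ := fun e => by
    rcases (normalizer_eq_top_iff.1 e).eq_bot_or_eq_top with e | e
    · rw [e, card_bot] at h4; omega
    · exact hG fun a b => cV (e ▸ mem_top b) a (e ▸ mem_top a)
  obtain ⟨⟨T, hT, hTC⟩, cls⟩ := h3.simple x1 x2 hG
  have hV : IsSylowIn 2 S₀ ⊤ := by
    rwa [← hT.eq_of_le hS.isPGroup (hS.le_of_le_normalizer hT.isPGroup hTC (hTC.trans hCN)) le_top] at hT
  have hsq2 : ∀ c ∈ cen1 x, c * c ∈ cen S₀ := fun c hc => by
    have h1 : c * x * c⁻¹ = x := by rw [mem_cen1.1 hc, mul_inv_cancel_right]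
    have h2 : c * c * s * (c * c)⁻¹ = s := by
      rw [show c * c * s * (c * c)⁻¹ = c * (c * s * c⁻¹) * c⁻¹ by group]
      rcases hm _ (nconj_mem (hCN hc) hs.sS) with e | e | e | e
      · exact (hs.sa (conj_eq_one_iff.1 e ▸ one_mem _)).elim
      · rw [← h1, mul_left_inj, mul_right_inj] at e; exact (hs.sa (e ▸ mem_zpowers x)).elim
      · rw [e, e]
      · rw [e, show c * (s * x) * c⁻¹ = c * s * c⁻¹ * (c * x * c⁻¹) by group, e, h1, mul_assoc, x2, mul_one]
    have h3 : Commute s (c * c) := (mul_inv_eq_iff_eq_mul.1 h2).symm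
    have h5 : Commute x (c * c) := (mem_cen1.1 (mul_mem hc hc)).symm
    intro v hv
    rcases hm v hv with rfl | rfl | rfl | rfl
    · simp
    · exact h5
    · exact h3
    · exact h3.mul_left h5
  have hC : NPC 2 (cen1 x) := H1B.npc_frob fun Q hQ hQ' c hc _ ho => centralizer_le
    (hS.le_of_le_normalizer hQ' hQ (hQ.trans hCN)) (mem_of_pow_mem (k := 1)
      (by rw [pow_one, pow_two]; exact hsq2 c hc) ho)
  have h5 := klein_index hV h4 hxS x1 x2 hle (fun v hv v1 => cls v v1 (hsq v hv)) (npc_iff.2 hC) hN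
  have h6 : 4 ∣ (cen1 x).index + 1 := by
    have := gcd_dvd_ncard_pow_eq_one (G := G) 4
    rwa [Nat.gcd_eq_left (h4 ▸ S₀.card_subgroup_dvd_card), show {g : G | g ^ 4 = 1} = insert 1 {g | IsConj x g} from
      Set.ext fun g => ⟨fun e => or_iff_not_imp_left.2 fun g1 => isConj_of_pElt hV (fun v hv v1 => cls v v1 (hsq v hv))
        (((Nat.dvd_prime_pow Nat.prime_two (m := 2)).1 (orderOf_dvd_of_pow_eq_one e)).imp fun _ h => h.2) g1, by
        rintro (rfl | e)
        · simp
        · simp [show g ^ 4 = (g * g) * (g * g) by simp [pow_succ, mul_assoc], sq_of_isConj x2 e]⟩,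
      Set.ncard_insert_of_notMem (by simpa using x1), ← Nat.card_coe_set_eq, Set.coe_ofPred,
      H3.card_isConj_eq_index] at this
  have h7 := relIndex_mul_index hCN
  have h8 : (cen1 x).relIndex (nrm S₀) ≤ 3 := by
    rw [← ncard_conj_by, show 3 = ((S₀ : Set G) \ {1}).ncard by
      rw [Set.ncard_sdiff_singleton_of_mem S₀.one_mem, ← Nat.card_coe_set_eq]; exact (congrArg (· - 1) h4).symm]
    exact Set.ncard_le_ncard (by rintro _ ⟨n, hn, rfl⟩; exact ⟨nconj_mem hn hxS, by simpa using x1⟩)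
  have h9 : (cen1 x).relIndex (nrm S₀) ≠ 1 := fun e => by
    have h1 : cen1 x ≤ cen S₀ := hC.sup hS ▸ sup_le (hC.le_cen hS.isPGroup hle (Opi_le _ _) (coprime_Op' 2 _)
      ((Opi_le _ _).trans hCN)) cV
    have h2 := (npc_iff.1 (H1B.hasNPC_iff.2 (H1B.burnside hV (inf_le_right.trans
      ((relIndex_eq_one.1 e).trans h1))))).sup hV
    rcases (normalizer_eq_top_iff.1 (top_le_iff.1 (le_nrm_Opi {2}ᶜ (⊤ : Subgroup G)))).eq_bot_or_eq_top with e | e
    · rw [e, bot_sup_eq] at h2; exact hnN (top_le_iff.1 (h2 ▸ le_nrm_self _))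
    · exact not_dvd_Op' 2 ⊤ (e ▸ (show 2 ∣ 4 by decide).trans (h4 ▸ card_dvd_of_le le_top))
  have h10 := mt index_eq_one.1 hnN
  have h11 : (nrm S₀).index = 5 ∧ (cen1 x).index = 15 := by
    interval_cases (cen1 x).relIndex (nrm S₀) <;> omega
  have h12 := H4.card_dvd_factorial_of_simple _ hnN
  have h13 := (cen1 x).card_mul_index
  have h14 := relIndex_mul_card' hle
  rw [h11.1, ← h13, h11.2, ← h14, h4, mul_assoc, show Nat.factorial 5 = 2 * (4 * 15) from rfl,
    Nat.mul_dvd_mul_iff_right (by norm_num)] at h12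
  refine H4.equiv_alt5_of_simple ?_
  rw [← h13, h11.2, ← h14, h4, ((Nat.dvd_prime Nat.prime_two).1 h12).resolve_right fun e => hodd e.symm.dvd]

end Cfsg.Agent.S3278
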