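import Cfsg.Statements.S3488
import Cfsg.Agent.H0.Ord2


set_option autoImplicit false
open Cfsg

namespace Cfsg.Agent.S3488

def ψ0 {F : Type*} [Field F] (v : Fin 2 → F) (g : Matrix.SpecialLinearGroup (Fin 2) F) : Matrix.SpecialLinearGroup (Fin 3) F :=
  ⟨!![g.1 0 0, g.1 0 1, v 0; g.1 1 0, g.1 1 1, v 1; 0, 0, 1], by
    have := (Matrix.det_fin_two _).symm.trans g.2
    simpa [Matrix.det_fin_three] using this⟩
def ψ (F : Type*) [Field F] : Multiplicative (Fin 2 → F) ⋊[H0.mact (H0.slρ F)] Matrix.SpecialLinearGroup (Fin 2) F →* Matrix.SpecialLinearGroup (Fin 3) F :=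
  MonoidHom.mk' (fun x => ψ0 x.left.toAdd x.right) fun x y => Subtype.ext (by
      show (ψ0 _ _).1 = (ψ0 _ _).1 * (ψ0 _ _).1
      have h1 : ∀ i j, (x * y).right.1 i j = x.right.1 i 0 * y.right.1 0 j + x.right.1 i 1 * y.right.1 1 j := fun i j => by
        show (x.right.1 * y.right.1) i j = _
        rw [Matrix.mul_apply, Fin.sum_univ_two]
      have h2 : ∀ i, (x * y).left.toAdd i = x.left.toAdd i + (x.right.1 i 0 * y.left.toAdd 0 + x.right.1 i 1 * y.left.toAdd 1) := fun i => by
        rw [← H0.sl_apply]; rfl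
      simp only [ψ0, h1, h2, Matrix.mul_fin_three]
      congr 1; ext i j; fin_cases i <;> fin_cases j <;> simp [add_comm])

/-- Let F be the field with four elements. The affine group F² ⋊ SL(2,F), realised as the subgroup of SL(3,F) of matrices with last row (0, 0, 1), has exactly the same set of element orders as the alternating group of degree 6 (namely {1, 2, 3, 4, 5}); so the alternating group of degree 6 is not determined by its element orders. -/
theorem result {F : Type*} [Field F] [Fintype F] (hF : Fintype.card F = 4) :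
    Set.range (orderOf : Subgroup.closure {M : Matrix.SpecialLinearGroup (Fin 3) F |
        (M : Matrix (Fin 3) (Fin 3) F) 2 0 = 0 ∧ (M : Matrix (Fin 3) (Fin 3) F) 2 1 = 0 ∧ (M : Matrix (Fin 3) (Fin 3) F) 2 2 = 1} → ℕ) =
      Set.range (orderOf : alternatingGroup (Fin 6) → ℕ) := by
  have : CharP F 2 := charP_of_card_eq_prime_pow (f := 2) hF
  rw [← show _ = Set.range _ from H0.asl2_4 hF]
  have h : Function.Injective (ψ F) := (injective_iff_map_eq_one _).2 fun x h => by
    have := fun i j => congrFun (congrFun (congrArg Subtype.val h) i) j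
    refine SemidirectProduct.ext (Multiplicative.toAdd.injective ?_) (Subtype.ext ?_)
    · ext i; fin_cases i
      exacts [this 0 2, this 1 2]
    · ext i j; fin_cases i <;> fin_cases j
      exacts [this 0 0, this 0 1, this 1 0, this 1 1]
  refine H8.range_orderOf_eq_of_equiv ((MulEquiv.subgroupCongr ?_).trans (MonoidHom.ofInjective h).symm)
  rw [← (ψ F).range.closure_eq]
  refine congrArg _ (Set.ext fun M => ⟨fun ⟨a, b, c⟩ => ⟨⟨.ofAdd ![M.1 0 2, M.1 1 2], ⟨!![M.1 0 0, M.1 0 1; M.1 1 0, M.1 1 1], ?_⟩⟩, ?_⟩, ?_⟩)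
  · have := (Matrix.det_fin_three _).symm.trans M.2
    simpa [a, b, c] using this
  · ext i j; fin_cases i <;> fin_cases j <;> first | rfl | exact a.symm | exact b.symm | exact c.symm
  · rintro ⟨x, rfl⟩; exact ⟨rfl, rfl, rfl⟩

end Cfsg.Agent.S3488
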