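import Cfsg.Statements.S3494
import Mathlib

set_option autoImplicit false
open Cfsg

namespace Cfsg.Agent.S3494

open MulAction Subgroup Pointwise

/-- Manning's Theorem on extremely primitive groups. Let a finite group G act faithfully and primitively on a finite set Ω with non-trivial point stabilizers, and suppose every point stabilizer G_α acts primitively on each of its orbits. Then G_α acts faithfully on each of its orbits other than {α}: an element of G_α fixing every point of one such orbit is the identity. -/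
theorem result {G : Type*} [Group G] [Finite G] {Ω : Type*} [Fintype Ω] [MulAction G Ω] [FaithfulSMul G Ω] (hprim : MulAction.IsPreprimitive G Ω) (hH : ∀ α : Ω, MulAction.stabilizer G α ≠ ⊥) (hep : ∀ (α : Ω) (ω : Ω), MulAction.IsPreprimitive (MulAction.stabilizer G α) (MulAction.orbit (MulAction.stabilizer G α) ω))
    (α ω : Ω) (hω : ω ≠ α) (h : MulAction.stabilizer G α) (hfix : ∀ x ∈ MulAction.orbit (MulAction.stabilizer G α) ω, h • x = x) : h = 1 := by
  set_option maxSynthPendingDepth 3 in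
  classical
  haveI : Nontrivial Ω := ⟨_, _, hω⟩
  have mx := fun a : Ω => IsPreprimitive.isCoatom_stabilizer_of_isPreprimitive G a
  by_contra h1
  let K : Subgroup G := stabilizer G α ⊓ fixingSubgroup G (orbit (stabilizer G α) ω)
  have mK : ∀ k, k ∈ K ↔ k • α = α ∧ ∀ u : G, u • α = α → k • u • ω = u • ω := fun k =>
    and_congr_right fun _ => (mem_fixingSubgroup_iff G).trans ⟨fun h u a => h _ ⟨⟨u, a⟩, rfl⟩, by rintro h _ ⟨u, rfl⟩; exact h u u.2⟩
  have n : stabilizer G α ≤ normalizer (K : Set G) := fun u a => mem_normalizer_fintype fun k b => (mK _).2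
    ⟨mul_mem (mul_mem a b.1) (inv_mem a), fun v c => by
      rw [mul_smul, mul_smul, ← mul_smul u⁻¹, ((mK k).1 b).2 _ (mul_mem (inv_mem a) c : _ ∈ stabilizer G α), mul_smul, smul_inv_smul]⟩
  obtain ⟨g, hg⟩ := exists_smul_eq G α ω
  have cj : ∀ k ∈ K, (g⁻¹ * k * g) • α = α := fun k b => by
    have := ((mK k).1 b).2 1 (one_smul _ _)
    rw [one_smul] at this
    rw [mul_smul, mul_smul, hg, this, inv_smul_eq_iff, hg]
  obtain ⟨k, hk, u, hu, m⟩ : ∃ k ∈ K, ∃ u : G, u • α = α ∧ k • g • u • ω ≠ g • u • ω := by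
    by_contra! z
    have : g⁻¹ ∈ normalizer (K : Set G) := mem_normalizer_fintype fun k b => (mK _).2 ⟨by rw [inv_inv]; exact cj k b, fun v c => by
      rw [inv_inv, mul_smul, mul_smul, z k b v c, inv_smul_smul]⟩
    rcases (mx α).le_iff.1 n with t | t
    · refine h1 (Subtype.ext (eq_of_smul_eq_smul (α := Ω) fun y => ?_))
      obtain ⟨x, rfl⟩ := exists_smul_eq G α y
      have : (x⁻¹ * h * x) • α = α := ((mem_normalizer_iff''.1 (t.ge (mem_top x)) h).1 ((mK _).2 ⟨h.2, fun v c => hfix _ ⟨⟨v, c⟩, rfl⟩⟩)).1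
      rwa [mul_smul, mul_smul, inv_smul_eq_iff, ← one_smul G (x • α), smul_smul _ 1, mul_one] at this
    · exact hω (hg.symm.trans ((stabilizer G α).inv_mem_iff.1 (t.le this)))
  set γ := g • u • ω with hγ
  haveI := hep α γ
  haveI : (K.subgroupOf (stabilizer G α)).Normal := (normal_subgroupOf_iff_le_normalizer inf_le_left).2 n
  have t := IsQuasiPreprimitive.isPretransitive_of_normal (N := K.subgroupOf (stabilizer G α)) (X := orbit (stabilizer G α) γ)
    fun z => by
      have e0 := congrArg Subtype.val (z.ge (Set.mem_univ ⟨γ, mem_orbit_self _⟩) ⟨⟨k, hk.1⟩, hk⟩)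
      exact m e0
  let S : Set Ω := {y | ∃ x : G, x • ω = γ ∧ x • α = y}
  have s : orbit (stabilizer G α) ω = S := by
    refine Set.eq_of_subset_of_ncard_le ?_ ?_
    · rintro _ ⟨v, rfl⟩
      obtain ⟨j, e⟩ := t.1 ⟨γ, mem_orbit_self _⟩ ⟨_, mem_orbit γ v⁻¹⟩
      have e : (j.1 : G) • γ = (v : G)⁻¹ • γ := congrArg Subtype.val e
      refine ⟨v * j.1 * g * u, ?_, ?_⟩
      · simp only [mul_smul]; rw [← hγ, e, smul_inv_smul]
      · have := ((mK j.1).1 j.2).2 1 (one_smul _ _)
        simp only [mul_smul, hu, hg, one_smul] at this ⊢; rw [this]; rfl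
    · have : S ⊆ (g * u) • orbit (stabilizer G ω) α := by
        rintro _ ⟨x, a, rfl⟩
        exact ⟨_, ⟨⟨(g * u)⁻¹ * x, show _ • ω = ω by rw [mul_smul, a, inv_smul_eq_iff, mul_smul]⟩, rfl⟩, by simp [Subgroup.smul_def, mul_smul]⟩
      refine (Set.ncard_le_ncard this).trans (le_of_eq ?_)
      rw [Set.ncard_smul_set, ← index_stabilizer, ← index_stabilizer]
      have a := relIndex_mul_index (inf_le_left : stabilizer G α ⊓ stabilizer G ω ≤ _)
      have b := relIndex_mul_index (inf_le_right : stabilizer G α ⊓ stabilizer G ω ≤ _)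
      rw [index_stabilizer_of_transitive, inf_relIndex_left] at a
      rw [index_stabilizer_of_transitive, inf_relIndex_right, ← a] at b
      exact Nat.eq_of_mul_eq_mul_right Nat.card_pos b
  have l : ∀ H : Subgroup G, (∀ x ∈ H, ∀ y ∈ S, x • y ∈ S) → H ≤ stabilizer G S := fun H c x a =>
    Set.Subset.antisymm (by rintro _ ⟨y, b, rfl⟩; exact c x a y b) fun y b => ⟨_, c _ (inv_mem a) y b, smul_inv_smul x y⟩
  have l1 := l (stabilizer G α) fun x a y b => by
    rw [← s] at b ⊢
    obtain ⟨v, rfl⟩ := b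
    exact ⟨⟨x, a⟩ * v, mul_smul _ _ _⟩
  have l2 := l (stabilizer G γ) (by rintro x a _ ⟨v, b, rfl⟩; exact ⟨x * v, by rw [mul_smul, b, a], mul_smul _ _ _⟩)
  rcases (mx α).le_iff.1 l1 with z | z
  · have : α ∈ g⁻¹ • S := ⟨ω, s ▸ mem_orbit_self _, inv_smul_eq_iff.2 hg.symm⟩
    rw [show g⁻¹ • S = S from z.ge (mem_top _), ← s] at this
    obtain ⟨v, e⟩ := this
    exact hω (smul_left_cancel (v : G) (e.trans v.2.symm))
  · rw [z] at l2
    exact m (((mx γ).le_iff.1 l2).resolve_left (mx α).1 |>.le hk.1)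

end Cfsg.Agent.S3494
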