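import Cfsg.Statements.S3497
import Cfsg.Agent.S3494
import Cfsg.Agent.H3.Lift
import Cfsg.Agent.H1.GL2
import Cfsg.Agent.H1.SZ
import Cfsg.Agent.H1.Fitting

set_option autoImplicit false
open Cfsg

namespace Cfsg.Agent.S3497

open MulAction Subgroup

theorem aux {H Δ : Type*} [Group H] [Finite H] [MulAction H Δ] (hp : IsPreprimitive H Δ) (x : Δ)
    (f : ∀ h : H, (∀ y : Δ, h • y = y) → h = 1) (M : Subgroup H) [M.Normal] (h0 : M ≠ ⊥) (c : IsMulCommutative M) :
    Nat.card M = Nat.card Δ ∧ centralizer (M : Set H) ≤ M := by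
  haveI := IsQuasiPreprimitive.isPretransitive_of_normal (N := M) (X := Δ) fun z =>
    h0 (eq_bot_iff.2 fun m h => f m fun y => z.ge (Set.mem_univ y) ⟨m, h⟩)
  have r : ∀ g ∈ centralizer (M : Set H), g • x = x → g = 1 := fun g a b => f g fun y => by
    obtain ⟨m, rfl⟩ := exists_smul_eq M x y
    rw [Subgroup.smul_def, ← mul_smul, ← a m m.2, mul_smul, b]
  refine ⟨?_, fun g a => ?_⟩
  · rw [← index_stabilizer_of_transitive M x, show stabilizer M x = ⊥ from
      eq_bot_iff.2 fun y h => Subtype.ext (r y (M.le_centralizer y.2) h), index_bot]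
  · obtain ⟨m, e⟩ := exists_smul_eq M x (g • x)
    rw [← inv_mul_eq_one.1 (r ((m : H)⁻¹ * g) (mul_mem (inv_mem (M.le_centralizer m.2)) a)
      (by rw [mul_smul, inv_smul_eq_iff]; exact e.symm))]
    exact m.2

/-- Restrictions on the point stabilizer of an extremely primitive group. Let a finite group G act faithfully and primitively on a finite set Ω with point stabilizers H = G_α whose order is neither 1 nor a prime, each acting primitively on every one of its orbits. Then H has trivial center, the Fitting subgroup F(H) is an elementary abelian p-group for some prime p, and if F(H) ≠ 1 has order p ^ e then p ^ e divides the number of points minus one and H / F(H) embeds in GL_e(p) (there is a homomorphism from H to GL_e(p) with kernel exactly F(H)). -/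
theorem result {G : Type*} [Group G] [Finite G] {Ω : Type*} [Fintype Ω] [MulAction G Ω] [FaithfulSMul G Ω] (hprim : MulAction.IsPreprimitive G Ω) (hep : ∀ (α : Ω) (ω : Ω), MulAction.IsPreprimitive (MulAction.stabilizer G α) (MulAction.orbit (MulAction.stabilizer G α) ω)) (α : Ω)
    (hH1 : MulAction.stabilizer G α ≠ ⊥) (hHp : ¬ (Nat.card (MulAction.stabilizer G α)).Prime) :
    Subgroup.center (MulAction.stabilizer G α) = ⊥ ∧
    IsMulCommutative (Cfsg.fittingSubgroup (MulAction.stabilizer G α)) ∧
    ∃ p e : ℕ, p.Prime ∧ Nat.card (Cfsg.fittingSubgroup (MulAction.stabilizer G α)) = p ^ e ∧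
      (∀ x ∈ Cfsg.fittingSubgroup (MulAction.stabilizer G α), x ^ p = 1) ∧
      (Cfsg.fittingSubgroup (MulAction.stabilizer G α) ≠ ⊥ →
        p ^ e ∣ Fintype.card Ω - 1 ∧
        ∃ φ : MulAction.stabilizer G α →* GL (Fin e) (ZMod p), φ.ker = Cfsg.fittingSubgroup (MulAction.stabilizer G α)) := by
  set_option maxSynthPendingDepth 3 in
  classical
  have hH : ∀ a : Ω, stabilizer G a ≠ ⊥ := fun a z => hH1 (by
    rw [← card_eq_one, ← (card_eq_one).2 z]
    have e := (stabilizer G α).card_mul_index.trans (stabilizer G a).card_mul_index.symm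
    rw [index_stabilizer_of_transitive, index_stabilizer_of_transitive] at e
    haveI : Nonempty Ω := ⟨a⟩
    exact Nat.eq_of_mul_eq_mul_right Nat.card_pos e)
  have A := fun (ω : Ω) (h : ω ≠ α) => aux (hep α ω) ⟨ω, mem_orbit_self ω⟩ fun g k =>
    S3494.result hprim hH hep α ω h g fun x b => congrArg Subtype.val (k ⟨x, b⟩)
  obtain ⟨ω, hω⟩ : ∃ ω, ω ≠ α := by
    by_contra! z
    exact hH1 (eq_bot_iff.2 fun g _ => eq_of_smul_eq_smul (α := Ω) fun x => (z _).trans (z _).symm)
  set H := stabilizer G α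
  refine ⟨?_, ?_⟩
  · by_contra z
    obtain ⟨c1, c2⟩ := A ω hω (center H) z inferInstance
    have t : center H = ⊤ := eq_top_iff.2 fun g _ => c2 fun y h => (mem_center_iff.1 h g).symm
    obtain ⟨p, hp, d⟩ := Nat.exists_prime_and_dvd (mt card_eq_one.1 hH1)
    haveI := Fact.mk hp
    obtain ⟨x, hx⟩ := exists_prime_orderOf_dvd_card' p d
    haveI : (zpowers x).Normal := ⟨fun y h g => by rwa [mem_center_iff.1 (t.ge (mem_top y)) g, mul_inv_cancel_right]⟩
    have := (A ω hω (zpowers x) (fun e => hp.one_lt.ne' (by rw [← hx, zpowers_eq_bot.1 e, orderOf_one])) inferInstance).1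
    rw [← c1, t, card_top, Nat.card_zpowers, hx] at this
    exact hHp (this ▸ hp)
  by_cases z : fittingSubgroup H = ⊥
  · rw [z]
    exact ⟨inferInstance, 2, 0, Nat.prime_two, by simp, by simp, fun h => absurd rfl h⟩
  obtain ⟨M, hM, l⟩ := H1.exists_isMinNormal_le _ z
  haveI := hM.normal
  haveI : Group.IsNilpotent M := nilpotent_of_mulEquiv (subgroupOfEquivOfLe l)
  obtain ⟨c, p, hp, -, e⟩ := hM.elementary
  have k := (A ω hω M hM.ne_bot c).2
  rw [← le_antisymm l (hM.fitting_le_centralizer.trans k)]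
  haveI := Fact.mk hp
  obtain ⟨n, hn⟩ := (show IsPGroup p M from fun x => ⟨1, Subtype.ext (by simpa using e x x.2)⟩).exists_card_eq
  refine ⟨c, p, n, hp, hn, e, fun _ => ⟨?_, ?_⟩⟩
  · have := H3.dvd_card_of_forall_index (G := H) (X := SubMulAction.ofStabilizer G α) (d := p ^ n) fun x => by
      rw [← hn, (A x x.2 M hM.ne_bot c).1, Nat.card_coe_set_eq, ← index_stabilizer]
      exact index_dvd_of_le fun g k => congrArg Subtype.val k
    rwa [← Nat.card_eq_fintype_card, ← SubMulAction.nat_card_ofStabilizer_add_one_eq G α, Nat.add_sub_cancel]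
  · letI : CommGroup M := { mul_comm := c.1.1 }
    obtain ⟨ρ, φ, h⟩ := H1B.exists_matrix_rep M (fun v => Subtype.ext (e v v.2)) hn
    refine ⟨(ρ.comp MulAut.conjNormal).toHomUnits, Subgroup.ext fun g => ⟨fun a => k fun y b => ?_, fun a => Units.ext ?_⟩⟩
    · have a : ρ (MulAut.conjNormal g) = 1 := congrArg Units.val a
      have := h (MulAut.conjNormal g) ⟨y, b⟩
      rw [a, Matrix.one_mulVec] at this
      exact (mul_inv_eq_iff_eq_mul.1 (congrArg Subtype.val (φ.injective this))).symm
    · show ρ (MulAut.conjNormal g) = 1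
      rw [show MulAut.conjNormal g = (1 : MulAut M) from MulEquiv.ext fun y => Subtype.ext
        (mul_inv_eq_iff_eq_mul.2 (M.le_centralizer a y y.2).symm), map_one]

end Cfsg.Agent.S3497
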