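import Cfsg.Statements.S4039
import Cfsg.Agent.H7.NilMax

set_option autoImplicit false
open Cfsg

namespace Cfsg.Agent.S4039
open H7
open scoped commutatorElement

/-- A finite group possessing a maximal subgroup that is nilpotent of class at most 2 is solvable. -/
theorem result {G : Type*} [Group G] [Finite G]
    (M : Subgroup G) (hmax : IsCoatom M) (hnil : Group.IsNilpotent M) (hcl : Group.nilpotencyClass ↥M ≤ 2) :
    Group.IsSolvable G := by
  open Subgroup in
    refine isSolvable_of_nilp_coatom hmax hnil ?_
    have h : (⊤ : Subgroup M).lowerCentralSeries 2 = ⊥ := Subgroup.lowerCentralSeries_eq_bot_iff_nilpotencyClass_le.2 hcl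
    have h2 : ⁅⁅(⊤ : Subgroup M), (⊤ : Subgroup M)⁆, (⊤ : Subgroup M)⁆ = ⊥ := h
    have h3 := congrArg (Subgroup.map M.subtype) h2
    rw [map_commutator, map_commutator, map_subtype_top, Subgroup.map_bot] at h3
    exact le_cen_mono (comm_eq_bot.1 h3) (commutator_mono (Opi_le _ _) (Opi_le _ _)) (Opi_le _ _)

end Cfsg.Agent.S4039
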