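import Cfsg.Statements.S3554
import Mathlib
import Cfsg.Agent.H8.FrobSol
import Cfsg.Agent.H1.Basic

set_option autoImplicit false
open Cfsg

namespace Cfsg.Agent.S3554

/-- Let G act faithfully and transitively on a finite set and suppose G has a non-trivial cyclic normal subgroup. Then some element of G of prime order fixes no point. -/
theorem result {G Ω : Type*} [Group G] [Finite G] [MulAction G Ω] [FaithfulSMul G Ω] [Finite Ω]
    (htrans : MulAction.IsPretransitive G Ω) (C : Subgroup G) (hC : C.Normal) (hC1 : C ≠ ⊥) (hcyc : IsCyclic ↥C) :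
    ∃ g : G, (orderOf g).Prime ∧ ∀ ω : Ω, g • ω ≠ ω := by
  obtain ⟨p, hp, hd⟩ := Nat.exists_prime_and_dvd (n := Nat.card C) (fun h => hC1 (Subgroup.card_eq_one.1 h))
  obtain ⟨c, hc, ho⟩ := H1.exists_mem_orderOf_eq_prime hp hd
  refine ⟨c, ho ▸ hp, fun ω hω => ?_⟩
  have : c = 1 := by
    refine FaithfulSMul.eq_of_smul_eq_smul (α := Ω) fun x => ?_
    obtain ⟨g, rfl⟩ := htrans.exists_smul_eq ω x
    have h1 : g⁻¹ * c * g⁻¹⁻¹ ∈ C := hC.conj_mem c hc g⁻¹
    obtain ⟨k, hk⟩ := H8.mem_zpowers_of_orderOf_dvd h1 hc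
      (orderOf_dvd_of_pow_eq_one (by rw [conj_pow, pow_orderOf_eq_one]; simp))
    have hk' : c ^ k = g⁻¹ * c * g⁻¹⁻¹ := hk
    have h3 : (c ^ k) • ω = ω := (MulAction.stabilizer G ω).zpow_mem hω k
    rw [hk', inv_inv, mul_smul, mul_smul, inv_smul_eq_iff] at h3
    rw [h3, one_smul]
  rw [this, orderOf_one] at ho
  exact hp.one_lt.ne ho

end Cfsg.Agent.S3554
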