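import Cfsg.Statements.S3555
import Mathlib
import Cfsg.Agent.H1.FrobK

set_option autoImplicit false
open Cfsg

namespace Cfsg.Agent.S3555

/-- Let G act faithfully and transitively on a finite set and suppose every element of G fixing no point is an involution. Then either G is an elementary abelian 2-group, or G is a Frobenius group whose Frobenius kernel is an elementary abelian 2-group: G has a Frobenius complement H, and the elements lying in no conjugate of H, together with the identity, pairwise commute and square to the identity. -/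
theorem result {G Ω : Type*} [Group G] [Finite G] [MulAction G Ω] [FaithfulSMul G Ω] [Finite Ω]
    (htrans : MulAction.IsPretransitive G Ω) (hinv : ∀ g : G, (∀ ω : Ω, g • ω ≠ ω) → orderOf g = 2) :
    (IsMulCommutative G ∧ ∀ g : G, g ^ 2 = 1) ∨
    (∃ H : Subgroup G, Cfsg.IsFrobeniusComplement H ∧
      (∀ x ∈ Cfsg.frobeniusKernel H, x ^ 2 = 1) ∧
      ∀ x ∈ Cfsg.frobeniusKernel H, ∀ y ∈ Cfsg.frobeniusKernel H, x * y = y * x) := by
  classical
  haveI := Fintype.ofFinite G
  haveI := Fintype.ofFinite Ω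
  obtain ⟨a⟩ : Nonempty Ω := by
    by_contra h
    simpa using hinv 1 fun ω => (h ⟨ω⟩).elim
  let f : G → ℤ := fun g => ∑ x : Ω, if g • x = x then 1 else 0
  have sq : ∀ g : G, (∀ ω : Ω, g • ω ≠ ω) → g ^ 2 = 1 := fun g h =>
    hinv g h ▸ pow_orderOf_eq_one g
  have s1 : ∑ g, f g = Fintype.card G := by
    haveI := (MulAction.pretransitive_iff_subsingleton_quotient G Ω).1 htrans
    have := MulAction.sum_card_fixedBy_eq_card_orbits_mul_card_group G Ω
    rw [(Fintype.card_eq_one_iff (α := MulAction.orbitRel.Quotient G Ω)).2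
      ⟨Quotient.mk _ a, fun _ => Subsingleton.elim ..⟩, one_mul] at this
    rw [← this]
    push_cast
    exact Finset.sum_congr rfl fun g _ => by simp [f, Fintype.card_subtype]
  have s2 : ∑ g, f (g ^ 2) ≤ ∑ g, f g * f g := by
    have e1 : ∀ g, f (g ^ 2) = ∑ x : Ω, ∑ y : Ω, if g • x = y ∧ g • y = x then 1 else 0 := fun g =>
      Finset.sum_congr rfl fun x _ => by simp [ite_and, pow_two, mul_smul]
    have e2 : ∀ g, f g * f g = ∑ x : Ω, ∑ y : Ω, if g • x = x ∧ g • y = y then 1 else 0 := fun g => by
      simp only [f, Finset.sum_mul_sum, ite_zero_mul_ite_zero, one_mul]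
    simp only [e1, e2]
    rw [Finset.sum_comm, Finset.sum_comm (s := (Finset.univ : Finset G))]
    refine Finset.sum_le_sum fun x _ => ?_
    rw [Finset.sum_comm, Finset.sum_comm (s := (Finset.univ : Finset G))]
    refine Finset.sum_le_sum fun y _ => ?_
    by_cases h : ∃ t : G, t • x = y ∧ t • y = x
    · obtain ⟨t, h1, h2⟩ := h
      rw [← Equiv.sum_comp (Equiv.mulLeft t)]
      refine (Finset.sum_congr rfl fun g _ => if_congr ?_ rfl rfl).le
      simp only [Equiv.coe_mulLeft, mul_smul]
      rw [← smul_left_cancel_iff t (x := g • x), ← smul_left_cancel_iff t (x := g • y), h1, h2]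
    · exact Finset.sum_le_sum fun g _ => by rw [if_neg fun e => h ⟨g, e⟩]; split_ifs <;> simp
  have le : ∀ g, f g ≤ Fintype.card Ω := fun g => by
    simpa [f] using Finset.card_le_univ _
  have mo : ∀ g, f g ≤ f (g ^ 2) := fun g => Finset.sum_le_sum fun x _ => by
    by_cases h : g • x = x
    · simp [h, pow_two, mul_smul]
    · rw [if_neg h]; split_ifs <;> simp
  have p1 : ∀ (g : G) (x : Ω), g • x = x → 1 ≤ f g := fun g x h => by
    simpa [f] using ⟨x, by simpa using h⟩
  have nn : ∀ g, 0 ≤ f (g ^ 2) - f g - (f g - 1) * (f g - Fintype.card Ω) := fun g => by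
    by_cases h : ∀ ω : Ω, g • ω ≠ ω
    · simp [f, sq g h, h]
    · push Not at h
      obtain ⟨x, h⟩ := h
      nlinarith [le g, mo g, p1 g x h]
  have z := (Finset.sum_eq_zero_iff_of_nonneg fun g (_ : g ∈ Finset.univ) => nn g).1
    (le_antisymm (by
      simp only [Finset.sum_sub_distrib, mul_sub, sub_mul, one_mul, ← Finset.sum_mul, s1,
        Finset.sum_const, Finset.card_univ, nsmul_eq_mul]
      linarith) (Finset.sum_nonneg fun g _ => nn g))
  have two : ∀ (g : G) (x y : Ω), x ≠ y → g • x = x → g • y = y → g = 1 := fun g x y n hx hy => by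
    have a : 2 ≤ f g := by
      have : 1 < (Finset.univ.filter fun x : Ω => g • x = x).card :=
        Finset.one_lt_card.2 ⟨x, by simpa, y, by simpa, n⟩
      simp only [f, Finset.sum_boole]; omega
    have b : f g = Fintype.card Ω := by nlinarith [le g, mo g, z g (Finset.mem_univ g)]
    simp only [f, Finset.sum_boole, Nat.cast_inj, Finset.card_eq_iff_eq_univ,
      Finset.eq_univ_iff_forall, Finset.mem_filter_univ] at b
    exact eq_of_smul_eq_smul fun x : Ω => by simp [b]
  have cm : ∀ x y : G, x ^ 2 = 1 → y ^ 2 = 1 → (x * y) ^ 2 = 1 → x * y = y * x :=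
    fun x y hx hy h => by
    rw [pow_two, mul_eq_one_iff_eq_inv] at hx hy h
    rw [h, mul_inv_rev, ← hx, ← hy]
  have kq : ∀ x ∈ frobeniusKernel (MulAction.stabilizer G a), x ^ 2 = 1 := fun x hx =>
    (H1.mem_frobeniusKernel_iff.1 hx).elim (by simp +contextual) fun h => sq x fun ω e => by
      obtain ⟨g, rfl⟩ := MulAction.exists_smul_eq G a ω
      exact h g (by simp [mul_smul, e])
  by_cases h : MulAction.stabilizer G a = ⊥
  · have : ∀ x : G, x ^ 2 = 1 := fun x => kq x (or_iff_not_imp_left.2 fun n g => by simpa [h])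
    exact .inl ⟨⟨⟨fun x y => cm x y (this _) (this _) (this _)⟩⟩, this⟩
  have fc : IsFrobeniusComplement (MulAction.stabilizer G a) := ⟨h, fun e => h (eq_bot_iff.2
    fun g _ => eq_of_smul_eq_smul fun x : Ω => by
      obtain ⟨u, rfl⟩ := MulAction.exists_smul_eq G a x
      rw [show u • a = a from e.ge (Subgroup.mem_top u), one_smul]
      exact e.ge (Subgroup.mem_top g)), fun g hg => eq_bot_iff.2 fun x hx =>
    two x a (g • a) (Ne.symm hg) hx.1 (by
      obtain ⟨u, hu, rfl⟩ := hx.2
      simp [mul_smul, MulAction.mem_stabilizer_iff.1 hu])⟩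
  obtain ⟨N, hN, -⟩ := H1.FrobC.exists_kernel fc
  exact .inr ⟨_, fc, kq, fun x hx y hy => cm x y (kq x hx) (kq y hy)
    (kq _ (hN.le (N.mul_mem (hN.ge hx) (hN.ge hy))))⟩

end Cfsg.Agent.S3555
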