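import Cfsg.Statements.S3634
import Cfsg.Agent.H7.QC
import Cfsg.Agent.H7.GK

set_option autoImplicit false
open Cfsg

namespace Cfsg.Agent.S3634
open H7
open scoped commutatorElement

/-- Let G be a finite group with normal subgroups K ≤ M, and let p, q, r be distinct primes with p dividing the order of K, q dividing the order of M/K and r dividing the order of G/M. Then p, q, r are not pairwise non-adjacent in the prime graph of G: G has an element of order pq, pr or qr. -/
theorem result {G : Type*} [Group G] [Finite G] (K M : Subgroup G) [K.Normal] [M.Normal] (hKM : K ≤ M)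
    (p q r : ℕ) (hp : p.Prime) (hq : q.Prime) (hr : r.Prime) (hpq : p ≠ q) (hpr : p ≠ r) (hqr : q ≠ r)
    (hpK : p ∣ Nat.card ↥K) (hqM : q ∣ Nat.card ↥M / Nat.card ↥K) (hrG : r ∣ Nat.card G / Nat.card ↥M) :
    (∃ x : G, orderOf x = p * q) ∨ (∃ x : G, orderOf x = p * r) ∨ (∃ x : G, orderOf x = q * r) := by
  open Subgroup in
  haveI := Fact.mk hp
  haveI := Fact.mk hq
  haveI := Fact.mk hr
  by_contra hn
  push Not at hn
  have nK : ⊤ ≤ nrm K := normal_iff_top_le_nrm.1 inferInstance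
  have nM : ⊤ ≤ nrm M := normal_iff_top_le_nrm.1 inferInstance
  obtain ⟨P, hP⟩ := H2.exists_isSylowIn p K
  have e1 := syl_frattini hP le_top nK
  rw [top_inf_eq] at e1
  obtain ⟨Q, hQ⟩ := H2.exists_isSylowIn q (nrm P ⊓ M : Subgroup G)
  have e2 := syl_frattini hQ inf_le_left (nrm_inf (le_nrm_self _) (le_top.trans nM))
  have d1 : q ∣ Nat.card (nrm P ⊓ M : Subgroup G) := by
    have := relIndex_sup_nrm (A := nrm P ⊓ M) (B := K) (le_top.trans nK)
    rw [show nrm P ⊓ M ⊔ K = M by rw [sup_comm, ← modular' (le_top.trans nK) hKM, sup_comm, e1, top_inf_eq]] at this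
    rw [← H2.card_mul_relIndex hKM, Nat.mul_div_cancel_left _ Nat.card_pos, this] at hqM
    exact hqM.trans (relIndex_dvd_card' _ _)
  have d2 : r ∣ Nat.card (nrm P ⊓ nrm Q : Subgroup G) := by
    have := relIndex_sup_nrm (A := nrm P ⊓ nrm Q) (B := M) (le_top.trans nM)
    rw [show nrm P ⊓ nrm Q ⊔ M = ⊤ from top_le_iff.1 (e1.ge.trans (sup_le (e2.ge.trans (sup_le le_sup_left
      (inf_le_right.trans le_sup_right))) (hKM.trans le_sup_right))), relIndex_top_right] at this
    rw [← M.card_mul_index, Nat.mul_div_cancel_left _ Nat.card_pos, this] at hrG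
    exact hrG.trans (relIndex_dvd_card' _ _)
  obtain ⟨R, hR⟩ := H2.exists_isSylowIn r (nrm P ⊓ nrm Q : Subgroup G)
  have n1 : Q ≤ nrm P := hQ.le.trans inf_le_left
  have n2 : R ≤ nrm (Q ⊔ P : Subgroup G) := nrm_sup (hR.le.trans inf_le_right) (hR.le.trans inf_le_left)
  have sv : ∀ {s : ℕ} [Fact s.Prime] {X : Subgroup G}, IsPGroup s X → Group.IsSolvable X := fun h => solv_of_nilp (nilp_of_isPGroup h)
  have pi : ∀ {s : ℕ} [Fact s.Prime] {X : Subgroup G}, s ∈ ({p, q, r} : Set ℕ) → IsPGroup s X → PiN {p, q, r} (Nat.card X) :=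
    fun a b => piN_of_isPGroup a b
  refine no_three_sub (L := R ⊔ (Q ⊔ P)) (π := {p, q, r}) (solv_sup n2 (sv hR.isPGroup) (solv_sup n1 (sv hQ.isPGroup) (sv hP.isPGroup)))
    (PiN.sup n2 (pi (by simp) hR.isPGroup) (PiN.sup n1 (pi (by simp) hQ.isPGroup) (pi (by simp) hP.isPGroup)))
    (fun a ha b hb ne ⟨g, hg⟩ => ?_) hp hq hr hpq hpr hqr
    ((dvd_card_of_isPGroup hP.isPGroup (syl_ne_bot hP hpK)).trans (card_dvd_of_le (le_sup_right.trans le_sup_right)))
    ((dvd_card_of_isPGroup hQ.isPGroup (syl_ne_bot hQ d1)).trans (card_dvd_of_le (le_sup_left.trans le_sup_right)))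
    ((dvd_card_of_isPGroup hR.isPGroup (syl_ne_bot hR d2)).trans (card_dvd_of_le le_sup_left))
  simp only [Set.mem_insert_iff, Set.mem_singleton_iff] at ha hb
  rcases ha with rfl | rfl | rfl <;> rcases hb with rfl | rfl | rfl <;>
    first | exact ne rfl | exact hn.1 g hg | exact hn.2.1 g hg | exact hn.2.2 g hg | exact hn.1 g (mul_comm a b ▸ hg) |
      exact hn.2.1 g (mul_comm a b ▸ hg) | exact hn.2.2 g (mul_comm a b ▸ hg)

end Cfsg.Agent.S3634
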