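import Cfsg.Statements.S3662
import Cfsg.Agent.H0.Rp
import Cfsg.Agent.H0.IG24


set_option autoImplicit false
open Cfsg

namespace Cfsg.Agent.S3662

set_option maxRecDepth 100000
set_option Elab.async false
section
open H0 BN
noncomputable def C := mcP 2 12 6 1 0x41041041041041041 0x40000000000000000001000000000000000000040000000000000000001000000000000000000040000000000000000001000000000000000000040000000000000000001000000000000000000040000000000000000001000000000000000000040000000000000000001 (by decide +kernel)
def c : List ℕ := [0x41000040001001040040000001041041001041001000040040001040041000001001041040041001001040001001040041041001041000041000001000040000040000041000001000040041041001000000001040040041000001000000040041041041000000001040040, 0x1001041040000000041041040001000000041000040000001040040000001000041001000000041041001040000000040040041001000000001000040000000000041000001000000000000000001001000000000000041041000000000000041000000000000000040000, 0x1000040040000000041000001001000041001040001001000040041001041041000000000000041000040000000000040000001000000001041040041000000041040001040000000000000000001000000000000000041000000000000041001000000000000040041, 0x1040041041040001041001040040001041040000041041000040001000040040000001001000001000041041041000041000040040000040041001041041000001040041040040041000040000000040040000001000000001041041000001040001040040000041001041,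 0x41000001041041041040000041040040040001041040000041000041040001000040000001001000041001001041041000040041041040001040040041040001041001001040001041001000040041001040041000001040041040000040000040001001000001000001041, 0x1001040001000041041041001041000040040041041001041041001040040041040040000040040041000041000001001040000040040000040000040001001000001000001041000001001001041000000041041041040000040041040001001041001040001041041040, 0x40001000000000000001041000000000000000040000000000000000001000000000000001000040041000000041000001040000000000040000040000000000001000001000000040001040000040001001041001000001041040040000001000040001001000041000001, 0x1041000000000000041040000000000000040040000000000000001001000000000000040000041001000000001000040041000000040040040040000000001001001001000000001001000040001041041041000001041040041001040040040040040041001001001001, 0x40041000000000000001040000000000000040001000000000000001041000000000000040040040001000000001001001041000000040000040041000000001000001040000000001001040000040041041041001000001040041001040040040001040041001001001041, 0x41000000000000000040000000000000001000000000000000041000000000000000001001000001000000041041000041000000001041041000000000041040040000000000040040041001000041001001040041000040000040001001001000000001041041041000,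 0x1000000000000000041000000000000000001041000000000000041040000000000000001000041000000000041000040000000000001001041001000000041041040041000000001041001000001000041040041000041000040001001001001041001041041041041040, 0x41000000000000000040000000000000000001001000000000000041041000000000000001000001000000000041000041000000000001001041041000000041041040040000000001041001000041000041040041000040000040001001001001001001041041041041041]
theorem ex : ∃ ρ : PG 12 MG24.B →* Matrix (Fin 12) (Fin 12) (ZMod 2), ∀ w, w.all (Nat.blt · 12) = true → ρ (ev (Pres.pg 12 MG24.B).g w) = C.val (C.mev c w) :=
  rep_ex C (by decide +kernel) fun h => (H0.all_take_done (H0.all_take_step (H0.all_take_step (H0.all_take_step (H0.all_take_step (H0.all_take_step (H0.all_take_step (H0.all_take_step (H0.all_take_zero _ MG24.B) (C.rel_one Units.coeHom_injective h (W := (MG24.B.drop 0).take 41) (by decide +kernel))) (C.rel_one Units.coeHom_injective h (W := (MG24.B.drop 41).take 26) (by decide +kernel))) (C.rel_one Units.coeHom_injective h (W := (MG24.B.drop 67).take 27) (by decide +kernel))) (C.rel_one Units.coeHom_injective h (W := (MG24.B.drop 94).take 24) (by decide +kernel))) (C.rel_one Units.coeHom_injective h (W := (MG24.B.drop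 118).take 22) (by decide +kernel))) (C.rel_one Units.coeHom_injective h (W := (MG24.B.drop 140).take 24) (by decide +kernel))) (C.rel_one Units.coeHom_injective h (W := (MG24.B.drop 164).take 17) (by decide +kernel))) (by decide +kernel))
theorem o6 : orderOf (ev (Pres.pg 12 MG24.B).g [5]) = 6 :=
  ev_congr (k := 12) (fun _ h => MG24.g_eq (Pres.pg 12 MG24.B) h) (w := [5]) (by decide) ▸ (MG24.m (Pres.pg 12 MG24.B)).ord_of (MG24.base (Pres.pg 12 MG24.B)) (e := ([5], 6)) (Model.via _ (MG24.mR (Pres.pg 12 MG24.B)) (fun R => ordB R [112, 224, 101, 0] ([5], 6)) (by decide +kernel))
theorem o10 : orderOf (ev (Pres.pg 12 MG24.B).g [8, 3]) = 10 :=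
  ev_congr (k := 12) (fun _ h => MG24.g_eq (Pres.pg 12 MG24.B) h) (w := [8, 3]) (by decide) ▸ (MG24.m (Pres.pg 12 MG24.B)).ord_of (MG24.base (Pres.pg 12 MG24.B)) (e := ([8, 3], 10)) (Model.via _ (MG24.mR (Pres.pg 12 MG24.B)) (fun R => ordB R [112, 224, 101, 0] ([8, 3], 10)) (by decide +kernel))
theorem o7 : orderOf (ev (Pres.pg 12 MG24.B).g [11, 2]) = 7 :=
  ev_congr (k := 12) (fun _ h => MG24.g_eq (Pres.pg 12 MG24.B) h) (w := [11, 2]) (by decide) ▸ (MG24.m (Pres.pg 12 MG24.B)).ord_of (MG24.base (Pres.pg 12 MG24.B)) (e := ([11, 2], 7)) (Model.via _ (MG24.mR (Pres.pg 12 MG24.B)) (fun R => ordB R [112, 224, 101, 0] ([11, 2], 7)) (by decide +kernel))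
theorem o13 : orderOf (ev (Pres.pg 12 MG24.B).g [1, 6]) = 13 :=
  ev_congr (k := 12) (fun _ h => MG24.g_eq (Pres.pg 12 MG24.B) h) (w := [1, 6]) (by decide) ▸ (MG24.m (Pres.pg 12 MG24.B)).ord_of (MG24.base (Pres.pg 12 MG24.B)) (e := ([1, 6], 13)) (Model.via _ (MG24.mR (Pres.pg 12 MG24.B)) (fun R => ordB R [112, 224, 101, 0] ([1, 6], 13)) (by decide +kernel))
theorem pg : ∃ ρ : PG 12 MG24.B →* Matrix (Fin 12) (Fin 12) (ZMod 2), PGr (PG 12 MG24.B) (_ ⋊[mact ρ] _) := by
  obtain ⟨ρ, hρ⟩ := ex
  have := MG24.fin (Pres.pg _ _)
  refine ⟨ρ, pgr_aff _ Nat.prime_two (vec_pow 2) (by rw [MG24.card (Pres.pg _ _)]; decide) fun r hr h2 h => ?_⟩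
  rcases (by decide +kernel : ∀ r ∈ Nat.primeFactorsList 251596800, r = 2 ∨ r = 3 ∨ r = 5 ∨ r = 7 ∨ r = 13) r (fx_dvd hr h (MG24.card (Pres.pg _ _))) with rfl | rfl | rfl | rfl | rfl
  exacts [(h2 rfl).elim, ⟨_, o6⟩, ⟨_, o10⟩, ((nfx ρ (by decide) (by rw [MG24.card (Pres.pg _ _)]; decide +kernel) o7 (hρ _ (by decide)) 0x40040000041041000001001000040040000040040001040040000001001041001001000000041040041001001000040001040041041040000041000001040001000040000041001001001041001001041041041040041041040040040040001040001001001001041001041 0x40001001000041041001041041000040040001000000040000041041000000001000040000000041001040000000000040041001000000000041001000001000000040041000041041041000000040001040040000000001041000041000000001000000040000000041000 (by decide +kernel)) h).elim, ((nfx ρ (by decide) (by rw [MG24.card (Pres.pg _ _)]; decide +kernel) o13 (hρ _ (by decide)) 0x1000041041000000041000040040000000001001041040001001041041040001041041001040000041001001041001000040041041001001041000040001041041040000001041000040001041041040000001041040040001041040041000041000040001040000040000 0x1001040041000041041041001040000040001001001001041000041041041041040000000001040001001041000041001041041040041041001000001040040040041000041001040041041001041001001040040041040041041040041000001041040001040000041040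 (by decide +kernel)) h).elim]
end

/-- The prime graph of a finite group has the prime divisors of its order as vertices, two distinct primes p, q being joined when the group has an element of order pq; two groups have the same prime graph when they have the same prime divisors and the same joined pairs. Let F be the field with 4 elements and L the Chevalley group of type G₂ over F. There are finite groups of arbitrarily large order with the same prime graph as L. -/
theorem result {F : Type*} [Field F] [Fintype F] (hF : Fintype.card F = 4) (N : ℕ) :
    ∃ (H : Type) (_ : Group H) (_ : Finite H), N < Nat.card H ∧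
      ((∀ p : ℕ, p.Prime → (p ∣ Nat.card ↥(Cfsg.Lie.chevG2.group F) ↔ p ∣ Nat.card H)) ∧
      (∀ p q : ℕ, p.Prime → q.Prime → p ≠ q → ((∃ g : ↥(Cfsg.Lie.chevG2.group F), orderOf g = p * q) ↔ (∃ g : H, orderOf g = p * q)))) := by
  obtain ⟨e⟩ := H0.IG24.iso
  have e' := e.trans (H0.chevEquiv (H0.fe H0.G4 hF H0.c4) _)
  have := H0.MG24.fin (H0.Pres.pg _ _)
  have : Finite (Cfsg.Lie.chevG2.group F) := Finite.of_equiv _ e'.toEquiv
  obtain ⟨ρ, h⟩ := pg
  exact H0.aff_pgr _ ((H0.pgr_of_ω (H0.spec_congr e'.symm)).trans h) N

end Cfsg.Agent.S3662
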