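import Cfsg.Statements.S3678
import Cfsg.Agent.H0.Ord2


set_option autoImplicit false
open Cfsg

namespace Cfsg.Agent.S3678

/-- The prime graph of a finite group has the prime divisors of its order as vertices, two distinct primes p, q being joined when the group has an element of order pq; two groups have the same prime graph when they have the same prime divisors and the same joined pairs. Let F be the field with 7 elements. There are finite groups of arbitrarily large order with the same prime graph as PSL(2,F) (the graph on {2, 3, 7} with no edges, which is also the prime graph of PSL(2,8)). -/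
theorem result {F : Type*} [Field F] [Fintype F] (hF : Fintype.card F = 7) (N : ℕ) :
    ∃ (H : Type) (_ : Group H) (_ : Finite H), N < Nat.card H ∧
      ((∀ p : ℕ, p.Prime → (p ∣ Nat.card (Matrix.ProjectiveSpecialLinearGroup (Fin 2) F) ↔ p ∣ Nat.card H)) ∧
      (∀ p q : ℕ, p.Prime → q.Prime → p ≠ q → ((∃ g : (Matrix.ProjectiveSpecialLinearGroup (Fin 2) F), orderOf g = p * q) ↔ (∃ g : H, orderOf g = p * q)))) := by
  have : Fact (Nat.Prime 7) := ⟨by decide⟩
  have : CharP F 7 := charP_of_card_eq_prime hF
  let E := GaloisField 2 3
  letI : Fintype E := Fintype.ofFinite E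
  have hE : Fintype.card E = 8 := by rw [← Nat.card_eq_fintype_card]; exact GaloisField.card 2 3 (by decide)
  exact H0.aff_pgr _ ((H0.pgr_of_lists (H0.psl2_list 7 hF (L := [1, 2, 3, 4, 7]) (by decide))
    (H0.psl2_list 2 hE (L := [1, 2, 3, 7, 9]) (by decide)) (by decide)).trans (H0.sl2_pgr (F := E) (by omega))) N

end Cfsg.Agent.S3678
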