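import Cfsg.Statements.S3807
import Cfsg.Agent.H1.Two5

set_option autoImplicit false
open Cfsg

namespace Cfsg.Agent.S3807

open H7 H1B Subgroup
open scoped commutatorElement

/-- Let S be a non-abelian finite p-group with an abelian subgroup A of index p. Then [S : Z(S)] = p·#[S,S], and either [S,S] has order p, S/Z(S) is elementary abelian of order p², and S has exactly p + 1 abelian subgroups of index p; or [S,S] has order at least p² and A is the only abelian subgroup of index p in S. -/
theorem result {S : Type*} [Group S] [Finite S] (p : ℕ) [Fact p.Prime] (hS : IsPGroup p S) (hna : ¬ IsMulCommutative S)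
    (A : Subgroup S) (hA : IsMulCommutative ↥A) (hAi : A.index = p) :
    (Subgroup.center S).index = p * Nat.card (commutator S) ∧
      ((Nat.card (commutator S) = p ∧ Cfsg.IsElementaryAbelian p (⊤ : Subgroup (S ⧸ Subgroup.center S)) ∧
          Nat.card (S ⧸ Subgroup.center S) = p ^ 2 ∧
          Nat.card {B : Subgroup S // IsMulCommutative ↥B ∧ B.index = p} = p + 1) ∨
        (p ^ 2 ≤ Nat.card (commutator S) ∧ ∀ B : Subgroup S, IsMulCommutative ↥B → B.index = p → B = A)) := by
  have pp : p.Prime := Fact.out
  have cz : ∀ B : Subgroup S, IsMulCommutative B → B.index = p → center S ≤ B := fun B hB hi => by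
    by_contra h
    have t := ((coatom_of_index hi).le_iff.1 (le_sup_left (b := center S))).resolve_right fun e =>
      h (e ▸ le_sup_right)
    refine hna (comm_top'.1 (t ▸ isComm_iff.2 ?_))
    rw [cen_sup]
    exact le_inf (sup_le (isComm_iff.1 hB) (center_le_centralizer _))
      (le_centralizer_iff.1 (center_le_centralizer _))
  have co := coatom_of_index hAi
  obtain ⟨b, -, hb⟩ := SetLike.exists_of_lt co.lt_top
  have nb : b ∈ nrm A := nrm_of_relIndex (pg_top hS) le_top (by rwa [relIndex_top_right]) trivial
  have t : A ⊔ zpowers b = ⊤ := co.2 _ (left_lt_sup.2 fun h => hb (h (mem_zpowers b)))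
  have d := card_der hA nb
  rw [t, der_top_eq] at d
  have z : center S = cen1 b ⊓ A := le_antisymm (le_inf (center_le_centralizer _) (cz A hA hAi))
    fun x hx => by
      rw [← centralizer_univ, ← coe_top, ← t]
      show x ∈ cen _
      rw [cen_sup, cen_zpowers]; exact ⟨isComm_iff.1 hA hx.2, hx.1⟩
  have i : (center S).index = p * Nat.card (commutator S) := by
    rw [← relIndex_mul_index (cz A hA hAi), hAi, d, z, inf_relIndex_right, mul_comm]
  refine ⟨i, ?_⟩
  obtain ⟨k, hk⟩ := card_pgroup (hS.to_subgroup (commutator S))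
  have cyc : ∀ M : Subgroup S, center S ≤ M → (center S).relIndex M = p → IsMulCommutative M := fun M h e => by
    haveI : IsCyclic (M ⧸ (center S).subgroupOf M) := isCyclic_of_prime_card e
    exact ⟨⟨commutative_of_cyclic_center_quotient (QuotientGroup.mk' ((center S).subgroupOf M)) (by
      rw [QuotientGroup.ker_mk']
      exact fun x hx => mem_center_iff.2 fun y => Subtype.ext (mem_center_iff.1 hx y))⟩⟩
  rcases k with _ | _ | k
  · exact (hna (comm_top'.1 (isComm_of_der (der_top_eq.trans (card_eq_one.1 hk))))).elim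
  · left
    rw [zero_add, pow_one] at hk
    rw [hk, ← pow_two] at i
    have he : ∀ x : S ⧸ center S, x ^ p = 1 := fun x => by
      obtain ⟨j, hj, e⟩ := (Nat.dvd_prime_pow pp).1 ((orderOf_dvd_natCard x).trans i.dvd)
      rcases Nat.lt_or_ge j 2 with h | h
      · rw [← orderOf_dvd_iff_pow_eq_one, e]; exact (pow_dvd_pow p (by omega)).trans (pow_one p).dvd
      · haveI : IsCyclic (S ⧸ center S) := isCyclic_of_orderOf_eq_card x (by
          rw [e, le_antisymm hj h, ← i]; rfl)
        exact (hna ⟨⟨commutative_of_cyclic_center_quotient (QuotientGroup.mk' (center S))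
          (QuotientGroup.ker_mk' _).le⟩⟩).elim
    refine ⟨hk, ⟨comm_top'.2 (IsPGroup.isMulCommutative_of_card_eq_prime_sq i), fun x _ => he x⟩, i, ?_⟩
    rw [← ncard_index_p' i fun x => (QuotientGroup.eq_one_iff _).1 (he x)]
    refine congrArg Set.ncard (Set.ext fun M => ⟨fun h => ⟨cz M h.1 h.2, h.2⟩, fun h => ⟨cyc M h.1 ?_, h.2⟩⟩)
    have := relIndex_mul_index h.1
    rw [h.2, i, pow_two] at this
    exact Nat.eq_of_mul_eq_mul_right pp.pos this
  · right
    have l : p ^ 2 ≤ Nat.card (commutator S) := hk ▸ Nat.pow_le_pow_right pp.pos (by omega)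
    refine ⟨l, fun B hB hi => ?_⟩
    by_contra ne
    have t2 : A ⊔ B = ⊤ := co.2 _ (left_lt_sup.2 fun h => ne
      (((coatom_of_index hi).le_iff.1 h).resolve_left co.1).symm)
    have le : A ⊓ B ≤ center S := fun x hx => by
      rw [← centralizer_univ, ← coe_top, ← t2]
      show x ∈ cen _
      rw [cen_sup]; exact ⟨isComm_iff.1 hA hx.1, isComm_iff.1 hB hx.2⟩
    have h1 := Nat.le_of_dvd (Nat.pos_of_ne_zero index_ne_zero_of_finite) (index_dvd_of_le le)
    have h2 := index_inf_le (H := A) (K := B)
    rw [hAi, hi] at h2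
    have := pp.two_le
    nlinarith

end Cfsg.Agent.S3807
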