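import Cfsg.Statements.S3808
import Cfsg.Agent.H2.LX1

set_option autoImplicit false
open Cfsg

namespace Cfsg.Agent.S3808

open Subgroup hiding upperCentralSeries
open H2 Cfsg.FusionSystem

open Subgroup H2 H7 H1B

/-- Let S be a finite p-group with an extraspecial subgroup Q of index p. Then either Z(S) = Z(Q), or S = Q·Z(S) and Z(S) has order p². -/
theorem result {S : Type*} [Group S] [Finite S] (p : ℕ) [Fact p.Prime] (hS : IsPGroup p S) (Q : Subgroup S) (hQ : Cfsg.IsExtraspecial p ↥Q) (hQi : Q.index = p) :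
    Subgroup.center S = (Subgroup.center ↥Q).map Q.subtype ∨
      (Q ⊔ Subgroup.center S = ⊤ ∧ Nat.card (Subgroup.center S) = p ^ 2) := by
  obtain ⟨z, s, nc⟩ := xs_of hQ
  have pT : IsPGroup p (⊤ : Subgroup S) := hS.to_subgroup _
  have o : ord (⊤ : Subgroup S) = p * ord Q := by rw [card_top, ← hQi, mul_comm, card_mul_index]
  haveI := normal_of_index_eq_minFac_card (H := Q) (by
    obtain ⟨n, hn⟩ := IsPGroup.iff_card.1 hS
    have : n ≠ 0 := by rintro rfl; exact nc (by rw [← card_top] at hn; simp [card_eq_one.1 hn, le_top.trans (card_eq_one.1 hn).le |>.trans bot_le])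
    rw [hQi, hn, Nat.Prime.pow_minFac Fact.out this])
  have c : Q ⊓ cen Q ≤ cen ⊤ := le_cen_of_card_le pT (s.pgroup.to_le inf_le_left)
    (nrm_inf (le_nrm_of_normal _ _) (nrm_cen (le_nrm_of_normal _ _))) (s.ctr ▸ (xs_ord s).le)
  rw [center_map_subtype, ← cen_top]
  by_cases l : cen ⊤ ≤ Q
  · exact Or.inl (le_antisymm (le_inf l (cen_anti le_top)) c)
  have e : Q ⊔ cen ⊤ = ⊤ := by
    by_contra e
    have h1 := mul_card_le_of_lt pT (lt_top_iff_ne_top.2 e)
    exact (H7.card_lt_of_lt (left_lt_sup.2 l)).not_ge (Nat.le_of_mul_le_mul_left (o ▸ h1)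
      (Fact.out : p.Prime).pos)
  refine Or.inr ⟨e, ?_⟩
  have := H7.card_sup_mul_card_inf (A := Q) (B := cen ⊤) (nrm_cen (le_nrm_of_normal _ _))
  rw [e, o, show Q ⊓ cen ⊤ = zpowers z from le_antisymm (s.ctr ▸ inf_le_inf_left _ (cen_anti le_top))
    (s.ctr ▸ le_inf inf_le_left c), xs_ord s] at this
  exact (Nat.eq_of_mul_eq_mul_left (card_pos' Q) (this.symm.trans (by ring)))

end Cfsg.Agent.S3808
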