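import Cfsg.Statements.S3809
import Cfsg.Agent.H2.LX1

set_option autoImplicit false
open Cfsg

namespace Cfsg.Agent.S3809

open Subgroup hiding upperCentralSeries
open H2 Cfsg.FusionSystem

open Subgroup H2 H7 H1B
open scoped commutatorElement

/-- Let S be a finite p-group with an extraspecial subgroup of index p. Then S has order p^(2+2n) for some n ≥ 1, derived length at most 3, and exponent dividing p³. -/
theorem result {S : Type*} [Group S] [Finite S] (p : ℕ) [Fact p.Prime] (hS : IsPGroup p S) (Q : Subgroup S) (hQ : Cfsg.IsExtraspecial p ↥Q) (hQi : Q.index = p) :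
    (∃ n : ℕ, 1 ≤ n ∧ Nat.card S = p ^ (2 + 2 * n)) ∧ derivedSeries S 3 = ⊥ ∧ ∀ x : S, x ^ (p ^ 3) = 1 := by
  obtain ⟨z, s, nc⟩ := xs_of hQ
  obtain ⟨r, hr⟩ := s.width
  have pT : IsPGroup p (⊤ : Subgroup S) := hS.to_subgroup _
  have o : Nat.card S = p ^ (2 + 2 * r) := by rw [← card_mul_index Q, hQi, hr]; ring
  haveI := normal_of_index_eq_minFac_card (H := Q) (by
    rw [hQi, o, Nat.Prime.pow_minFac Fact.out (by omega)])
  refine ⟨⟨r, Nat.one_le_iff_ne_zero.2 fun e => nc ((s.comm_iff hr).2 e), o⟩, ?_, fun x => ?_⟩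
  · have h1 : derivedSeries S 1 ≤ Q := by
      haveI : Fact (Nat.card (S ⧸ Q)).Prime := ⟨(show Nat.card (S ⧸ Q) = p from hQi) ▸ Fact.out⟩
      haveI := isCyclic_of_prime_card (p := Nat.card (S ⧸ Q)) rfl
      exact (Subgroup.Normal.quotient_commutative_iff_commutator_le.1 inferInstance)
    have h2 : derivedSeries S 2 ≤ zpowers z := (commutator_mono h1 h1).trans s.der
    exact le_bot_iff.1 ((commutator_mono h2 (h2.trans (zpowers_le.2 s.zm))).trans
      (comm_eq_bot.2 (s.zle.trans inf_le_right)).le)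
  · have := s.pow _ (hQi ▸ Q.pow_index_mem x)
    rw [pow_succ, pow_mul, sq, pow_mul, ← xs_ord s]
    exact pow_card_eq_one'' (xs_ord s ▸ this)

end Cfsg.Agent.S3809
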