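import Cfsg.Statements.S3810
import Cfsg.Agent.H2.LX1

set_option autoImplicit false
open Cfsg

namespace Cfsg.Agent.S3810

open Subgroup hiding upperCentralSeries
open H2 Cfsg.FusionSystem

open Subgroup H2 H7 H1B
open scoped commutatorElement

/-- Let S be a finite p-group with an extraspecial subgroup of index p. Then S has an abelian subgroup of index p if and only if S has order p⁴. -/
theorem result {S : Type*} [Group S] [Finite S] (p : ℕ) [Fact p.Prime] (hS : IsPGroup p S) (Q : Subgroup S) (hQ : Cfsg.IsExtraspecial p ↥Q) (hQi : Q.index = p) :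
    (∃ A : Subgroup S, IsMulCommutative ↥A ∧ A.index = p) ↔ Nat.card S = p ^ 4 := by
  obtain ⟨z, s, nc⟩ := xs_of hQ
  obtain ⟨r, hr⟩ := s.width
  have pp : p.Prime := Fact.out
  have pT : IsPGroup p (⊤ : Subgroup S) := hS.to_subgroup _
  have o : Nat.card S = p * ord Q := by rw [← card_mul_index Q, hQi, mul_comm]
  refine ⟨fun ⟨A, c, i⟩ => ?_, fun h => ?_⟩
  · have r0 : r ≠ 0 := fun e => nc ((s.comm_iff hr).2 e)
    have := xs_small s (inf_le_right : A ⊓ Q ≤ Q) (by
      rw [← relIndex_mul_card_inf A Q]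
      exact Nat.mul_le_mul_right _ (i ▸ relIndex_top_right A ▸ relIndex_le_of_le_right le_top
        (H7.relIndex_pos _ _).ne')) (le_cen_mono (isComm_iff.1 c) inf_le_left inf_le_left)
    rw [hr, Nat.pow_le_pow_iff_right pp.one_lt] at this
    rw [o, hr, show r = 1 by omega]; ring
  · obtain ⟨N, -, n2, n3⟩ := exists_normal_card (k := 2) pT pT (le_nrm_self _)
      (by rw [card_top, h]; exact Nat.pow_le_pow_right pp.pos (by omega))
    have pN := hS.to_subgroup N
    have i := H1B.relIndex_cen_le pT pN n2 n3.le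
    have c := isComm_iff.1 (H1B.comm_of_card_le pN n3.le)
    have h3 := relIndex_mul_card' (le_top : cen N ≤ ⊤)
    rw [card_top, h] at h3
    obtain ⟨B, b1, b2, b3⟩ := exists_card_eq_pow (n := 3) (hS.to_subgroup _) c
      (n3 ▸ Nat.pow_le_pow_right pp.pos (by omega)) (Nat.le_of_mul_le_mul_left
        (by rw [← pow_succ', ← h3]; exact Nat.mul_le_mul_right _ i) pp.pos)
    have h4 := relIndex_mul_card' b1
    rw [n3, b3, pow_succ' p 2, Nat.mul_left_inj (pow_pos pp.pos 2).ne'] at h4
    obtain ⟨a, ha, -, e⟩ := exists_sup_zpowers_of_prime (h4 ▸ pp) b1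
    refine ⟨B, comm_of_cycMod ⟨a, ha, e.ge⟩ b1 (le_cen_symm b2), ?_⟩
    have := card_mul_index B
    rwa [b3, h, pow_succ p 3, Nat.mul_right_inj (pow_pos pp.pos 3).ne'] at this

end Cfsg.Agent.S3810
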