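import Cfsg.Statements.S3811
import Cfsg.Agent.H7.QD

set_option autoImplicit false
open Cfsg

namespace Cfsg.Agent.S3811
open H7
open scoped commutatorElement

section
open Subgroup

open Subgroup H2 H7 in
theorem mx_p {G : Type*} [Group G] [Finite G] {p : ℕ} [hp : Fact p.Prime] (hG : IsPGroup p G) {K L X : Subgroup G}
    (hKL : K ≤ L) (h : K.relIndex L = p) (h1 : K < X) (h2 : X ≤ L) : X = L :=
  eq_of_le_of_card_ge h2 (by rw [card_of_hyper hKL h]; exact mul_card_le_of_lt (hG.to_subgroup X) h1)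

open Subgroup H2 H7 in
theorem ex_cmod {G : Type*} [Group G] [Finite G] {p : ℕ} [hp : Fact p.Prime] (hG : IsPGroup p G) {N Y Z : Subgroup G}
    (h1 : N ≤ nrm Z) (h2 : N ≤ nrm Y) (h3 : Y ≤ nrm Z) (h : ¬ Y ≤ Z) : ∃ w ∈ Y, w ∉ Z ∧ ∀ k ∈ N, ⁅w, k⁆ ∈ Z := by
  have := pgroup_inf_cen_ne_bot' (isPGroup_im (qm Z) (hG.to_subgroup N)) (isPGroup_im (qm Z) (hG.to_subgroup Y))
    (im_le_nrm _ h2) (by rwa [Ne, im_eq_bot_iff h3, kr_qm])
  obtain ⟨⟨_, hw, hc⟩, hne⟩ := ne_bot_iff_exists_ne_one.1 this
  obtain ⟨w, hw', rfl⟩ := (mem_im_of_le h3).1 hw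
  refine ⟨w, hw', fun hz => hne (Subtype.ext ((ev_eq_one_iff (h3 hw')).2 (by rwa [kr_qm]))), fun k hk => ?_⟩
  rw [← kr_qm Z, ← ev_eq_one_iff (by
    rw [commutatorElement_def]
    exact mul_mem (mul_mem (mul_mem (h3 hw') (h1 hk)) (inv_mem (h3 hw'))) (inv_mem (h1 hk))), ev_comm (h3 hw') (h1 hk),
    commutatorElement_eq_one_iff_mul_comm]
  exact (hc _ (ev_mem_im hk)).symm

open Subgroup H2 H7 in
theorem im_lcs {G G' : Type*} [Group G] [Group G'] {D K : Subgroup G} (f : D →* G') (h : K ≤ D) (i : ℕ) :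
    im f (K.lowerCentralSeries i) = (im f K).lowerCentralSeries i := by
  induction i with
  | zero => rfl
  | succ i ih =>
    rw [Subgroup.lowerCentralSeries_succ, Subgroup.lowerCentralSeries_succ,
      im_commutator ((K.lowerCentralSeries_antitone (Nat.zero_le i)).trans h) h, ih]

universe u in
open Subgroup H2 H7 in
theorem soft_main {p : ℕ} [hp : Fact p.Prime] (n : ℕ) : ∀ {G : Type u} [Group G] [Finite G], Nat.card G = n → IsPGroup p G →
    ∀ A : Subgroup G, A ≤ cen A → cen A ≤ A → A.relIndex (nrm A) = p → ∀ K : Subgroup G, A ≤ K → K ≠ ⊤ →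
      K.relIndex (nrm K) = p ∧ ∀ i, A.relIndex K = p ^ i → K.lowerCentralSeries (i + 1) = ⊥ := by
  induction n using Nat.strong_induction_on with
  | _ n ihn =>
  intro G _ _ hn hG A a1 a2 a3
  suffices H : ∀ (m : ℕ) (K : Subgroup G), ord K = m → A ≤ K → K ≠ ⊤ → K.relIndex (nrm K) = p ∧
      (A < K → ⁅nrm A, nrm A⁆ ≤ cen K) ∧ ∀ i, A.relIndex K = p ^ i → K.lowerCentralSeries (i + 1) = ⊥ from
    fun K h1 h2 => ⟨(H _ K rfl h1 h2).1, (H _ K rfl h1 h2).2.2⟩
  intro m
  induction m using Nat.strong_induction_on with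
  | _ m ihm =>
  intro K hm hAK hK
  have sub : ∀ X : Subgroup G, IsPGroup p X := fun X => hG.to_subgroup X
  rcases hAK.eq_or_lt with rfl | hlt
  · refine ⟨a3, fun h => absurd h (lt_irrefl _), fun i _ => ?_⟩
    refine le_bot_iff.1 ((A.lowerCentralSeries_antitone (Nat.le_add_left 1 i)).trans ?_)
    exact (commutator_eq_bot_iff_le_centralizer.2 a1).le
  have ih : ∀ L : Subgroup G, A ≤ L → L < K → L.relIndex (nrm L) = p ∧ (A < L → ⁅nrm A, nrm A⁆ ≤ cen L) := fun L h1 h2 =>
    have := ihm _ (hm ▸ H2.card_lt_of_lt h2) L rfl h1 h2.ne_top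
    ⟨this.1, this.2.1⟩
  have hN1 : nrm A ≤ K := by
    have := pgroup_lt_nrm (sub K) hlt
    rw [← mx_p hG le_normalizer a3 this inf_le_right]; exact inf_le_left
  obtain ⟨M, hAM, hMK, iM, nM⟩ := exists_index_p (sub K) hlt
  have hMlt : M < K := lt_of_le_of_ne hMK fun e => hp.out.one_lt.ne' (by rw [← iM, e, relIndex_self])
  have hNM : nrm M = K := (mx_p hG le_normalizer (ih M hAM hMlt).1 hMlt nM).symm
  have hKN : K < nrm K := by simpa using pgroup_lt_nrm (sub ⊤) (lt_top_iff_ne_top.2 hK)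
  obtain ⟨g, hg, hgK⟩ := SetLike.exists_of_lt hKN
  have eK : cj g K = K := cj_eq_of_mem_normalizer hg
  have hM' : cj g M ≤ K := eK ▸ H2.cj_mono g hMK
  have iM' : (cj g M).relIndex K = p := by rw [← iM, ← H2.relIndex_cj g M K, eK]
  have nM' : K ≤ nrm (cj g M) := by rw [normalizer_cj, hNM, eK]
  have hAM' : ¬ A ≤ cj g M := by
    intro h
    have hI : M ⊓ cj g M < K := inf_le_left.trans_lt hMlt
    have e1 := mx_p hG le_normalizer (ih _ (le_inf hAM h) hI).1 hI (nrm_inf nM nM')
    have e2 := (ih _ (le_inf hAM h) hI).1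
    rw [← e1] at e2
    have e3 : M ⊓ cj g M = M := eq_of_le_of_card_ge inf_le_left (by
      have := (card_of_hyper hI.le e2).symm.trans (card_of_hyper hMK iM)
      exact (Nat.eq_of_mul_eq_mul_left hp.out.pos this).ge)
    apply hgK
    rw [← hNM, mem_normalizer_iff_cj]
    exact (eq_of_le_of_card_ge (inf_eq_left.1 e3) (H2.card_cj _ _).le).symm
  set Z := K ⊓ cen K with hZ
  have ZA : Z ≤ A := inf_le_right.trans ((centralizer_le hAK).trans a2)
  have nZ : nrm K ≤ nrm Z := nrm_center le_rfl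
  have KZ : K ≤ nrm Z := le_normalizer.trans nZ
  have s1 : ⁅nrm A, nrm A⁆ ≤ cen K := by
    by_cases hc : M ⊓ cen M ≤ Z
    · have hAM' : A < M := lt_of_le_of_ne hAM fun e => by
        have : A ≤ cen K := le_trans (by rw [← e]; exact le_inf le_rfl a1) (hc.trans inf_le_right)
        exact hlt.not_ge ((le_cen_symm this).trans a2)
      have hN1M : nrm A ≤ M := by
        have := pgroup_lt_nrm (sub M) hAM'
        rw [← mx_p hG le_normalizer a3 this inf_le_right]; exact inf_le_left
      exact (le_inf ((commutator_le_self _).trans hN1M) ((ih M hAM hMlt).2 hAM')).trans (hc.trans inf_le_right)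
    obtain ⟨w, hw, hwZ, hw'⟩ := ex_cmod hG KZ (nrm_center nM) (inf_le_left.trans (hMK.trans KZ)) hc
    have v1 : g * w * g⁻¹ ∈ K := hM' (conj_mem_cj hw.1)
    have v2 : ∀ k ∈ K, ⁅g * w * g⁻¹, k⁆ ∈ Z := by
      intro k hk
      have : ⁅g * w * g⁻¹, k⁆ = g * ⁅w, g⁻¹ * k * g⁆ * g⁻¹ := by simp only [commutatorElement_def]; group
      rw [this]
      exact (mem_normalizer_iff.1 (nZ hg) _).1 (hw' _ (by simpa using (mem_normalizer_iff.1 (inv_mem hg) k).1 hk))
    have v3 : g * w * g⁻¹ ∈ cen (cj g M) := by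
      rw [centralizer_cj]; exact conj_mem_cj hw.2
    have v4 : g * w * g⁻¹ ∉ A := by
      intro h
      have e : cj g M ⊔ A = K := mx_p hG hM' iM' (left_lt_sup.2 hAM') (sup_le hM' hAK)
      apply hwZ
      have : g * w * g⁻¹ ∈ Z := ⟨v1, by
        rw [← e]; exact le_cen_sup (C := zpowers _) (zpowers_le.2 v3) (zpowers_le.2 (a1 h)) (mem_zpowers _)⟩
      exact (mem_normalizer_iff.1 (nZ hg) _).2 this
    have v5 : g * w * g⁻¹ ∈ nrm A := mem_normalizer_of_conj_mem fun a ha => by
      have : g * w * g⁻¹ * a * (g * w * g⁻¹)⁻¹ = ⁅g * w * g⁻¹, a⁆ * a := by simp only [commutatorElement_def]; group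
      rw [this]; exact mul_mem (ZA (v2 a (hAK ha))) ha
    have e : A ⊔ zpowers (g * w * g⁻¹) = nrm A :=
      mx_p hG le_normalizer a3 (left_lt_sup.2 (by rwa [zpowers_le])) (sup_le le_normalizer (zpowers_le.2 v5))
    refine le_trans (b := Z) ?_ inf_le_right
    have d1 : nrm A ≤ nrm Z := hN1.trans KZ
    rw [← kr_qm Z, ← im_le_cen_iff d1 d1]
    have c1 : im (qm Z) (zpowers (g * w * g⁻¹)) ≤ cen (im (qm Z) (nrm A)) := by
      rw [im_zpowers (KZ v1), zpowers_le]
      intro y hy
      obtain ⟨y, hy', rfl⟩ := (mem_im_of_le d1).1 hy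
      rw [eq_comm, ← commutatorElement_eq_one_iff_mul_comm, ← ev_comm (KZ v1) (d1 hy'), ← mem_bot (G := Quo Z), ← im_qm_self]
      exact ev_mem_im (v2 y (hN1 hy'))
    have c2 : im (qm Z) (nrm A) = im (qm Z) A ⊔ im (qm Z) (zpowers (g * w * g⁻¹)) := by
      rw [← im_sup (hAK.trans KZ) (zpowers_le.2 (KZ v1)), e]
    conv_lhs => rw [c2]
    refine sup_le ?_ c1
    rw [c2]
    exact le_cen_sup (im_le_cen _ a1) (le_cen_symm (c1.trans (centralizer_le (im_mono _ le_normalizer))))
  have d1 : nrm A ≤ nrm Z := hN1.trans KZ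
  have kA : kr (qm Z) ≤ A := by rw [kr_qm]; exact ZA
  have sc : cen (im (qm Z) (nrm A)) ≤ im (qm Z) (nrm A) := by
    intro y hy
    obtain ⟨x, hx, rfl⟩ := (mem_im_of_le (f := qm Z) le_rfl).1 (by rw [im_qm_dom]; exact mem_top y)
    refine ev_mem_im (mem_normalizer_of_conj_mem fun a ha => ?_)
    rw [← ev_mem_im_iff (f := qm Z) (mul_mem (mul_mem hx (KZ (hAK ha))) (inv_mem hx)) kA, ev_conj hx (KZ (hAK ha)),
      ← hy _ (ev_mem_im (le_normalizer ha)), mul_inv_cancel_right]
    exact ev_mem_im ha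
  have fin : ∀ i, (im (qm Z) K).lowerCentralSeries i = ⊥ → K.lowerCentralSeries (i + 1) = ⊥ := by
    intro i h
    rw [← im_lcs _ KZ, im_eq_bot_iff ((K.lowerCentralSeries_antitone (Nat.zero_le i)).trans KZ), kr_qm] at h
    exact commutator_eq_bot_iff_le_centralizer.2 (h.trans inf_le_right)
  have ab : im (qm Z) (nrm A) ≤ cen (im (qm Z) (nrm A)) := by
    rw [im_le_cen_iff d1 d1, kr_qm]
    exact le_inf ((commutator_le_self _).trans hN1) s1
  rcases hN1.eq_or_lt with e | hlt1
  · have hMA : M = A := by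
      rcases hAM.eq_or_lt with h | h
      · exact h.symm
      · exact absurd (mx_p hG le_normalizer a3 h (e ▸ hMK)) (e ▸ hMlt.ne)
    subst hMA
    refine ⟨le_antisymm ?_ ?_, fun _ => s1, fun i hi => ?_⟩
    · have e1 : cj g M ⊔ M = K := mx_p hG hM' iM' (left_lt_sup.2 hAM') (sup_le hM' hAK)
      have e2 : M ⊓ cj g M ≤ Z := le_inf (inf_le_left.trans hAK) (by
        rw [← e1]
        exact le_cen_sup (inf_le_right.trans (by rw [centralizer_cj]; exact H2.cj_mono g a1)) (inf_le_left.trans a1))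
      have o : ord (im (qm Z) K) ≤ p ^ 2 := by
        rw [card_im_qm KZ]
        refine (relIndex_le_of_le_left e2 (Subgroup.index_ne_zero_of_finite)).trans ((relIndex_inf_le).trans ?_)
        rw [iM, iM', pow_two]
      have := relIndex_cen_le (isPGroup_im (qm Z) (sub (nrm K))) (isPGroup_im (qm Z) (sub K)) (im_le_nrm _ le_rfl) o
      rw [← relIndex_im (f := qm Z) nZ (kA.trans hAK)]
      exact (relIndex_le_of_le_left (e ▸ sc) (Subgroup.index_ne_zero_of_finite)).trans this
    · have := mul_card_le_of_lt (sub _) hKN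
      rw [← card_mul_relIndex (le_normalizer : K ≤ nrm K), mul_comm] at this
      exact Nat.le_of_mul_le_mul_left this Nat.card_pos
    · rw [iM] at hi
      have : i = 1 := (Nat.pow_right_injective hp.out.two_le ((pow_one p).trans hi)).symm
      subst this
      exact commutator_eq_bot_iff_le_centralizer.2 (by rw [← e] at s1 ⊢; exact s1)
  have Z1 : Z ≠ ⊥ := pgroup_inf_cen_ne_bot' (sub K) (sub K) le_normalizer (bot_le.trans_lt hlt).ne'
  have hlt2 : Nat.card (Quo Z) < n := by
    rw [← card_top, ← im_qm_dom, ← hn]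
    exact (card_im_lt le_rfl (by rwa [kr_qm, inf_eq_right.2 le_normalizer])).trans_le (card_le_card_group _)
  have pQ : IsPGroup p (Quo Z) := (sub (nrm Z)).of_surjective (qm Z) (QuotientGroup.mk'_surjective _)
  have nim : ∀ X : Subgroup G, A ≤ X → X ≤ nrm Z → nrm (im (qm Z) X) = im (qm Z) (nrm X) := by
    intro X h1 h2
    rw [← top_inf_eq (nrm (im (qm Z) X)), ← im_qm_dom, ← im_nrm_inf le_rfl h2 (kA.trans h1), inf_comm, im_inf_dom]
  have i1 := (ih _ le_normalizer hlt1).1
  have N2 : nrm (nrm A) ≤ K := by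
    have := pgroup_lt_nrm (sub K) hlt1
    rw [← mx_p hG le_normalizer i1 this inf_le_right]; exact inf_le_left
  obtain ⟨r1, r2⟩ := ihn _ hlt2 rfl pQ (im (qm Z) (nrm A)) ab sc (by
    rw [nim _ le_normalizer d1, relIndex_im (N2.trans KZ) (kA.trans le_normalizer), i1]) (im (qm Z) K) (im_mono _ hN1) (by
    intro h
    apply hgK
    rw [← ev_mem_im_iff (f := qm Z) (nZ hg) (kA.trans hAK), h]; trivial)
  rw [nim K hAK KZ, relIndex_im nZ (kA.trans hAK)] at r1
  refine ⟨r1, fun _ => s1, fun i hi => fin i ?_⟩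
  rw [← relIndex_mul_relIndex A (nrm A) K le_normalizer hN1, a3] at hi
  obtain ⟨j, hj⟩ := relIndex_pgroup (sub K) (nrm A)
  rw [hj, ← pow_succ'] at hi
  rw [← Nat.pow_right_injective hp.out.two_le hi]
  exact r2 j (by rw [relIndex_im KZ (kA.trans le_normalizer), hj])

end

/-- Let P be a finite p-group and E an abelian subgroup of P that contains its centralizer, has index p in its normalizer, and has index at least p² in P. Then the subgroups of P containing E are totally ordered by inclusion, each proper one has index p in its normalizer (so they form the normalizer tower of E, with all steps of index p), and the i-th member of the tower above E has nilpotency class i + 1 whenever it is a proper subgroup of P. -/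
theorem result {P : Type*} [Group P] [Finite P] (p : ℕ) [Fact p.Prime] (hP : IsPGroup p P)
    (E : Subgroup P) (hEab : IsMulCommutative ↥E) (hC : Subgroup.centralizer (E : Set P) ≤ E)
    (hN : (E.subgroupOf (Subgroup.normalizer (E : Set P))).index = p) (hidx : p ^ 2 ≤ E.index) :
    (∀ K L : Subgroup P, E ≤ K → E ≤ L → K ≤ L ∨ L ≤ K) ∧
      (∀ K : Subgroup P, E ≤ K → K ≠ ⊤ → (K.subgroupOf (Subgroup.normalizer (K : Set P))).index = p) ∧
      ∀ (i : ℕ) (K : Subgroup P) [Group.IsNilpotent ↥K], E ≤ K → K ≠ ⊤ → K.index * p ^ i = E.index →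
        Group.nilpotencyClass ↥K = i + 1 := by
  open Subgroup in
  open Subgroup H2 H7 in
  have hp : p.Prime := Fact.out
  have a1 : E ≤ cen E := le_centralizer_iff_isMulCommutative.2 hEab
  have main := soft_main _ rfl hP E a1 hC hN
  have sub : ∀ X : Subgroup P, IsPGroup p X := fun X => hP.to_subgroup X
  refine ⟨fun K L hK hL => ?_, fun K h1 h2 => (main K h1 h2).1, fun i K _ h1 h2 h3 => ?_⟩
  · by_contra h
    rw [not_or] at h
    have k1 : K ⊓ L < K := inf_lt_left.2 h.1
    have k2 : K ⊓ L < L := inf_lt_right.2 h.2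
    have i := (main _ (le_inf hK hL) k1.ne_top).1
    have e1 := mx_p hP le_normalizer i (pgroup_lt_nrm (sub K) k1) inf_le_right
    have e2 := mx_p hP le_normalizer i (pgroup_lt_nrm (sub L) k2) inf_le_right
    have := pgroup_lt_nrm (sub K) k1
    rw [e1] at this
    exact this.not_ge (le_inf (e1 ▸ inf_le_left) (e2 ▸ inf_le_left))
  · have hi : E.relIndex K = p ^ i := by
      have := relIndex_mul_index h1
      rw [← h3, mul_comm] at this
      exact Nat.eq_of_mul_eq_mul_left (Nat.pos_of_ne_zero index_ne_zero_of_finite) this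
    have tr : ∀ c, K.lowerCentralSeries c = ⊥ ↔ Group.nilpotencyClass K ≤ c := fun c => by
      rw [← Subgroup.lowerCentralSeries_eq_bot_iff_nilpotencyClass_le, ← top_subtype_lowerCentralSeries, map_eq_bot_iff_of_injective _ K.subtype_injective]
    refine le_antisymm ((tr _).1 ((main K h1 h2).2 i hi)) ?_
    obtain ⟨c, hc⟩ : ∃ c, Group.nilpotencyClass K = c := ⟨_, rfl⟩
    have h0 := (tr c).2 hc.le
    rw [hc]
    cases c with
    | zero =>
      exfalso
      have : E = ⊥ := le_bot_iff.1 (h1.trans h0.le)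
      apply h2
      rw [this] at hC
      exact eq_top_iff.2 ((le_cen_bot ⊤).trans (hC.trans bot_le))
    | succ c =>
    have hle : ∀ j, K.lowerCentralSeries j ≤ K := fun j => K.lowerCentralSeries_antitone (Nat.zero_le j)
    have key : ∀ d j, j + d = c → ord (E ⊔ K.lowerCentralSeries j) ≤ p ^ d * ord E := by
      intro d
      induction d with
      | zero =>
        intro j hj
        rw [pow_zero, one_mul]
        refine card_le_of_le (sup_le le_rfl (le_trans ?_ ((centralizer_le h1).trans hC)))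
        rw [← commutator_eq_bot_iff_le_centralizer, show j = c by omega]; exact h0
      | succ d ih =>
        intro j hj
        have hn : E ⊔ K.lowerCentralSeries j ≤ nrm (E ⊔ K.lowerCentralSeries (j + 1)) :=
          sup_le (le_sup_left.trans le_normalizer) (le_nrm_of_comm_le' (sup_le h1 (hle _)) (by
            rw [commutator_comm]; exact le_sup_right))
        have := (main _ le_sup_left (ne_top_of_le_ne_top h2 (sup_le h1 (hle (j + 1))))).1
        refine (card_le_of_le hn).trans ?_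
        rw [card_of_hyper le_normalizer this, pow_succ', mul_assoc]
        exact Nat.mul_le_mul_left _ (ih (j + 1) (by omega))
    have := key c 0 (by omega)
    rw [Subgroup.lowerCentralSeries_zero, sup_eq_right.2 h1, ← card_mul_relIndex h1, hi, mul_comm] at this
    exact Nat.succ_le_succ ((Nat.pow_le_pow_iff_right hp.one_lt).1 (Nat.le_of_mul_le_mul_right this Nat.card_pos))

end Cfsg.Agent.S3811
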