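import Cfsg.Statements.S3824
import Cfsg.Agent.H1.V3
import Cfsg.Agent.H1.Kaz

set_option autoImplicit false
open Cfsg

namespace Cfsg.Agent.S3824

open H7 H1B Subgroup
universe u
theorem aux (n : ℕ) : ∀ (G : Type u) [Group G] [Finite G], Nat.card G = n → ∀ A : Subgroup G,
    IsMulCommutative A → (∃ k, A.index = 2 ^ k) → Group.IsSolvable G := by
  induction n using Nat.strong_induction_on with
  | _ n ih =>
  intro G _ _ hn A hA ⟨k, hk⟩
  by_cases c : A = ⊥
  · rw [c, index_bot] at hk
    exact solv_top.1 (solv_of_isPGroup (pg_top_iff.2 (IsPGroup.of_card hk)))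
  obtain ⟨a, ha, h1⟩ := exists_ne_one c
  obtain ⟨j, -, hj⟩ := (Nat.dvd_prime_pow Nat.prime_two).1
    (hk ▸ index_dvd_of_le ((isComm_iff.1 hA).trans (cen_le_cen1 ha)))
  obtain ⟨i, -, hi⟩ := (Nat.dvd_prime_pow Nat.prime_two).1
    (hk ▸ index_map_dvd A (QuotientGroup.mk'_surjective (normalClosure ({a} : Set G))))
  refine solv_of_quot _ (kazarin Nat.prime_two hj) (ih _ (hn ▸ card_quot_lt _ fun c => h1 (mem_bot.1 (c ▸ subset_normalClosure rfl))) _ rfl _ ?_ ⟨i, hi⟩)
  · rw [← im_top]; exact isComm_im _ hA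

/-- Every finite group having an abelian subgroup whose index is a power of 2 is solvable. -/
theorem result {G : Type*} [Group G] [Finite G]
    (A : Subgroup G) (hA : IsMulCommutative A) (hidx : ∃ k : ℕ, A.index = 2 ^ k) : Group.IsSolvable G := by
  exact aux _ G rfl A hA hidx

end Cfsg.Agent.S3824
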