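import Cfsg.Statements.S4014
import Cfsg.Agent.H1.U1
import Cfsg.Agent.H1.PG1
import Cfsg.Agent.H7.PLen

set_option autoImplicit false
open Cfsg

namespace Cfsg.Agent.S4014

open H7 H1B Subgroup
open scoped commutatorElement RegularWreathProduct
theorem dS_le_of {G : Type*} [Group G] [Finite G] {p : ℕ} [hp : Fact p.Prime] (k : ℕ) : ∀ P S : Subgroup G, IsPGroup p P →
    S.relIndex P < p ^ (k + 1) → dS k P ≤ S := by
  induction k with
  | zero =>
    intro P S hP h
    obtain ⟨j, hj⟩ := relIndex_pgroup hP S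
    rw [hj, Nat.pow_lt_pow_iff_right hp.1.one_lt] at h
    obtain rfl : j = 0 := by omega
    exact relIndex_eq_one.1 hj
  | succ k ih =>
    intro P S hP h
    by_cases l : P ≤ S
    · exact dS_le.trans l
    obtain ⟨B, h1, h2, i, n⟩ := exists_index_p hP (A := S ⊓ P) (lt_of_le_of_ne inf_le_right fun e => l (e.ge.trans inf_le_left))
    rw [dS_add]
    refine (dS_mono (der_le_of_relIndex_le hP n (i ▸ Nat.le_self_pow two_ne_zero _))).trans
      ((ih B (S ⊓ P) (hP.to_le h2) ?_).trans inf_le_left)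
    rw [← inf_relIndex_right, ← relIndex_mul_relIndex _ _ _ h1 h2, i, pow_succ] at h
    exact lt_of_mul_lt_mul_right h (Nat.zero_le _)

theorem dS_perm {α : Type*} [Finite α] {p : ℕ} [hp : Fact p.Prime] {k : ℕ} (h : Nat.card α < p ^ (k + 1))
    {P : Subgroup (Equiv.Perm α)} (hP : IsPGroup p P) : dS k P = ⊥ := by
  refine le_bot_iff.1 fun g hg => Equiv.ext fun a => dS_le_of k P (MulAction.stabilizer _ a) hP (lt_of_le_of_lt ?_ h) hg
  rw [relIndex, show (MulAction.stabilizer (Equiv.Perm α) a).subgroupOf P = MulAction.stabilizer P a from rfl,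
    MulAction.index_stabilizer]
  exact Set.ncard_le_card _

theorem wr {D Q : Type*} [Group D] [Group Q] [Nontrivial Q] {j : ℕ} (h : dS j (⊤ : Subgroup D) ≠ ⊥) :
    dS (j + 1) (⊤ : Subgroup (D ≀ᵣ Q)) ≠ ⊥ := by
  classical
  let ι : (Q → D) →* D ≀ᵣ Q := MonoidHom.mk' (fun f => ⟨f, 1⟩) fun a b => by ext <;> simp
  have inj : Function.Injective ι := fun a b e => congrArg RegularWreathProduct.left e
  obtain ⟨q, hq⟩ := exists_ne (1 : Q)
  have e : ((dS 1 ⊤).comap ι).map (Pi.evalMonoidHom (fun _ => D) 1) = ⊤ := top_le_iff.1 fun d _ => by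
    refine ⟨Pi.mulSingle 1 d * fun x => (Pi.mulSingle (1 : Q) d : Q → D)⁻¹ (q⁻¹ * x), ?_, by simp [hq]⟩
    have := commutator_mem_commutator (mem_top (ι (Pi.mulSingle 1 d))) (mem_top (RegularWreathProduct.inl q))
    rw [show ⁅ι (Pi.mulSingle 1 d), RegularWreathProduct.inl q⁆ =
      ι (Pi.mulSingle 1 d * fun x => (Pi.mulSingle (1 : Q) d : Q → D)⁻¹ (q⁻¹ * x)) by
        ext <;> simp [ι, commutatorElement_def]] at this
    exact this
  intro c
  refine h ?_
  have : dS j ((dS 1 ⊤).comap ι) = ⊥ := (map_eq_bot_iff_of_injective _ inj).1 (le_bot_iff.1 (by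
    rw [map_dS, ← c, dS_add]
    exact dS_mono (map_comap_le _ _)))
  rw [← e, ← map_dS, this, Subgroup.map_bot]

theorem iter (Q : Type) [Group Q] [Nontrivial Q] (k : ℕ) : dS k (⊤ : Subgroup (IteratedWreathProduct Q (k + 1))) ≠ ⊥ := by
  induction k with
  | zero =>
    obtain ⟨q, hq⟩ := exists_ne (1 : Q)
    exact fun e => hq (congrArg RegularWreathProduct.right
      (mem_bot.1 (e.le (mem_top (RegularWreathProduct.inl q : PUnit ≀ᵣ Q)))))
  | succ k ih => exact wr ih

/-- Let p be a prime, n ≥ 1, and P a Sylow p-subgroup of the symmetric group on n letters. Then the derived length of P is exactly k = ⌊log_p n⌋ (the largest k with p^k ≤ n): the k-th derived subgroup of P is trivial and, when k ≥ 1, the (k−1)-st is not. -/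
theorem result (p : ℕ) [Fact p.Prime] (n : ℕ) (hn : 1 ≤ n) (P : Sylow p (Equiv.Perm (Fin n))) : derivedSeries ↥(P : Subgroup (Equiv.Perm (Fin n))) (Nat.log p n) = ⊥ ∧ (1 ≤ Nat.log p n → derivedSeries ↥(P : Subgroup (Equiv.Perm (Fin n))) (Nat.log p n - 1) ≠ ⊥) := by
  have hp := (Fact.out : p.Prime)
  refine ⟨dS_eq_bot.2 (dS_perm (by simpa using Nat.lt_pow_succ_log_self hp.one_lt n) P.isPGroup'), fun h1 => ?_⟩
  obtain ⟨k, hk⟩ : ∃ k, Nat.log p n = k + 1 := ⟨_, (Nat.sub_add_cancel h1).symm⟩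
  rw [hk, Nat.add_sub_cancel, Ne, dS_eq_bot]
  haveI : NeZero p := ⟨hp.ne_zero⟩
  obtain ⟨ι⟩ : Nonempty ((Fin (k + 1) → Multiplicative (ZMod p)) ↪ Fin n) := Function.Embedding.nonempty_of_card_le (by
    simpa [← hk] using Nat.pow_log_le_self p (by omega : n ≠ 0))
  let φ := (Equiv.Perm.viaEmbeddingHom ι).comp (iteratedWreathToPermHom (Multiplicative (ZMod p)) (k + 1))
  have inj : Function.Injective φ := (Equiv.Perm.viaEmbeddingHom_injective ι).comp (iteratedWreathToPermHomInj _ _)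
  have pg : IsPGroup p (IteratedWreathProduct (Multiplicative (ZMod p)) (k + 1)) :=
    IsPGroup.of_card (by rw [IteratedWreathProduct.card, show Nat.card (Multiplicative (ZMod p)) = p from Nat.card_zmod p])
  obtain ⟨g, -, hg⟩ := (syl_top P).exists_cj_le ((pg.to_subgroup ⊤).map φ) le_top
  intro c
  have := (dS_mono (k := k) hg).trans c.le
  rw [H2.cj_def, ← map_dS, le_bot_iff, map_eq_bot_iff_of_injective _ (MulAut.conj g).injective, ← map_dS,
    map_eq_bot_iff_of_injective _ inj] at this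
  exact iter _ k this

end Cfsg.Agent.S4014
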