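import Cfsg.Statements.S3835
import Cfsg.Agent.H2.Qd2
import Cfsg.Agent.H7.FF2
import Cfsg.Agent.S4014

set_option autoImplicit false
open Cfsg

namespace Cfsg.Agent.S3835

open H7 H1B Subgroup
open scoped commutatorElement

/-- Let p be an odd prime and n a natural number. The alternating group of degree n has a subgroup isomorphic to Qd(p) (the natural semidirect product of an elementary abelian group of order p² by SL₂(p)) if and only if n ≥ p²; and if n < p² then Qd(p) is not even involved in it. -/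
theorem result {p : ℕ} [Fact p.Prime] (hp : p ≠ 2) (n : ℕ) : ((∃ H : Subgroup (alternatingGroup (Fin n)), Nonempty (↥H ≃* ↥(Cfsg.qd p))) ↔ p ^ 2 ≤ n) ∧ (n < p ^ 2 → ¬ Cfsg.Involves ↥(Cfsg.qd p) ↥(alternatingGroup (Fin n))) := by
  have hpp := (Fact.out : p.Prime)
  have two : n < p ^ 2 → ¬ Involves (qd p) (alternatingGroup (Fin n)) := fun h i => by
    obtain ⟨T, hT⟩ := H2.exists_isSylowIn p (alternatingGroup (Fin n))
    refine not_comm_syl_of_inv i ⟨H2.qS (ZMod p), (H2.syl_qS (F := ZMod p)).2, fun c => ?_⟩ hT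
      (isComm_of_der (S4014.dS_perm (k := 1) (by simpa using h) hT.2))
    have m : H2.qa (H4.slUp (1 : ZMod p)) 0 ∈ cen (H2.qV (ZMod p)) :=
      centralizer_le H2.qV_le_qS ((H7.isComm_iff (A := H2.qS (ZMod p))).1 c (H2.mem_qS.2 ⟨1, 0, rfl⟩))
    rw [H2.cen_qV, H2.qa_mem_qV] at m
    have := congrArg (fun M : Matrix.SpecialLinearGroup (Fin 2) (ZMod p) => M 0 1) m
    simp [H4.slUp] at this
  refine ⟨⟨fun ⟨H, ⟨e⟩⟩ => not_lt.1 fun h => two h (H2.inv_trans (H2.inv_of_equiv e) (H2.inv_subgroup H)), fun h => ?_⟩, two⟩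
  haveI : NeZero p := ⟨hpp.ne_zero⟩
  obtain ⟨ι⟩ : Nonempty ((Fin 2 → ZMod p) ↪ Fin n) := Function.Embedding.nonempty_of_card_le (by simpa using h)
  let φ := (Equiv.Perm.viaEmbeddingHom ι).comp (H2.qperm (F := ZMod p))
  have inj : Function.Injective φ := (Equiv.Perm.viaEmbeddingHom_injective ι).comp H2.qperm_inj
  have hS := H2.syl_qS (F := ZMod p) (p := p)
  have l : H2.qS (ZMod p) ≤ (alternatingGroup (Fin n)).comap φ := fun g hg => by
    obtain ⟨k, hk⟩ := hS.2 ⟨g, hg⟩
    have e := congrArg (fun x : H2.qS (ZMod p) => Equiv.Perm.sign (φ x)) hk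
    simp only [SubgroupClass.coe_pow, map_pow, OneMemClass.coe_one, map_one] at e
    rcases Int.units_eq_one_or (Equiv.Perm.sign (φ g)) with s | s
    · exact s
    · rw [s, ((hpp.odd_of_ne_two hp).pow).neg_one_pow] at e
      exact absurd e (by decide)
  have t : (alternatingGroup (Fin n)).comap φ = ⊤ := (H2.nrm_qS_max l).resolve_left fun k => H2.nrm_qS_ne (F := ZMod p)
    (top_le_iff.1 fun g _ => mem_nrm_of_cj_le (hS.le_of_le_normalizer (H7.isPGroup_cj.2 hS.2) le_top
      ((cj_le_of_mem_nrm (le_nrm_of_normal ⊤ _ (mem_top g)) l).trans k)))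
  exact ⟨_, ⟨(MonoidHom.ofInjective (f := φ.codRestrict _ fun g => t.ge (mem_top g))
    fun a b e => inj (congrArg Subtype.val e)).symm⟩⟩

end Cfsg.Agent.S3835
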