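import Cfsg.Statements.S3869
import Cfsg.Agent.H7.Tk7
import Cfsg.Agent.H1.V2
import Cfsg.Agent.H1.Action2

set_option autoImplicit false
open Cfsg

namespace Cfsg.Agent.S3869
open H7
open scoped commutatorElement

section
open Subgroup

theorem core {G : Type*} [Group G] [Finite G] {p q : ℕ} [hp : Fact p.Prime] [hq : Fact q.Prime] (hpq : q ≠ p) {A P : Subgroup G}
    (hA : EA q A) (oP : Nat.card P = p) (hn : P ≤ normalizer (A : Set G))
    (hi : ∀ U : Subgroup G, P ≤ normalizer (U : Set G) → U ≤ A → U = ⊥ ∨ U = A) (h : ¬ P ≤ centralizer (A : Set G)) :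
    Nat.card A = q ^ orderOf (q : ZMod p) := by
  haveI := hA.comm
  have z : A ⊓ centralizer (P : Set G) = ⊥ := (hi _ (nrm_inf hn (nrm_cen (le_nrm_self P))) inf_le_left).resolve_right
    fun e => h (le_cen_symm (inf_eq_left.1 e))
  have d := (reg_of_card_prime (oP ▸ hp.out) z).dvd hn
  obtain ⟨n, e⟩ := IsPGroup.iff_card.1 hA.isPGroup
  have n0 : n ≠ 0 := fun k => h (by
    rw [k, pow_zero, card_eq_one] at e
    rw [e]; exact le_cen_symm bot_le)
  rw [oP, e, ← Nat.modEq_iff_dvd' (Nat.one_le_pow _ _ hq.out.pos), ← ZMod.natCast_eq_natCast_iff] at d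
  have d2 : orderOf (q : ZMod p) ∣ n := orderOf_dvd_of_pow_eq_one (by exact_mod_cast d.symm)
  have m0 : orderOf (q : ZMod p) ≠ 0 := fun k => n0 (Nat.eq_zero_of_zero_dvd (k ▸ d2))
  refine le_antisymm (H1.card_le_of_irreducible_abelian hq.out m0 hn hA.isPGroup hi
    ((comm_eq_bot.2 (isComm_iff.1 (isComm_of_cyc (cyc_of_card_p oP)))).le.trans bot_le) fun a ha => ?_)
    (e ▸ Nat.pow_le_pow_right hq.out.pos (Nat.le_of_dvd (Nat.pos_of_ne_zero n0) d2))
  have : p ∣ q ^ orderOf (q : ZMod p) - 1 := by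
    rw [← Nat.modEq_iff_dvd' (Nat.one_le_pow _ _ hq.out.pos), ← ZMod.natCast_eq_natCast_iff]
    exact_mod_cast (pow_orderOf_eq_one (q : ZMod p)).symm
  rw [orderOf_dvd_iff_pow_eq_one.1 (((orderOf_dvd_natCard P ha).trans oP.dvd).trans this)]
  exact one_mem _

theorem fin {G : Type*} [Group G] [Finite G] {p : ℕ} [hp : Fact p.Prime] {N P : Subgroup G} [hN : N.Normal]
    (c : (Nat.card N).Coprime p) (hm : ∀ L ≤ N, ⊤ ≤ normalizer (L : Set G) → L = ⊥ ∨ L = N) (oP : Nat.card P = p)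
    (e : P ⊔ N = ⊤) (h : ¬ P ≤ centralizer (N : Set G))
    (k : ∀ Q, Q < N → P ≤ normalizer (Q : Set G) → P ≤ centralizer (Q : Set G)) :
    ∃ q : ℕ, q.Prime ∧ q ≠ p ∧ Nat.card G = p * q ^ orderOf (q : ZMod p) ∧
      ∃ A : Subgroup G, A.Normal ∧ Nat.card ↥A = q ^ orderOf (q : ZMod p) ∧ Cfsg.IsElementaryAbelian q A ∧
        ∀ B : Subgroup G, B.Normal → B ≤ A → B = ⊥ ∨ B = A := by
  have pP : IsPGroup p P := IsPGroup.of_card (n := 1) (by rw [oP, pow_one])
  have co := cop_of_pgroup pP c (le_nrm_of_normal _ _)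
  obtain ⟨q, qq, d, Q, sQ, nQ, hQ⟩ := co.exists_syl_not_cen h
  haveI := Fact.mk qq
  obtain rfl : Q = N := sQ.le.eq_or_lt.resolve_right fun l => hQ (k Q l nQ)
  have ne : Q ≠ ⊥ := syl_ne_bot sQ d
  have qp : q ≠ p := fun e => coprime_iff_not_dvd.1 c (e ▸ d)
  have e1 := (hm (Om q (Q ⊓ centralizer (Q : Set G))) ((Om_le _ _).trans inf_le_left)
    (nrm_Om (nrm_center (le_nrm_of_normal _ _)))).resolve_left (Om_ne_bot' sQ.isPGroup.to_inf_left
      (pgroup_inf_cen_ne_bot' sQ.isPGroup sQ.isPGroup (le_nrm_self _) ne))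
  have ea : EA q Q := e1 ▸ ea_Om (isComm_center Q)
  have o := core qp ea oP nQ (fun U a b => hm U b (e ▸ sup_le a (ea.le_nrm b))) hQ
  refine ⟨q, qq, qp, ?_, Q, hN, o, ea, fun B a b => hm B b (normal_iff_top_le_nrm.1 a)⟩
  rw [← card_top, ← e, card_sup_of_inf_eq_bot nQ co.inf_eq_bot, oP, o]

end

/-- Let p and q be distinct primes and G a finite non-abelian group with a normal elementary abelian q-subgroup A that is a minimal normal subgroup of G and has index p. Then A has order q^e with e the multiplicative order of q modulo p, and G is minimal non-p-closed: its Sylow p-subgroups are not normal, while in every proper subgroup and in every proper quotient of G the Sylow p-subgroups are normal. -/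
theorem result {G : Type*} [Group G] [Finite G] {p q : ℕ} [Fact p.Prime] (hq : q.Prime) (hpq : q ≠ p)
    (hna : ¬ IsMulCommutative G) (A : Subgroup G) [A.Normal] (hA : Cfsg.IsElementaryAbelian q A) (hidx : A.index = p)
    (hmin : ∀ B : Subgroup G, B.Normal → B ≤ A → B = ⊥ ∨ B = A) :
    Nat.card ↥A = q ^ orderOf (q : ZMod p) ∧ ¬ Cfsg.IsPClosed p G ∧ (∀ H : Subgroup G, H ≠ ⊤ → Cfsg.IsPClosed p ↥H) ∧
      ∀ (N : Subgroup G) [N.Normal], N ≠ ⊥ → Cfsg.IsPClosed p (G ⧸ N) := by
  open Subgroup in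
  haveI := Fact.mk hq
  have pp : p.Prime := Fact.out
  have co := H2.isCoatom_of_index_prime hidx
  have ct : ∀ S : Subgroup G, ¬ S ≤ A → S ⊔ A = ⊤ := fun S h =>
    co.2 _ (lt_of_le_of_ne le_sup_right fun e => h (le_sup_left.trans e.ge))
  have cA := coprime_pgroup (EA.isPGroup hA) hpq
  have ct' : ∀ S : Subgroup G, IsPGroup p S → S ≠ ⊥ → S ⊔ A = ⊤ := fun S a b => ct S fun l =>
    b (eq_bot_of_isPGroup_of_coprime a (coprime_of_le l cA))
  have nA : ∀ S : Subgroup G, S ≤ normalizer (A : Set G) := fun S => le_nrm_of_normal _ _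
  have irr : ∀ S U : Subgroup G, S ⊔ A = ⊤ → S ≤ normalizer (U : Set G) → U ≤ A → U = ⊥ ∨ U = A := fun S U a b c =>
    hmin U (normal_iff_top_le_nrm.2 (a ▸ sup_le b (EA.le_nrm hA c))) c
  obtain ⟨x, -, hx⟩ := H2.exists_mem_orderOf_eq_prime (p := p) (Q := (⊤ : Subgroup G))
    (by rw [card_top, ← hidx]; exact A.index_dvd_card)
  have oP : Nat.card (zpowers x) = p := by rw [card_zpowers_eq, hx]
  have pP : IsPGroup p (zpowers x) := IsPGroup.of_card (n := 1) (by rw [oP, pow_one])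
  have P0 : zpowers x ≠ ⊥ := fun e => pp.one_lt.ne (by rw [← oP, e, card_bot])
  have e := ct' _ pP P0
  have nc : ¬ zpowers x ≤ centralizer (A : Set G) := fun h => hna (by
    have := isComm_sup (isComm_zpowers x) (EA.comm hA) h
    rw [e] at this
    exact ⟨⟨fun a b => congrArg Subtype.val (this.1.1 ⟨a, trivial⟩ ⟨b, trivial⟩)⟩⟩)
  refine ⟨core hpq hA oP (nA _) (fun U => irr _ U e) nc, fun h => nc ?_, fun H hH => H1B.pclosed_iff.2 fun S sS => ?_,
    fun N _ hN => ?_⟩
  · have s := H1B.pclosed_top'.1 h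
    have l := s.le_of_le_normalizer pP le_top (le_top.trans (le_nrm_Opi _ _))
    refine l.trans (comm_eq_bot.1 (eq_bot_of_le (le_inf (comm_le_left (le_top.trans (le_nrm_Opi _ _))) (comm_le_right (nA _)))
      (eq_bot_of_isPGroup_of_coprime (isPGroup_Op p ⊤).to_inf_left (coprime_of_le inf_le_right cA))))
  · by_cases h0 : S = ⊥
    · exact h0 ▸ le_nrm_bot _
    have e2 := ct' S sS.isPGroup h0
    have e3 := modular (nA S) sS.le
    rw [e2, top_inf_eq] at e3
    rcases irr S _ e2 (nrm_inf (nA S) (sS.le.trans (le_nrm_self H))) inf_le_left with k | k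
    · rw [k, sup_bot_eq] at e3; exact e3.le.trans (le_nrm_self S)
    · rw [k, e2] at e3; exact absurd e3 hH
  · rcases hmin (N ⊓ A) inferInstance inf_le_right with k | k
    · refine absurd (le_top.trans ((ct N fun l => hN (by rwa [inf_eq_left.2 l] at k)).ge.trans (sup_le ?_ (EA.comm hA |> isComm_iff.1)))) nc
      exact comm_eq_bot.1 (eq_bot_of_le (le_inf (comm_le_left (le_nrm_of_normal _ _)) (comm_le_right (nA _))) k)
    · have : IsPGroup p (G ⧸ N) := by
        have d : N.index ∣ p ^ 1 := by rw [pow_one, ← hidx]; exact index_dvd_of_le (inf_eq_right.1 k)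
        obtain ⟨j, -, hj⟩ := (Nat.dvd_prime_pow pp).1 d
        exact IsPGroup.of_card hj
      intro S
      rw [(S.is_maximal' (this.to_subgroup ⊤) le_top).symm]
      infer_instance

end Cfsg.Agent.S3869
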