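import Cfsg.Statements.S3868
import Cfsg.Agent.S3869

set_option autoImplicit false
open Cfsg

namespace Cfsg.Agent.S3868
open H7
open scoped commutatorElement

/-- Structure of the non-simple minimal non-p-closed groups. Call a finite group p-closed when its Sylow p-subgroups are normal, and minimal non-p-closed when it is not p-closed but every proper subgroup and every proper quotient is. If such a group G is not simple, then there is a prime q ≠ p such that G has order p · q^e, where e is the multiplicative order of q modulo p, and G has a normal subgroup A of order q^e that is elementary abelian and is a minimal normal subgroup of G (so G is the semidirect product of A by a group of order p acting irreducibly). -/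
theorem result {G : Type*} [Group G] [Finite G] {p : ℕ} [Fact p.Prime]
    (hnc : ¬ Cfsg.IsPClosed p G) (hsub : ∀ H : Subgroup G, H ≠ ⊤ → Cfsg.IsPClosed p ↥H)
    (hquo : ∀ (N : Subgroup G) [N.Normal], N ≠ ⊥ → Cfsg.IsPClosed p (G ⧸ N)) (hns : ¬ IsSimpleGroup G) :
    ∃ q : ℕ, q.Prime ∧ q ≠ p ∧ Nat.card G = p * q ^ orderOf (q : ZMod p) ∧
      ∃ A : Subgroup G, A.Normal ∧ Nat.card ↥A = q ^ orderOf (q : ZMod p) ∧ Cfsg.IsElementaryAbelian q A ∧
        ∀ B : Subgroup G, B.Normal → B ≤ A → B = ⊥ ∨ B = A := by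
  open Subgroup in
  have pp : p.Prime := Fact.out
  obtain ⟨P, sP⟩ := H2.exists_isSylowIn p (⊤ : Subgroup G)
  have np : ¬ ⊤ ≤ normalizer (P : Set G) := fun h => hnc (H1B.pclosed_top'.2 (Op_eq_of_sylow sP h ▸ sP))
  have hs : ∀ H : Subgroup G, H ≠ ⊤ → ∀ S, H2.IsSylowIn p S H → H ≤ normalizer (S : Set G) := fun H h =>
    H1B.pclosed_iff.1 (hsub H h)
  have hq : ∀ N : Subgroup G, ⊤ ≤ normalizer (N : Set G) → N ≠ ⊥ → ⊤ ≤ normalizer ((P ⊔ N : Subgroup G) : Set G) := fun N a b => by
    haveI := normal_iff_top_le_nrm.2 a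
    have := (hquo N b (sP.toSylowTop.mapSurjective (QuotientGroup.mk'_surjective N))).comap (QuotientGroup.mk' N)
    rw [Sylow.coe_mapSurjective, comap_map_eq, QuotientGroup.ker_mk'] at this
    exact normal_iff_top_le_nrm.1 this
  have hO : Op p (⊤ : Subgroup G) = ⊥ := by_contra fun h => np (by
    have := hq _ (le_nrm_Opi _ _) h
    rwa [sup_eq_left.2 (Op_le_of_sylow sP)] at this)
  have t0 : (⊤ : Subgroup G) ≠ ⊥ := fun e => np (by rw [e]; exact bot_le)
  obtain ⟨N, -, N0, nN, mN⟩ := H1B.exists_min_normal t0 (le_nrm_self _)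
  haveI := normal_iff_top_le_nrm.2 nN
  have Nt : N ≠ ⊤ := fun e => hns (by
    haveI : Nontrivial G := haveI := (nontrivial_iff_ne_bot _).2 t0; (topEquiv (G := G)).injective.nontrivial
    exact ⟨fun L hL => e ▸ mN L (e ▸ le_top) (normal_iff_top_le_nrm.1 hL)⟩)
  have c : (Nat.card N).Coprime p := by
    have s := H1B.pclosed_iff'.1 (hsub N Nt)
    rw [eq_bot_of_le (Opi_le_of_sn _ (SN.of_normal le_top nN)) hO, syl_bot_iff] at s
    exact coprime_iff_not_dvd.2 s
  have e : P ⊔ N = ⊤ := by_contra fun h => np (by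
    have s := sP.mono (le_sup_left (b := N)) le_top
    rw [← Op_eq_of_sylow s (hs _ h P s)]
    exact nrm_Opi _ (hq N nN N0))
  have ce : ∀ R ≤ P, ∀ Q ≤ N, R ≤ normalizer (Q : Set G) → R ⊔ Q ≠ ⊤ → R ≤ centralizer (Q : Set G) := fun R a Q b n h => by
    have pR := sP.isPGroup.to_le a
    have s : H2.IsSylowIn p R (R ⊔ Q) := syl_of_sup n rfl (coprime_of_le b c) (syl_self pR)
    exact comm_eq_bot.1 (eq_bot_of_le (le_inf (comm_le_left (le_sup_right.trans (hs _ h R s))) (comm_le_right n))
      (eq_bot_of_isPGroup_of_coprime pR.to_inf_left (coprime_of_le (inf_le_right.trans b) c)))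
  have i : ∀ R ≤ P, ∀ Q ≤ N, R ≤ normalizer (Q : Set G) → R ⊔ Q = ⊤ → R = P ∧ Q = N := fun R a Q b n h => by
    have z : P ⊓ N = ⊥ := eq_bot_of_isPGroup_of_coprime sP.isPGroup.to_inf_left (coprime_of_le inf_le_right c)
    have h1 := modular n a
    have h2 := modular' (C := N) n b
    rw [h, top_inf_eq, eq_bot_of_le (le_inf inf_le_right (inf_le_left.trans b)) z, sup_bot_eq] at h1
    rw [sup_comm, h, top_inf_eq, eq_bot_of_le (inf_le_inf_right _ a) z, sup_bot_eq] at h2
    exact ⟨h1.symm, h2.symm⟩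
  have f : P ⊓ centralizer (N : Set G) = ⊥ := eq_bot_of_le (le_Op le_top (e ▸ sup_le (nrm_inf (le_nrm_self P)
    (nrm_cen (le_top.trans nN))) (le_nrm_of_le_cen (le_cen_symm inf_le_right))) sP.isPGroup.to_inf_left) hO
  have P0 : P ≠ ⊥ := fun h => np (h ▸ le_nrm_bot _)
  obtain ⟨x, x1, x2⟩ := H2.exists_mem_orderOf_eq_of_ne_bot sP.isPGroup P0
  have lx := zpowers_le.2 x1
  have eP : zpowers x = P := (i _ lx N le_rfl (le_top.trans nN) (by_contra fun h => pp.one_lt.ne (by
    rw [← x2, ← card_zpowers_eq, eq_bot_of_le (le_inf lx (ce _ lx N le_rfl (le_top.trans nN) h)) f, card_bot]))).1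
  exact S3869.fin c mN (by rw [← eP, card_zpowers_eq, x2]) e (fun h => P0 (by rwa [inf_eq_left.2 h] at f))
    fun Q a b => ce P le_rfl Q a.le b fun h => a.ne (i P le_rfl Q a.le b h).2

end Cfsg.Agent.S3868
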