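import Cfsg.Statements.S3870
import Cfsg.Agent.H1.V2

set_option autoImplicit false
open Cfsg

namespace Cfsg.Agent.S3870

open H7 H1B Subgroup

/-- Let G be a finite simple group whose Sylow p-subgroups are not normal but such that every proper subgroup of G has a normal Sylow p-subgroup. Then any two distinct Sylow p-subgroups of G intersect trivially, and for every Sylow p-subgroup P the normalizer of every non-identity subgroup of P lies in the normalizer of P. -/
theorem result {G : Type*} [Group G] [Finite G] [IsSimpleGroup G] {p : ℕ} [Fact p.Prime]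
    (hnc : ¬ Cfsg.IsPClosed p G) (hsub : ∀ H : Subgroup G, H ≠ ⊤ → Cfsg.IsPClosed p ↥H) :
    (∀ P Q : Sylow p G, P ≠ Q → (P : Subgroup G) ⊓ (Q : Subgroup G) = ⊥) ∧
      ∀ (P : Sylow p G) (R : Subgroup G), R ≤ P → R ≠ ⊥ →
        Subgroup.normalizer (R : Set G) ≤ Subgroup.normalizer ((P : Subgroup G) : Set G) := by
  have k : ∀ D : Subgroup G, D ≠ ⊥ → ∀ P Q, H2.IsSylowIn p P ⊤ → H2.IsSylowIn p Q ⊤ → D ≤ P → D ≤ Q → P = Q := by
    intro D
    induction D using WellFoundedGT.induction with
    | ind D ih =>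
    intro hD P Q hP hQ h1 h2
    rcases h1.eq_or_lt with rfl | h1
    · exact (hP.eq_of_le hQ.isPGroup h2 le_top).symm
    rcases h2.eq_or_lt with rfl | h2
    · exact hQ.eq_of_le hP.isPGroup h1.le le_top
    have h3 : nrm D ≠ ⊤ := fun h => by
      rcases (normal_of h.ge).eq_bot_or_eq_top with e | e
      · exact hD e
      · exact not_top_lt (e ▸ h1)
    have h4 := pclosed_iff'.1 (hsub _ h3)
    obtain ⟨T, hT, hT'⟩ := exists_syl_ge h4.isPGroup le_top
    have k : ∀ P, H2.IsSylowIn p P ⊤ → D < P → P = T := fun P hP h => by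
      have := pgroup_lt_nrm hP.isPGroup h
      exact ih _ this (ne_bot_of_gt this) P T hP hT inf_le_left ((h4.le_of_le_normalizer
        (hP.isPGroup.to_le inf_le_left) inf_le_right (inf_le_right.trans (le_nrm_Opi _ _))).trans hT')
    rw [k P hP h1, k Q hQ h2]
  refine ⟨fun P Q h => ?_, fun P R h1 h2 g hg => ?_⟩
  · by_contra h1
    exact h (Sylow.ext (k _ h1 _ _ (syl_top P) (syl_top Q) inf_le_left inf_le_right))
  · exact cj_eq_self_iff.1 (k R h2 _ _ (syl_cj_of_mem (syl_top P) (nrm_top_le ⊤ (mem_top g))) (syl_top P)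
      (cj_of_mem_nrm hg ▸ H7.cj_mono g h1) h1)

end Cfsg.Agent.S3870
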