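import Cfsg.Statements.S3872
import Cfsg.Agent.H7.RegP
import Cfsg.Agent.H1.Two2

set_option autoImplicit false
open Cfsg

namespace Cfsg.Agent.S3872
open H7
open scoped commutatorElement

/-- Say that a finite group is p-exponent closed when its elements of order dividing p form a subgroup. Let G be a finite p-group that is not p-exponent closed, but all of whose proper subgroups and proper quotients are. Then G is generated by two elements, has nilpotency class at least p, has exponent p², has cyclic center, and has order at least p^(p+1). -/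
theorem result {G : Type*} [Group G] [Finite G] {p : ℕ} [Fact p.Prime] (hG : IsPGroup p G)
    (hnc : ¬ (∃ H : Subgroup G, (H : Set G) = {g : G | g ^ p = 1})) (hsub : ∀ K : Subgroup G, K ≠ ⊤ → (∃ H : Subgroup ↥K, (H : Set ↥K) = {g : ↥K | g ^ p = 1}))
    (hquo : ∀ (N : Subgroup G) [N.Normal], N ≠ ⊥ → (∃ H : Subgroup (G ⧸ N), (H : Set (G ⧸ N)) = {g : (G ⧸ N) | g ^ p = 1})) :
    (∃ x y : G, Subgroup.closure ({x, y} : Set G) = ⊤) ∧ (⊤ : Subgroup G).lowerCentralSeries (p - 1) ≠ ⊥ ∧
      Monoid.exponent G = p ^ 2 ∧ IsCyclic ↥(Subgroup.center G) ∧ p ^ (p + 1) ≤ Nat.card G := by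
  open Subgroup in
  have pp : p.Prime := Fact.out
  have pT : IsPGroup p (⊤ : Subgroup G) := hG.to_subgroup _
  obtain ⟨x, y, hx, hy, hxy⟩ : ∃ x y : G, x ^ p = 1 ∧ y ^ p = 1 ∧ (x * y) ^ p ≠ 1 := by
    by_contra! hc
    exact hnc ⟨⟨⟨⟨{g | g ^ p = 1}, fun {a b} u v => hc a b u v⟩, one_pow p⟩, fun {a} u => by
      change a⁻¹ ^ p = 1
      rw [inv_pow, u, inv_one]⟩, rfl⟩
  have gen : closure ({x, y} : Set G) = ⊤ := by
    by_contra e
    obtain ⟨H, hH⟩ := hsub _ e
    have a : (⟨x, Subgroup.subset_closure (by simp)⟩ : closure ({x, y} : Set G)) ∈ (H : Set _) := by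
      rw [hH]; exact Subtype.ext hx
    have b : (⟨y, Subgroup.subset_closure (by simp)⟩ : closure ({x, y} : Set G)) ∈ (H : Set _) := by
      rw [hH]; exact Subtype.ext hy
    have c := SetLike.mem_coe.2 (H.mul_mem a b)
    rw [hH] at c
    exact hxy (congrArg Subtype.val c)
  have quo : ∀ (N : Subgroup G) [N.Normal], N ≠ ⊥ → ∀ g : G, g ^ p ∈ N := fun N _ h g => by
    obtain ⟨H, hH⟩ := hquo N h
    have : (⊤ : Subgroup G) ≤ H.comap (QuotientGroup.mk' N) := by
      rw [← gen, Subgroup.closure_le]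
      rintro z (rfl | rfl) <;> change QuotientGroup.mk' N _ ∈ (H : Set _) <;> rw [hH] <;>
        change QuotientGroup.mk' N _ ^ p = 1 <;> rw [← map_pow] <;> simp [hx, hy]
    have a : QuotientGroup.mk' N g ∈ (H : Set _) := this (mem_top g)
    rw [hH] at a
    change QuotientGroup.mk' N _ ^ p = 1 at a
    rwa [← map_pow, QuotientGroup.mk'_apply, QuotientGroup.eq_one_iff] at a
  have cl : (⊤ : Subgroup G).lowerCentralSeries (p - 1) ≠ ⊥ := fun e =>
    hxy ((rg_of_class pT e).om1 x (mem_top _) y (mem_top _) hx hy)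
  have ce : ∀ z ∈ center G, z ^ p = 1 → z ≠ 1 → ∀ g : G, g ^ p ∈ zpowers z := fun z a _ c g =>
    haveI : (zpowers z).Normal := normal_iff_top_le_nrm.2 (le_nrm_of_le_cen (le_cen_symm (by
      rw [coe_top, centralizer_univ]; exact zpowers_le.2 a)))
    quo _ (by rwa [Ne, zpowers_eq_bot]) g
  obtain ⟨Z, lZ, oZ⟩ := exists_center_p pT pT (le_nrm_self _) fun e => hxy (by
    have : x * y ∈ (⊥ : Subgroup G) := e ▸ mem_top _
    rw [mem_bot.1 this, one_pow])
  rw [top_inf_eq, coe_top, centralizer_univ] at lZ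
  obtain ⟨z, z1, z2⟩ := H2.exists_mem_orderOf_eq_prime (p := p) (Q := Z) (oZ ▸ dvd_rfl)
  have z3 : z ^ p = 1 := z2 ▸ pow_orderOf_eq_one z
  have z4 : z ≠ 1 := fun e => pp.one_lt.ne (by rw [← z2, e, orderOf_one])
  have zz : ∀ z : G, z ^ p = 1 → ∀ w ∈ zpowers z, w ^ p = 1 := fun z a w ⟨k, hk⟩ => by
    rw [← hk, ← zpow_natCast, ← zpow_mul, mul_comm, zpow_mul, zpow_natCast, a, one_zpow]
  refine ⟨⟨x, y, gen⟩, cl, ?_, ?_, ?_⟩
  · have d : Monoid.exponent G ∣ p ^ 2 := Monoid.exponent_dvd_of_forall_pow_eq_one fun g => by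
      rw [sq, pow_mul]; exact zz z z3 _ (ce z (lZ z1) z3 z4 g)
    obtain ⟨k, hk, e⟩ := (Nat.dvd_prime_pow pp).1 d
    rw [e]
    by_contra ne
    have : k ≤ 1 := by by_contra; exact ne (by rw [show k = 2 by omega])
    exact hxy (Monoid.exponent_dvd_iff_forall_pow_eq_one.1 (e ▸ (pow_dvd_pow p this).trans (pow_one p).dvd) _)
  · have cZ : IsMulCommutative (center G) := inferInstance
    have o : Nat.card (Om p (center G)) ≤ p := by
      have l : Om p (center G) ≤ zpowers ((x * y) ^ p) := Om_le_iff.2 fun w a b => by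
        by_cases e : w = 1
        · exact e ▸ one_mem _
        have m := ce w a b e (x * y)
        have o1 : Nat.card (zpowers w) = p := by rw [card_zpowers_eq, orderOf_eq_prime b e]
        have : zpowers ((x * y) ^ p) = zpowers w := H2.eq_of_le_of_card_le (zpowers_le.2 m) (by
          rw [o1, card_zpowers_eq, orderOf_eq_prime (zz w b _ m) hxy])
        exact this ▸ mem_zpowers w
      refine (card_le_of_le l).trans ?_
      rw [card_zpowers_eq, orderOf_eq_prime (zz z z3 _ (ce z (lZ z1) z3 z4 _)) hxy]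
    by_cases h2 : p = 2
    · subst h2; exact H1B.cyc_of_Om_two (hG.to_subgroup _) cZ o
    · exact cyc_of_card_Om_le h2 (hG.to_subgroup _) o
  · by_contra! hc
    obtain ⟨n, hn⟩ := IsPGroup.iff_card.1 hG
    rw [hn, Nat.pow_lt_pow_iff_right pp.one_lt] at hc
    obtain ⟨j, rfl⟩ := Nat.exists_eq_add_of_le' pp.two_le
    exact cl (H1B.lcs_eq_bot' pT (j := j) (by rw [card_top, hn]; exact Nat.pow_le_pow_right pp.pos (by omega)))

end Cfsg.Agent.S3872
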