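import Cfsg.Statements.S3873
import Cfsg.Agent.S3869

set_option autoImplicit false
open Cfsg

namespace Cfsg.Agent.S3873
open H7
open scoped commutatorElement

/-- Say that a finite group is p-exponent closed when its elements of order dividing p form a subgroup. Let G be a finite group that is not p-exponent closed, but all of whose proper subgroups and proper quotients are, and suppose G is neither simple nor a p-group. Then there is a prime q ≠ p such that G has order p · q^e, where e is the multiplicative order of q modulo p, and G has a normal elementary abelian subgroup of order q^e that is a minimal normal subgroup of G. -/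
theorem result {G : Type*} [Group G] [Finite G] {p : ℕ} [Fact p.Prime]
    (hnc : ¬ (∃ H : Subgroup G, (H : Set G) = {g : G | g ^ p = 1})) (hsub : ∀ K : Subgroup G, K ≠ ⊤ → (∃ H : Subgroup ↥K, (H : Set ↥K) = {g : ↥K | g ^ p = 1}))
    (hquo : ∀ (N : Subgroup G) [N.Normal], N ≠ ⊥ → (∃ H : Subgroup (G ⧸ N), (H : Set (G ⧸ N)) = {g : (G ⧸ N) | g ^ p = 1}))
    (hns : ¬ IsSimpleGroup G) (hnp : ¬ IsPGroup p G) :
    ∃ q : ℕ, q.Prime ∧ q ≠ p ∧ Nat.card G = p * q ^ orderOf (q : ZMod p) ∧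
      ∃ A : Subgroup G, A.Normal ∧ Nat.card ↥A = q ^ orderOf (q : ZMod p) ∧ Cfsg.IsElementaryAbelian q A ∧
        ∀ B : Subgroup G, B.Normal → B ≤ A → B = ⊥ ∨ B = A := by
  open Subgroup in
  have pp : p.Prime := Fact.out
  obtain ⟨x, y, hx, hy, hxy⟩ : ∃ x y : G, x ^ p = 1 ∧ y ^ p = 1 ∧ (x * y) ^ p ≠ 1 := by
    by_contra! hc
    exact hnc ⟨⟨⟨⟨{g | g ^ p = 1}, fun {a b} u v => hc a b u v⟩, one_pow p⟩, fun {a} u => by
      change a⁻¹ ^ p = 1
      rw [inv_pow, u, inv_one]⟩, rfl⟩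
  have hs : ∀ K : Subgroup G, K ≠ ⊤ → ∀ a ∈ Om p K, a ^ p = 1 := fun K h => by
    obtain ⟨H, hH⟩ := hsub K h
    have : Om p K ≤ H.map K.subtype := Om_le_iff.2 fun a b c => ⟨⟨a, b⟩, by rw [hH]; exact Subtype.ext c, rfl⟩
    intro a ha
    obtain ⟨b, hb, rfl⟩ := this ha
    rw [hH] at hb
    exact congrArg Subtype.val hb
  have ps : ∀ K : Subgroup G, K ≠ ⊤ → IsPGroup p (Om p K) := fun K h =>
    H2.isPGroup_iff_mem.2 fun a ha => ⟨1, by rw [pow_one, hs K h a ha]⟩
  have gen : zpowers x ⊔ zpowers y = ⊤ := by_contra fun e => hxy (hs _ e _ (mul_mem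
    (mem_Om (mem_sup_left (mem_zpowers x)) hx) (mem_Om (mem_sup_right (mem_zpowers y)) hy)))
  have quo : ∀ (N : Subgroup G) [N.Normal], N ≠ ⊥ → ∀ g : G, g ^ p ∈ N := fun N _ h g => by
    obtain ⟨H, hH⟩ := hquo N h
    have : (⊤ : Subgroup G) ≤ H.comap (QuotientGroup.mk' N) := by
      rw [← gen, sup_le_iff, zpowers_le, zpowers_le]
      constructor <;> change QuotientGroup.mk' N _ ∈ (H : Set _) <;> rw [hH] <;>
        change QuotientGroup.mk' N _ ^ p = 1 <;> rw [← map_pow] <;> simp [hx, hy]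
    have a : QuotientGroup.mk' N g ∈ (H : Set _) := this (mem_top g)
    rw [hH] at a
    change QuotientGroup.mk' N _ ^ p = 1 at a
    rwa [← map_pow, QuotientGroup.mk'_apply, QuotientGroup.eq_one_iff] at a
  have hO : Op p (⊤ : Subgroup G) = ⊥ := by_contra fun h => hnp fun g => by
    haveI := normal_iff_top_le_nrm.2 (le_nrm_Opi {p} (⊤ : Subgroup G))
    obtain ⟨k, hk⟩ := H2.isPGroup_iff_mem.1 (isPGroup_Op p ⊤) _ (quo _ h g)
    exact ⟨k + 1, by rw [pow_succ', pow_mul, hk]⟩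
  have t0 : (⊤ : Subgroup G) ≠ ⊥ := fun e => hxy (by
    have : x * y ∈ (⊥ : Subgroup G) := e ▸ mem_top _
    rw [mem_bot.1 this, one_pow])
  obtain ⟨N, -, N0, nN, mN⟩ := H1B.exists_min_normal t0 (le_nrm_self _)
  haveI := normal_iff_top_le_nrm.2 nN
  have Nt : N ≠ ⊤ := fun e => hns (by
    haveI : Nontrivial G := haveI := (nontrivial_iff_ne_bot _).2 t0; (topEquiv (G := G)).injective.nontrivial
    exact ⟨fun L hL => e ▸ mN L (e ▸ le_top) (normal_iff_top_le_nrm.1 hL)⟩)
  have c : (Nat.card N).Coprime p := coprime_iff_not_dvd.2 fun d => Om_ne_bot d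
    (eq_bot_of_le (le_Op le_top (nrm_Om nN) (ps N Nt)) hO)
  have ce : ∀ z : G, z ^ p = 1 → ∀ Q ≤ N, zpowers z ≤ normalizer (Q : Set G) → zpowers z ⊔ Q ≠ ⊤ →
      zpowers z ≤ centralizer (Q : Set G) := fun z a Q b n h =>
    comm_eq_bot.1 (eq_bot_of_le (le_inf ((commutator_mono (zpowers_le.2 (mem_Om (mem_sup_left (mem_zpowers z)) a)) le_rfl).trans
      (comm_le_left (le_sup_right.trans (le_nrm_Om p _)))) (comm_le_right n))
      (eq_bot_of_isPGroup_of_coprime (ps _ h).to_inf_left (coprime_of_le (inf_le_right.trans b) c)))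
  obtain ⟨z, z1, z2⟩ : ∃ z : G, z ^ p = 1 ∧ ¬ zpowers z ≤ centralizer (N : Set G) := by
    by_contra! hc
    have ct : ⊤ ≤ centralizer (N : Set G) := gen ▸ sup_le (hc x hx) (hc y hy)
    obtain ⟨P, sP⟩ := H2.exists_isSylowIn p (⊤ : Subgroup G)
    have e : N ⊔ P = ⊤ := syl_sup_normal sP le_top ((isPGroup_iff_piN_relIndex nN).2 fun g _ => ⟨1, by rw [pow_one]; exact quo N N0 g⟩)
    have P0 : P = ⊥ := eq_bot_of_le (le_Op le_top (e ▸ sup_le (le_nrm_of_le_cen (le_cen_symm (le_top.trans ct))) (le_nrm_self P))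
      sP.isPGroup) hO
    rw [P0, sup_bot_eq] at e
    exact Nt e
  have z3 : z ≠ 1 := fun e => z2 (by rw [e, zpowers_one_eq_bot]; exact bot_le)
  have oz : Nat.card (zpowers z) = p := by rw [card_zpowers_eq, orderOf_eq_prime z1 z3]
  refine S3869.fin c mN oz (by_contra fun h => z2 (ce z z1 N le_rfl (le_top.trans nN) h)) z2 fun Q a b => ce z z1 Q a.le b fun h => ?_
  have h2 := modular' (C := N) b a.le
  rw [sup_comm, h, top_inf_eq, eq_bot_of_isPGroup_of_coprime (H2.isPGroup_zpowers (k := 1) (by rwa [pow_one])).to_inf_left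
    (coprime_of_le inf_le_right c), sup_bot_eq] at h2
  exact a.ne h2.symm

end Cfsg.Agent.S3873
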