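import Cfsg.Statements.S3889
import Cfsg.Agent.H1.V2

set_option autoImplicit false
open Cfsg

namespace Cfsg.Agent.S3889

open H7 H1B Subgroup

/-- A finite abelian group that is the union of a family of proper subgroups any two of which intersect trivially is elementary abelian: its exponent is a prime. -/
theorem result {G : Type*} [CommGroup G] [Finite G] (𝓑 : Set (Subgroup G)) (hprop : ∀ B ∈ 𝓑, B ≠ ⊤)
    (hcov : ∀ g : G, ∃ B ∈ 𝓑, g ∈ B) (hdisj : ∀ B ∈ 𝓑, ∀ C ∈ 𝓑, B ≠ C → B ⊓ C = ⊥) :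
    (Monoid.exponent G).Prime := by
  have hb : (⊤ : Subgroup G) ≠ ⊥ := fun h => by
    obtain ⟨B, hB, -⟩ := hcov 1
    exact hprop B hB (eq_top_iff.2 (h ▸ bot_le))
  obtain ⟨p, hp, hd⟩ := exists_prime_dvd hb
  have h := exp_of_partition (comm_top.2 mul_comm) 𝓑 (fun B hB h => hprop B hB (eq_top_iff.2 h))
    (fun g _ => hcov g) (fun B hB C hC h => by rw [top_inf_eq, hdisj B hB C hC h]) hp hd
  rcases (Nat.dvd_prime hp).1 (Monoid.exponent_dvd_of_forall_pow_eq_one fun g => h g trivial) with e | e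
  · haveI := Monoid.exp_eq_one_iff.1 e
    exact absurd (Subsingleton.elim _ _) hb
  · exact e ▸ hp

end Cfsg.Agent.S3889
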