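import Cfsg.Statements.S3890
import Cfsg.Agent.H1.V2

set_option autoImplicit false
open Cfsg

namespace Cfsg.Agent.S3890

open H7 H1B Subgroup

/-- A cover of a group is a finite set of proper subgroups whose union is the whole group; it is minimal when no cover has fewer members, and nilpotent when all its members are nilpotent. Let G be a finite group with trivial center admitting a nilpotent minimal cover 𝓐, and let P be an abelian Sylow p-subgroup of G that is not normal. Then either P is elementary abelian of order greater than p, or P is a Sylow p-subgroup of some member A of 𝓐, the normalizer N of P is a maximal subgroup of G, N meets each of its conjugates by elements outside N in a subgroup of order prime to p, and the centralizer of P equals A. -/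
theorem result {G : Type*} [Group G] [Finite G] (hZ : Subgroup.center G = ⊥) (𝓐 : Finset (Subgroup G))
    (h𝓐 : ((∀ A ∈ 𝓐, A ≠ ⊤) ∧ (∀ g : G, ∃ A ∈ 𝓐, g ∈ A)) ∧ (∀ 𝓑 : Finset (Subgroup G), (∀ A ∈ 𝓑, A ≠ ⊤) ∧ (∀ g : G, ∃ A ∈ 𝓑, g ∈ A) → 𝓐.card ≤ 𝓑.card) ∧ (∀ A ∈ 𝓐, Group.IsNilpotent ↥A)) {p : ℕ} [Fact p.Prime] (P : Sylow p G) (hab : IsMulCommutative ↥(P : Subgroup G))
    (hnn : ¬ (P : Subgroup G).Normal) :
    (Cfsg.IsElementaryAbelian p (P : Subgroup G) ∧ p < Nat.card ↥(P : Subgroup G)) ∨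
    (∃ A ∈ 𝓐, (P : Subgroup G) ≤ A ∧ ¬ p ∣ ((P : Subgroup G).subgroupOf A).index ∧
      IsCoatom (Subgroup.normalizer ((P : Subgroup G) : Set G)) ∧
      (∀ g : G, g ∉ Subgroup.normalizer ((P : Subgroup G) : Set G) →
        ¬ p ∣ Nat.card ↥(Subgroup.normalizer ((P : Subgroup G) : Set G) ⊓
          (Subgroup.normalizer ((P : Subgroup G) : Set G)).map (MulAut.conj g).toMonoidHom)) ∧
      Subgroup.centralizer ((P : Subgroup G) : Set G) = A) := by
  refine or_iff_not_imp_left.2 fun h => ?_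
  obtain ⟨⟨A, hA, h1, h2⟩, h3, h4⟩ := nilp_cover hZ h𝓐.1.2
    (fun A hA B hB => sup_of_min_cover h𝓐.1.1 h𝓐.1.2 h𝓐.2.1 hA hB) h𝓐.2.2 (syl_top P) hab
    (fun e => hnn (e ▸ inferInstance)) h
  refine ⟨A, hA, h1, ((syl_top P).mono h1 le_top).not_dvd, ⟨fun e => hnn (normal_of e.ge), fun M hM => ?_⟩,
    fun g hg hd => hg (h4 g fun e => ?_), h2⟩
  · by_contra e
    exact hM.not_ge (h3 M e ((cen_le_nrm _).trans hM.le))
  · obtain ⟨x, hx, hx1⟩ := exists_orderOf_eq Fact.out hd
    have h5 := isPGroup_zpowers_of_orderOf hx1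
    refine ne_one_of_orderOf hx1 (mem_bot.1 (e ▸ ⟨?_, ?_⟩))
    · exact (syl_top P).le_of_le_normalizer h5 le_top (zpowers_le.2 hx.1) (mem_zpowers x)
    · exact (syl_cj_of_mem (syl_top P) (nrm_top_le ⊤ (mem_top g))).le_of_le_normalizer h5 le_top
        (zpowers_le.2 (cj_nrm g _ ▸ hx.2)) (mem_zpowers x)

end Cfsg.Agent.S3890
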