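import Cfsg.Statements.S5164
import Cfsg.Agent.H7.GK

set_option autoImplicit false
open Cfsg

namespace Cfsg.Agent.S5164
open H7
open scoped commutatorElement

section
open Subgroup

theorem comm_of_lt_sq {P α : Type*} [Group P] [Finite P] [Finite α] {p : ℕ} [hp : Fact p.Prime] (hP : IsPGroup p P)
    (φ : P →* Equiv.Perm α) (hφ : Function.Injective φ) (h : Nat.card α < p ^ 2) (a b : P) : a * b = b * a := by
  classical
  letI : MulAction P α := MulAction.compHom α φ
  apply hφ
  ext x
  obtain ⟨k, hk⟩ := hP.card_orbit x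
  have hle : Nat.card (MulAction.orbit P x) ≤ p := by
    have h1 : Nat.card (MulAction.orbit P x) ≤ Nat.card α := Nat.card_le_card_of_injective _ Subtype.val_injective
    have : k < 2 := (Nat.pow_lt_pow_iff_right hp.out.one_lt).1 (hk ▸ h1.trans_lt h)
    rw [hk]
    calc p ^ k ≤ p ^ 1 := Nat.pow_le_pow_right hp.out.pos (by omega)
      _ = p := pow_one p
  let ψ := MulAction.toPermHom P (MulAction.orbit P x)
  obtain ⟨j, hj⟩ := (hP.of_surjective ψ.rangeRestrict ψ.rangeRestrict_surjective).exists_card_eq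
  have hd : p ^ j ∣ p.factorial := by
    rw [← hj]
    refine (Subgroup.card_subgroup_dvd_card _).trans ?_
    rw [Nat.card_perm]
    exact Nat.factorial_dvd_factorial hle
  have hj1 : j ≤ 1 := by
    by_contra hj2
    have : p * p ∣ p * (p - 1).factorial := by
      rw [Nat.mul_factorial_pred hp.out.ne_zero, ← pow_two]
      exact (pow_dvd_pow p (by omega)).trans hd
    have := (hp.out.dvd_factorial).1 (Nat.dvd_of_mul_dvd_mul_left hp.out.pos this)
    have := hp.out.pos
    omega
  haveI : IsCyclic ψ.range := isCyclic_of_card_dvd_prime (p := p) (by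
    rw [hj]; exact (pow_dvd_pow p hj1).trans (by rw [pow_one]))
  have := congrArg Subtype.val (IsCyclic.isMulCommutative.is_comm.comm (ψ.rangeRestrict a) (ψ.rangeRestrict b))
  have h2 := congrArg (fun f : Equiv.Perm (MulAction.orbit P x) => (f ⟨x, MulAction.mem_orbit_self x⟩ : α)) this
  rw [map_mul, map_mul]
  exact h2

theorem exists_wr (p : ℕ) [hp : Fact p.Prime] : ∃ K : Subgroup (Equiv.Perm (ZMod p × ZMod p)), IsPGroup p K ∧
    ∃ a ∈ K, ∃ b ∈ K, a * b ≠ b * a := by
  let τ : Equiv.Perm (ZMod p × ZMod p) := Equiv.addRight (0, 1)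
  let K1 : Subgroup (Equiv.Perm (ZMod p × ZMod p)) :=
    { carrier := {f | ∃ a, ∀ v, (f v).1 = v.1 + a}
      one_mem' := ⟨0, by simp⟩
      mul_mem' := by
        rintro f g ⟨a, ha⟩ ⟨b, hb⟩
        exact ⟨b + a, fun v => by rw [Equiv.Perm.mul_apply, ha, hb, add_assoc]⟩
      inv_mem' := by
        rintro f ⟨a, ha⟩
        refine ⟨-a, fun v => ?_⟩
        have := ha (f⁻¹ v)
        rw [show f (f⁻¹ v) = v from f.apply_symm_apply v] at this
        rw [this]; ring }
  have hτ : ∀ (k : ℕ) v, (τ ^ k) v = (v.1, v.2 + k) := by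
    intro k v
    induction k with
    | zero => simp
    | succ k ih => rw [pow_succ', Equiv.Perm.mul_apply, ih]; simp [τ, add_assoc]
  refine ⟨K1 ⊓ Subgroup.centralizer {τ}, ?_, Equiv.addRight (1, 0), ⟨⟨1, by simp⟩, ?_⟩,
    ⟨fun v => (v.1, v.2 + v.1), fun v => (v.1, v.2 - v.1), fun v => by simp, fun v => by simp⟩, ⟨⟨0, by simp⟩, ?_⟩, ?_⟩
  · rintro ⟨f, ⟨a, ha⟩, hf⟩
    refine ⟨2, Subtype.ext ?_⟩
    have h1 : ∀ (k : ℕ) v, ((f ^ k) v).1 = v.1 + k * a := by
      intro k v
      induction k with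
      | zero => simp
      | succ k ih => rw [pow_succ', Equiv.Perm.mul_apply, ha, ih]; push_cast; ring
    have hc : Commute (f ^ p) τ := (show Commute f τ from Subgroup.mem_centralizer_singleton_iff.1 hf).pow_left p
    show f ^ p ^ 2 = 1
    rw [pow_two, pow_mul]
    ext1 v
    obtain ⟨k, hk⟩ : ∃ k : ℕ, (f ^ p) v = (τ ^ k) v := ⟨(((f ^ p) v).2 - v.2).val, by
      rw [hτ]; ext
      · rw [h1]; simp
      · simp⟩
    have h2 : ∀ m : ℕ, ((f ^ p) ^ m) v = (τ ^ (k * m)) v := by
      intro m
      induction m with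
      | zero => simp
      | succ m ih =>
        rw [pow_succ', Equiv.Perm.mul_apply, ih, ← Equiv.Perm.mul_apply, (hc.pow_right _).eq, Equiv.Perm.mul_apply, hk,
          ← Equiv.Perm.mul_apply, ← pow_add, mul_add, mul_one]
    rw [h2, hτ]; simp
  · refine Subgroup.mem_centralizer_singleton_iff.2 ?_
    ext v <;> simp [τ]
  · refine Subgroup.mem_centralizer_singleton_iff.2 ?_
    ext v <;> simp [τ]
    ring
  · intro h
    have := congrArg (fun f : Equiv.Perm (ZMod p × ZMod p) => (f (0, 0)).2) h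
    simp at this

end

/-- For n ≥ 6 and a prime p, a nontrivial Sylow p-subgroup of the alternating group of degree n is abelian if and only if n < p². -/
theorem result (n p : ℕ) (hn : 6 ≤ n) [Fact p.Prime] (S : Sylow p (alternatingGroup (Fin n))) (hS : (S : Subgroup (alternatingGroup (Fin n))) ≠ ⊥) : IsMulCommutative S ↔ n < p ^ 2 := by
  open Subgroup in
  classical
  have hp : p.Prime := Fact.out
  constructor
  · intro hc
    by_contra hlt
    push Not at hlt
    obtain ⟨K, hK, a, ha, b, hb, hab⟩ := exists_wr p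
    have key : ∀ φ : Equiv.Perm (ZMod p × ZMod p) →* Equiv.Perm (Fin n), Function.Injective φ →
        (∀ g ∈ K, Equiv.Perm.sign (φ g) = 1) → False := by
      intro φ hφ hs
      let ψ : K →* alternatingGroup (Fin n) := (φ.comp K.subtype).codRestrict _ (fun g => hs g g.2)
      have hr : IsPGroup p ψ.range := hK.of_surjective ψ.rangeRestrict ψ.rangeRestrict_surjective
      obtain ⟨T, hT⟩ := hr.exists_le_sylow
      haveI : IsMulCommutative (T : Subgroup (alternatingGroup (Fin n))) := by
        haveI : IsMulCommutative (S : Subgroup (alternatingGroup (Fin n))) := hc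
        have e := Sylow.equiv S T
        exact ⟨⟨fun x y => e.symm.injective (by rw [map_mul, map_mul, mul_comm'])⟩⟩
      have := mul_comm' (⟨ψ ⟨a, ha⟩, hT ⟨_, rfl⟩⟩ : (T : Subgroup (alternatingGroup (Fin n)))) ⟨ψ ⟨b, hb⟩, hT ⟨_, rfl⟩⟩
      have h2 : φ a * φ b = φ b * φ a := congrArg (fun x : (T : Subgroup (alternatingGroup (Fin n))) => ((x : alternatingGroup (Fin n)) : Equiv.Perm (Fin n))) this
      exact hab (hφ (by rw [map_mul, map_mul, h2]))
    by_cases h2 : p = 2
    · subst h2
      obtain ⟨ι⟩ : Nonempty (((ZMod 2 × ZMod 2) ⊕ ℤˣ) ↪ Fin n) := Function.Embedding.nonempty_of_card_le (by simpa using hn)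
      refine key ((Equiv.Perm.viaEmbeddingHom ι).comp ((Equiv.Perm.sumCongrHom _ _).comp
        ((MonoidHom.id _).prod ((MulAction.toPermHom ℤˣ ℤˣ).comp Equiv.Perm.sign)))) ?_ ?_
      · exact (Equiv.Perm.viaEmbeddingHom_injective ι).comp (Equiv.Perm.sumCongrHom_injective.comp
          (fun x y h => congrArg Prod.fst h))
      · intro g _
        have hu : ∀ u : ℤˣ, Equiv.Perm.sign (MulAction.toPermHom ℤˣ ℤˣ u) = u := by decide
        simp only [MonoidHom.comp_apply, Equiv.Perm.viaEmbeddingHom_apply, Equiv.Perm.viaEmbedding,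
          Equiv.Perm.sign_extendDomain, Equiv.Perm.sumCongrHom_apply, MonoidHom.prod_apply, MonoidHom.id_apply,
          Equiv.Perm.sign_sumCongr, hu]
        exact Int.units_mul_self _
    · obtain ⟨ι⟩ : Nonempty ((ZMod p × ZMod p) ↪ Fin n) := Function.Embedding.nonempty_of_card_le (by simpa [pow_two] using hlt)
      refine key (Equiv.Perm.viaEmbeddingHom ι) (Equiv.Perm.viaEmbeddingHom_injective ι) fun g hg => ?_
      obtain ⟨k, hk⟩ := hK ⟨g, hg⟩
      have h1 : g ^ p ^ k = 1 := congrArg Subtype.val hk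
      have h3 : Equiv.Perm.sign (Equiv.Perm.viaEmbeddingHom ι g) ^ p ^ k = 1 := by rw [← map_pow, ← map_pow, h1, map_one, map_one]
      rcases Int.units_eq_one_or (Equiv.Perm.sign (Equiv.Perm.viaEmbeddingHom ι g)) with h | h
      · exact h
      · rw [h, Odd.neg_one_pow ((hp.odd_of_ne_two h2).pow)] at h3
        exact absurd h3 (by decide)
  · intro h
    exact ⟨⟨comm_of_lt_sq S.isPGroup' ((alternatingGroup (Fin n)).subtype.comp (S : Subgroup (alternatingGroup (Fin n))).subtype)
      (Subtype.val_injective.comp Subtype.val_injective) (by simpa using h)⟩⟩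

end Cfsg.Agent.S5164
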