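import Cfsg.Statements.S3892
import Cfsg.Agent.H7.GK
import Cfsg.Agent.H1.Cores
import Cfsg.Agent.H2.PRes
import Cfsg.Agent.S5164

set_option autoImplicit false
open Cfsg

namespace Cfsg.Agent.S3892
open H7
open scoped commutatorElement

section
open Subgroup

open Subgroup in
theorem merge {G : Type*} [Group G] [Finite G] (x y : G) (M : Subgroup G) (hM : M ≠ ⊤) (hxy : x * y ≠ y * x)
    (hx : ∀ A : Subgroup G, Group.IsNilpotent A → x ∈ A → ∀ a ∈ A, a * x = x * a)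
    (hy : ∀ A : Subgroup G, Group.IsNilpotent A → y ∈ A → ∀ a ∈ A, a * y = y * a)
    (cx : ∀ a, a * x = x * a → a ∈ M) (cy : ∀ a, a * y = y * a → a ∈ M) :
    ¬ ∃ 𝓐 : Finset (Subgroup G), ((∀ A ∈ 𝓐, A ≠ ⊤) ∧ (∀ g : G, ∃ A ∈ 𝓐, g ∈ A)) ∧
      (∀ 𝓑 : Finset (Subgroup G), (∀ A ∈ 𝓑, A ≠ ⊤) ∧ (∀ g : G, ∃ A ∈ 𝓑, g ∈ A) → 𝓐.card ≤ 𝓑.card) ∧
      (∀ A ∈ 𝓐, Group.IsNilpotent A) := by
  classical
  rintro ⟨𝓐, ⟨h1, h2⟩, h3, h4⟩
  obtain ⟨A, hA, xA⟩ := h2 x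
  obtain ⟨B, hB, yB⟩ := h2 y
  have hne : B ≠ A := fun e => hxy (hy B (h4 B hB) yB x (e ▸ xA))
  have hB' : B ∈ 𝓐.erase A := Finset.mem_erase.2 ⟨hne, hB⟩
  have := h3 (insert M ((𝓐.erase A).erase B)) ⟨fun C hC => ?_, fun g => ?_⟩
  · have e1 := Finset.card_insert_le M ((𝓐.erase A).erase B)
    have e2 := Finset.card_erase_add_one hA
    have e3 := Finset.card_erase_add_one hB'
    omega
  · rcases Finset.mem_insert.1 hC with rfl | hC
    · exact hM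
    · exact h1 C (Finset.mem_of_mem_erase (Finset.mem_of_mem_erase hC))
  · obtain ⟨C, hC, gC⟩ := h2 g
    by_cases e1 : C = A
    · subst e1; exact ⟨M, Finset.mem_insert_self _ _, cx g (hx C (h4 C hC) xA g gC)⟩
    by_cases e2 : C = B
    · subst e2; exact ⟨M, Finset.mem_insert_self _ _, cy g (hy C (h4 C hC) yB g gC)⟩
    exact ⟨C, Finset.mem_insert_of_mem (Finset.mem_erase.2 ⟨e2, Finset.mem_erase.2 ⟨e1, hC⟩⟩), gC⟩

open Subgroup in
theorem nil_cen {G α : Type*} [Group G] [Finite G] [Finite α] {p : ℕ} (hp : p.Prime) (φ : G →* Equiv.Perm α)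
    (hφ : Function.Injective φ) (h : Nat.card α < p ^ 2) {x : G} (hx : x ^ p = 1) (A : Subgroup G)
    (hA : Group.IsNilpotent A) (xA : x ∈ A) : ∀ a ∈ A, a * x = x * a := by
  haveI := Fact.mk hp
  intro a ha
  obtain ⟨b, c, hb, hc, rfl, ⟨k, hk⟩, hcp⟩ := H2.exists_p_part (p := p) a (orderOf_pos a).ne'
  have bA : b ∈ A := (zpowers_le.2 ha) hb
  have cA : c ∈ A := (zpowers_le.2 ha) hc
  have ox : orderOf x ∣ p := orderOf_dvd_of_pow_eq_one hx
  have e1 : c * x = x * c := by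
    have := H1.commute_of_isNilpotent_of_coprime (L := A) (zpowers_le.2 cA) (zpowers_le.2 xA)
      (by rw [Nat.card_zpowers, Nat.card_zpowers]; exact hcp.coprime_dvd_right ox)
    exact (this (mem_zpowers c) x (mem_zpowers x)).symm
  have e2 : b * x = x * b := by
    obtain ⟨P⟩ : Nonempty (Sylow p A) := inferInstance
    haveI : (P : Subgroup A).Normal := inferInstance
    have mem : ∀ (z : A) (k : ℕ), (z : G) ^ p ^ k = 1 → z ∈ (P : Subgroup A) := by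
      intro z k hz
      have : IsPGroup p (zpowers z) := by
        rw [IsPGroup.iff_card]
        obtain ⟨j, -, hj⟩ := (Nat.dvd_prime_pow hp).1 (orderOf_dvd_of_pow_eq_one (Subtype.ext hz : z ^ p ^ k = 1))
        exact ⟨j, by rw [Nat.card_zpowers, hj]⟩
      obtain ⟨Q, hQ⟩ := this.exists_le_sylow
      haveI := Sylow.unique_of_normal P inferInstance
      rw [Subsingleton.elim P Q]
      exact hQ (mem_zpowers z)
    have := Cfsg.Agent.S5164.comm_of_lt_sq P.isPGroup' ((φ.comp A.subtype).comp (P : Subgroup A).subtype)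
      (hφ.comp (Subtype.val_injective.comp Subtype.val_injective)) h
      ⟨⟨b, bA⟩, mem _ k (by rw [← hk]; exact pow_orderOf_eq_one b)⟩ ⟨⟨x, xA⟩, mem _ 1 (by rw [pow_one]; exact hx)⟩
    exact congrArg (fun z : (P : Subgroup A) => ((z : A) : G)) this
  rw [mul_assoc, e1, ← mul_assoc, e2, mul_assoc]

open Subgroup in
theorem big {G : Type*} [Group G] [Finite G] {n : ℕ} (hn : 6 ≤ n) (φ : G →* Equiv.Perm (Fin n))
    (hφ : Function.Injective φ) (hs : ∀ σ : Equiv.Perm (Fin n), Equiv.Perm.sign σ = 1 → ∃ g, φ g = σ) :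
    ¬ ∃ 𝓐 : Finset (Subgroup G), ((∀ A ∈ 𝓐, A ≠ ⊤) ∧ (∀ g : G, ∃ A ∈ 𝓐, g ∈ A)) ∧
      (∀ 𝓑 : Finset (Subgroup G), (∀ A ∈ 𝓑, A ≠ ⊤) ∧ (∀ g : G, ∃ A ∈ 𝓑, g ∈ A) → 𝓐.card ≤ 𝓑.card) ∧
      (∀ A ∈ 𝓐, Group.IsNilpotent A) := by
  classical
  obtain ⟨p, hp, p5, pn, np⟩ : ∃ p : ℕ, p.Prime ∧ 5 ≤ p ∧ p < n ∧ n < p ^ 2 := by
    by_cases h : n < 25
    · exact ⟨5, by norm_num, le_rfl, by omega, by omega⟩
    obtain ⟨p, hp, h1, h2⟩ := Nat.exists_prime_lt_and_le_two_mul ((n - 1) / 2) (by omega)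
    refine ⟨p, hp, by omega, by omega, ?_⟩
    have : 13 * p ≤ p * p := Nat.mul_le_mul_right p (by omega)
    rw [pow_two]; omega
  haveI := Fact.mk hp
  obtain ⟨ι⟩ : Nonempty (ZMod p ↪ Fin n) := Function.Embedding.nonempty_of_card_le (by simpa using pn.le)
  have nz : ∀ k : ℕ, 0 < k → k < 5 → ((k : ℕ) : ZMod p) ≠ 0 := fun k h0 h5 e =>
    absurd (Nat.le_of_dvd h0 ((ZMod.natCast_eq_zero_iff k p).1 e)) (by omega)
  have n2 : (2 : ZMod p) ≠ 0 := by exact_mod_cast nz 2 (by norm_num) (by norm_num)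
  have n3 : (3 : ZMod p) ≠ 0 := by exact_mod_cast nz 3 (by norm_num) (by norm_num)
  let x0 : Equiv.Perm (ZMod p) := Equiv.addRight 1
  let s : Equiv.Perm (ZMod p) := Equiv.swap 0 1
  let y0 := s * x0 * s⁻¹
  have hx0 : x0 ^ p = 1 := by
    ext a
    simp [x0]
  have hy0 : y0 ^ p = 1 := by simp only [y0]; rw [conj_pow, hx0]; simp
  have fx : ∀ a, x0 a ≠ a := fun a e => by simp [x0] at e
  have fy : ∀ a, y0 a ≠ a := fun a e => fx (s⁻¹ a) (by
    apply s.injective; simpa [y0] using e)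
  have nc : x0 * y0 ≠ y0 * x0 := fun e => by
    have h1 := congrArg (fun g : Equiv.Perm (ZMod p) => g 0) e
    have h2 : s (1 + 1) = 1 + 1 := Equiv.swap_apply_of_ne_of_ne (fun e => n2 (by linear_combination e)) (by simp)
    simp [x0, y0, s] at h1
    simp only [s] at h2
    rw [h2] at h1
    exact n3 (by linear_combination h1)
  have ev : ∀ z : Equiv.Perm (ZMod p), z ^ p = 1 → ∃ g, φ g = Equiv.Perm.viaEmbeddingHom ι z ∧ g ^ p = 1 := by
    intro z hz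
    have h3 : Equiv.Perm.sign (Equiv.Perm.viaEmbeddingHom ι z) ^ p = 1 := by rw [← map_pow, ← map_pow, hz, map_one, map_one]
    obtain ⟨g, hg⟩ := hs (Equiv.Perm.viaEmbeddingHom ι z) (by
      rcases Int.units_eq_one_or (Equiv.Perm.sign (Equiv.Perm.viaEmbeddingHom ι z)) with h | h
      · exact h
      · rw [h, Odd.neg_one_pow (hp.odd_of_ne_two (by omega))] at h3
        exact absurd h3 (by decide))
    exact ⟨g, hg, hφ (by rw [map_pow, hg, ← map_pow, hz, map_one, map_one])⟩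
  obtain ⟨x, hx, xp⟩ := ev x0 hx0
  obtain ⟨y, hy, yp⟩ := ev y0 hy0
  let M : Subgroup G :=
    { carrier := {g | ∀ a, a ∈ Set.range ι ↔ φ g a ∈ Set.range ι}
      one_mem' := fun a => by simp
      mul_mem' := fun {g h} hg hh a => by rw [map_mul, Equiv.Perm.mul_apply, ← hg, ← hh]
      inv_mem' := fun {g} hg a => by rw [hg (φ g⁻¹ a), ← Equiv.Perm.mul_apply, ← map_mul, mul_inv_cancel, map_one]; rfl }
  have hcen : ∀ (z : Equiv.Perm (ZMod p)) (g : G), (∀ a, z a ≠ a) → φ g = Equiv.Perm.viaEmbeddingHom ι z →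
      ∀ a, a * g = g * a → a ∈ M := by
    intro z g hz hg a ha b
    have k : ∀ c, c ∈ Set.range ι ↔ φ g c ≠ c := by
      intro c
      rw [hg]
      constructor
      · rintro ⟨d, rfl⟩ e
        exact hz d (ι.injective ((Equiv.Perm.viaEmbedding_apply z ι d).symm.trans e))
      · intro e
        by_contra hc
        exact e (Equiv.Perm.viaEmbedding_apply_of_notMem z ι c hc)
    rw [k, k, ← Equiv.Perm.mul_apply, ← map_mul, ← ha, map_mul, Equiv.Perm.mul_apply, Ne, Ne, (φ a).injective.eq_iff]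
  refine merge x y M (fun hM => ?_) (fun e => nc ?_) (nil_cen hp φ hφ (by simpa using np) xp)
    (nil_cen hp φ hφ (by simpa using np) yp) (hcen x0 x fx hx) (hcen y0 y fy hy)
  · obtain ⟨a, ha⟩ : ∃ a, a ∉ Set.range ι := by
      by_contra hc
      push Not at hc
      have := Fintype.card_le_of_surjective ι hc
      simp at this
      omega
    have a0 : a ≠ ι 0 := fun e => ha ⟨0, e.symm⟩
    have a1 : a ≠ ι 1 := fun e => ha ⟨1, e.symm⟩
    have h01 : ι 1 ≠ ι 0 := fun e => one_ne_zero (ι.injective e)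
    obtain ⟨g, hg⟩ := hs (Equiv.swap a (ι 0) * Equiv.swap a (ι 1)) (by
      rw [map_mul, Equiv.Perm.sign_swap a0, Equiv.Perm.sign_swap a1]; decide)
    have : g ∈ M := hM ▸ mem_top g
    apply ha
    rw [this a, hg, Equiv.Perm.mul_apply, Equiv.swap_apply_left, Equiv.swap_apply_of_ne_of_ne a1.symm h01]
    exact ⟨1, rfl⟩
  · apply Equiv.Perm.viaEmbeddingHom_injective ι
    rw [map_mul _ x0 y0, map_mul _ y0 x0, ← hx, ← hy, ← map_mul, ← map_mul, e]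

theorem d4 : ∀ g : Equiv.Perm (Fin 4), (g * (Equiv.swap 0 1 * Equiv.swap 1 2) = (Equiv.swap 0 1 * Equiv.swap 1 2) * g →
    Equiv.Perm.sign g = 1) ∧ (g * (Equiv.swap 0 1 * Equiv.swap 1 3) = (Equiv.swap 0 1 * Equiv.swap 1 3) * g →
    Equiv.Perm.sign g = 1) := by decide +kernel

theorem d5 : ∀ g : Equiv.Perm (Fin 5), (g * (Equiv.swap 0 1 * Equiv.swap 1 2 * Equiv.swap 2 3 * Equiv.swap 3 4) =
    (Equiv.swap 0 1 * Equiv.swap 1 2 * Equiv.swap 2 3 * Equiv.swap 3 4) * g →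
    Equiv.Perm.sign g = 1) ∧ (g * (Equiv.swap 0 1 * Equiv.swap 1 2 * Equiv.swap 2 4 * Equiv.swap 4 3) =
    (Equiv.swap 0 1 * Equiv.swap 1 2 * Equiv.swap 2 4 * Equiv.swap 4 3) * g →
    Equiv.Perm.sign g = 1) := by decide +kernel

theorem d5' : ∀ g : Equiv.Perm (Fin 5), Equiv.Perm.sign g = 1 →
    (g * (Equiv.swap 0 1 * Equiv.swap 1 2) = (Equiv.swap 0 1 * Equiv.swap 1 2) * g → g 4 = 4) ∧
    (g * (Equiv.swap 0 1 * Equiv.swap 1 3) = (Equiv.swap 0 1 * Equiv.swap 1 3) * g → g 4 = 4) := by decide +kernel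

theorem a5 : ¬ ∃ 𝓐 : Finset (Subgroup (alternatingGroup (Fin 5))), ((∀ A ∈ 𝓐, A ≠ ⊤) ∧ (∀ g, ∃ A ∈ 𝓐, g ∈ A)) ∧
      (∀ 𝓑 : Finset (Subgroup (alternatingGroup (Fin 5))), (∀ A ∈ 𝓑, A ≠ ⊤) ∧ (∀ g, ∃ A ∈ 𝓑, g ∈ A) → 𝓐.card ≤ 𝓑.card) ∧
      (∀ A ∈ 𝓐, Group.IsNilpotent A) := by
  refine merge ⟨Equiv.swap 0 1 * Equiv.swap 1 2, Equiv.Perm.mem_alternatingGroup.2 (by decide)⟩ ⟨Equiv.swap 0 1 * Equiv.swap 1 3, Equiv.Perm.mem_alternatingGroup.2 (by decide)⟩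
    (MulAction.stabilizer _ (4 : Fin 5)) (fun h => ?_) (by decide)
    (nil_cen Nat.prime_three (alternatingGroup (Fin 5)).subtype Subtype.val_injective (by simp) (by decide))
    (nil_cen Nat.prime_three (alternatingGroup (Fin 5)).subtype Subtype.val_injective (by simp) (by decide))
    (fun a ha => (d5' a a.2).1 (congrArg Subtype.val ha)) (fun a ha => (d5' a a.2).2 (congrArg Subtype.val ha))
  have : (⟨Equiv.swap 0 1 * Equiv.swap 1 4, Equiv.Perm.mem_alternatingGroup.2 (by decide)⟩ : alternatingGroup (Fin 5)) ∈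
    MulAction.stabilizer (alternatingGroup (Fin 5)) (4 : Fin 5) := h ▸ Subgroup.mem_top _
  exact absurd (MulAction.mem_stabilizer_iff.1 this) (by decide)

theorem s5 : ¬ ∃ 𝓐 : Finset (Subgroup (Equiv.Perm (Fin 5))), ((∀ A ∈ 𝓐, A ≠ ⊤) ∧ (∀ g, ∃ A ∈ 𝓐, g ∈ A)) ∧
      (∀ 𝓑 : Finset (Subgroup (Equiv.Perm (Fin 5))), (∀ A ∈ 𝓑, A ≠ ⊤) ∧ (∀ g, ∃ A ∈ 𝓑, g ∈ A) → 𝓐.card ≤ 𝓑.card) ∧
      (∀ A ∈ 𝓐, Group.IsNilpotent A) := by
  refine merge (Equiv.swap 0 1 * Equiv.swap 1 2 * Equiv.swap 2 3 * Equiv.swap 3 4)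
    (Equiv.swap 0 1 * Equiv.swap 1 2 * Equiv.swap 2 4 * Equiv.swap 4 3)
    (alternatingGroup (Fin 5)) (fun h => ?_) (by decide)
    (nil_cen Nat.prime_five (MonoidHom.id _) Function.injective_id (by simp) (by decide))
    (nil_cen Nat.prime_five (MonoidHom.id _) Function.injective_id (by simp) (by decide))
    (fun a ha => (d5 a).1 ha) (fun a ha => (d5 a).2 ha)
  have : Equiv.swap 0 1 ∈ alternatingGroup (Fin 5) := h ▸ Subgroup.mem_top _
  exact absurd (Equiv.Perm.mem_alternatingGroup.1 this) (by decide)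

theorem s4 : ¬ ∃ 𝓐 : Finset (Subgroup (Equiv.Perm (Fin 4))), ((∀ A ∈ 𝓐, A ≠ ⊤) ∧ (∀ g, ∃ A ∈ 𝓐, g ∈ A)) ∧
      (∀ 𝓑 : Finset (Subgroup (Equiv.Perm (Fin 4))), (∀ A ∈ 𝓑, A ≠ ⊤) ∧ (∀ g, ∃ A ∈ 𝓑, g ∈ A) → 𝓐.card ≤ 𝓑.card) ∧
      (∀ A ∈ 𝓐, Group.IsNilpotent A) := by
  refine merge (Equiv.swap 0 1 * Equiv.swap 1 2) (Equiv.swap 0 1 * Equiv.swap 1 3)
    (alternatingGroup (Fin 4)) (fun h => ?_) (by decide)
    (nil_cen Nat.prime_three (MonoidHom.id _) Function.injective_id (by simp) (by decide))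
    (nil_cen Nat.prime_three (MonoidHom.id _) Function.injective_id (by simp) (by decide))
    (fun a ha => (d4 a).1 ha) (fun a ha => (d4 a).2 ha)
  have : Equiv.swap 0 1 ∈ alternatingGroup (Fin 4) := h ▸ Subgroup.mem_top _
  exact absurd (Equiv.Perm.mem_alternatingGroup.1 this) (by decide)

end

/-- A cover of a group is a finite set of proper subgroups whose union is the whole group; it is minimal when no cover has fewer members, and nilpotent when all its members are nilpotent. The alternating groups of degree at least 5 and the symmetric groups of degree at least 4 have no nilpotent minimal cover. -/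
theorem result (n : ℕ) :
    (5 ≤ n → ¬ ∃ 𝓐 : Finset (Subgroup ↥(alternatingGroup (Fin n))), ((∀ A ∈ 𝓐, A ≠ ⊤) ∧ (∀ g : ↥(alternatingGroup (Fin n)), ∃ A ∈ 𝓐, g ∈ A)) ∧ (∀ 𝓑 : Finset (Subgroup ↥(alternatingGroup (Fin n))), (∀ A ∈ 𝓑, A ≠ ⊤) ∧ (∀ g : ↥(alternatingGroup (Fin n)), ∃ A ∈ 𝓑, g ∈ A) → 𝓐.card ≤ 𝓑.card) ∧ (∀ A ∈ 𝓐, Group.IsNilpotent ↥A)) ∧
    (4 ≤ n → ¬ ∃ 𝓐 : Finset (Subgroup (Equiv.Perm (Fin n))), ((∀ A ∈ 𝓐, A ≠ ⊤) ∧ (∀ g : (Equiv.Perm (Fin n)), ∃ A ∈ 𝓐, g ∈ A)) ∧ (∀ 𝓑 : Finset (Subgroup (Equiv.Perm (Fin n))), (∀ A ∈ 𝓑, A ≠ ⊤) ∧ (∀ g : (Equiv.Perm (Fin n)), ∃ A ∈ 𝓑, g ∈ A) → 𝓐.card ≤ 𝓑.card) ∧ (∀ A ∈ 𝓐, Group.IsNilpotent ↥A)) := by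
  open Subgroup in
  refine ⟨fun hn => ?_, fun hn => ?_⟩
  · rcases hn.eq_or_lt with rfl | hn
    · exact a5
    · exact big hn (alternatingGroup (Fin n)).subtype Subtype.val_injective fun σ h => ⟨⟨σ, h⟩, rfl⟩
  · rcases hn.eq_or_lt with rfl | hn
    · exact s4
    rcases (show 5 ≤ n from hn).eq_or_lt with rfl | hn
    · exact s5
    · exact big hn (MonoidHom.id _) Function.injective_id fun σ _ => ⟨σ, rfl⟩

end Cfsg.Agent.S3892
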