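import Cfsg.Statements.S3894
import Cfsg.Agent.H7.GK
import Cfsg.Agent.H1.Cores
import Cfsg.Agent.H2.PRes
import Cfsg.Agent.H4.PGL2
import Cfsg.Agent.H4.SLBasic
import Cfsg.Agent.S2280
import Cfsg.Agent.S2531

set_option autoImplicit false
open Cfsg

namespace Cfsg.Agent.S3894
open H7
open scoped commutatorElement

section
open Subgroup

def NoCov (G : Type*) [Group G] : Prop :=
  ¬ ∃ 𝓐 : Finset (Subgroup G), ((∀ A ∈ 𝓐, A ≠ ⊤) ∧ (∀ g : G, ∃ A ∈ 𝓐, g ∈ A)) ∧
    (∀ 𝓑 : Finset (Subgroup G), (∀ A ∈ 𝓑, A ≠ ⊤) ∧ (∀ g : G, ∃ A ∈ 𝓑, g ∈ A) → 𝓐.card ≤ 𝓑.card) ∧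
    (∀ A ∈ 𝓐, Group.IsNilpotent A)

theorem nil_map {X : Type*} [Group X] {G : Subgroup X} {A : Subgroup G} (h : Group.IsNilpotent A) :
    Group.IsNilpotent (A.map G.subtype) := Group.nilpotent_of_mulEquiv (A.equivMapOfInjective _ G.subtype_injective)

/-- adapted from `S3892.merge` -/
theorem merge {X : Type*} [Group X] {G : Subgroup X} {x y : X} (xG : x ∈ G) (yG : y ∈ G) (M : Subgroup X) (hM : ¬ G ≤ M)
    (hxy : ∀ A : Subgroup X, Group.IsNilpotent A → x ∈ A → y ∉ A)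
    (hx : ∀ A : Subgroup X, Group.IsNilpotent A → x ∈ A → A ≤ M)
    (hy : ∀ A : Subgroup X, Group.IsNilpotent A → y ∈ A → A ≤ M) : NoCov G := by
  classical
  rintro ⟨𝓐, ⟨h1, h2⟩, h3, h4⟩
  obtain ⟨A, hA, xA⟩ := h2 ⟨x, xG⟩
  obtain ⟨B, hB, yB⟩ := h2 ⟨y, yG⟩
  have hne : B ≠ A := fun e => hxy _ (nil_map (h4 B hB)) ⟨_, e ▸ xA, rfl⟩ ⟨_, yB, rfl⟩
  have hB' : B ∈ 𝓐.erase A := Finset.mem_erase.2 ⟨hne, hB⟩
  have := h3 (insert (M.subgroupOf G) ((𝓐.erase A).erase B)) ⟨fun C hC => ?_, fun g => ?_⟩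
  · have e1 := Finset.card_insert_le (M.subgroupOf G) ((𝓐.erase A).erase B)
    have e2 := Finset.card_erase_add_one hA
    have e3 := Finset.card_erase_add_one hB'
    omega
  · rcases Finset.mem_insert.1 hC with rfl | hC
    · exact fun e => hM (Subgroup.subgroupOf_eq_top.1 e)
    · exact h1 C (Finset.mem_of_mem_erase (Finset.mem_of_mem_erase hC))
  · obtain ⟨C, hC, gC⟩ := h2 g
    by_cases e1 : C = A
    · subst e1; exact ⟨_, Finset.mem_insert_self _ _, hx _ (nil_map (h4 C hC)) ⟨_, xA, rfl⟩ ⟨_, gC, rfl⟩⟩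
    by_cases e2 : C = B
    · subst e2; exact ⟨_, Finset.mem_insert_self _ _, hy _ (nil_map (h4 C hC)) ⟨_, yB, rfl⟩ ⟨_, gC, rfl⟩⟩
    exact ⟨C, Finset.mem_insert_of_mem (Finset.mem_erase.2 ⟨e2, Finset.mem_erase.2 ⟨e1, hC⟩⟩), gC⟩

theorem count {X Ω : Type*} [Group X] [MulAction X Ω] [Finite Ω] {G : Subgroup X} (x : Ω → X) (xG : ∀ ω, x ω ∈ G) {y : X}
    (yG : y ∈ G) (h0 : ∀ ω : Ω, ∃ g ∈ G, g • ω ≠ ω)
    (ha : ∀ ω (A : Subgroup X), Group.IsNilpotent A → x ω ∈ A → ∀ a ∈ A, a • ω = ω)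
    (hb : ∀ ω ω', x ω • ω' = ω' → ω' = ω)
    (hc : ∀ B : Subgroup X, B ≤ G → Group.IsNilpotent B → y ∈ B → (∀ b ∈ B, ∃ ω : Ω, b • ω = ω) ∧ ∀ ω, x ω ∉ B) :
    NoCov G := by
  classical
  haveI := Fintype.ofFinite Ω
  rintro ⟨𝓐, ⟨h1, h2⟩, h3, h4⟩
  choose f hf hf' using h2
  let P : Subgroup G → Prop := fun A => ∀ a ∈ A, ∃ ω : Ω, (a : X) • ω = ω
  obtain ⟨c1, c2⟩ := hc _ (Subgroup.map_subtype_le _) (nil_map (h4 _ (hf ⟨y, yG⟩))) ⟨_, hf' ⟨y, yG⟩, rfl⟩
  have a1 : ∀ ω, ∀ a ∈ f ⟨x ω, xG ω⟩, (a : X) • ω = ω := fun ω a h =>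
    ha ω _ (nil_map (h4 _ (hf _))) ⟨_, hf' ⟨x ω, xG ω⟩, rfl⟩ _ ⟨_, h, rfl⟩
  have e1 : Fintype.card Ω + 1 ≤ (𝓐.filter P).card := by
    have := Finset.card_le_card_of_injOn (s := (Finset.univ : Finset (Option Ω))) (t := 𝓐.filter P)
      (fun o => o.elim (f ⟨y, yG⟩) fun ω => f ⟨x ω, xG ω⟩) (by
        rintro (_ | ω) -
        · exact Finset.mem_filter.2 ⟨hf _, fun a h => c1 a ⟨_, h, rfl⟩⟩
        · exact Finset.mem_filter.2 ⟨hf _, fun a h => ⟨ω, a1 ω a h⟩⟩) (by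
        rintro (_ | ω) - (_ | ω') - e <;> simp only [Option.elim] at e
        · rfl
        · exact absurd ⟨_, e ▸ hf' ⟨x ω', xG ω'⟩, rfl⟩ (c2 ω')
        · exact absurd ⟨_, e ▸ hf' ⟨x ω, xG ω⟩, rfl⟩ (c2 ω)
        · rw [hb ω ω' (a1 ω' ⟨x ω, xG ω⟩ (e ▸ hf' _))])
    simpa using this
  have := h3 ((𝓐.filter fun A => ¬ P A) ∪ Finset.univ.image fun ω : Ω => MulAction.stabilizer G ω) ⟨fun C hC => ?_, fun g => ?_⟩
  · have e2 := Finset.card_union_le (𝓐.filter fun A => ¬ P A) (Finset.univ.image fun ω : Ω => MulAction.stabilizer G ω)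
    have e3 := Finset.card_image_le (s := Finset.univ) (f := fun ω : Ω => MulAction.stabilizer G ω)
    have e4 := Finset.card_filter_add_card_filter_not (s := 𝓐) P
    rw [Finset.card_univ] at e3
    omega
  · rcases Finset.mem_union.1 hC with hC | hC
    · exact h1 C (Finset.mem_filter.1 hC).1
    · obtain ⟨ω, -, rfl⟩ := Finset.mem_image.1 hC
      obtain ⟨g, g1, g2⟩ := h0 ω
      exact fun e => g2 (show (⟨g, g1⟩ : G) ∈ MulAction.stabilizer G ω from e ▸ Subgroup.mem_top _)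
  · by_cases hP : P (f g)
    · obtain ⟨ω, h⟩ := hP g (hf' g)
      exact ⟨_, Finset.mem_union_right _ (Finset.mem_image_of_mem _ (Finset.mem_univ ω)), h⟩
    · exact ⟨f g, Finset.mem_union_left _ (Finset.mem_filter.2 ⟨hf g, hP⟩), hf' g⟩

open Subgroup in
theorem nf {G Ω : Type*} [Group G] [Finite G] [MulAction G Ω] [Finite Ω] {p : ℕ} (hp : p.Prime) (hΩ : ¬ p ∣ Nat.card Ω)
    {x : G} {k : ℕ} (hx : x ^ p ^ k = 1) {ω : Ω} (h : ∀ y, x • y = y → y = ω) (A : Subgroup G)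
    (hA : Group.IsNilpotent A) (xA : x ∈ A) : ∀ a ∈ A, a • ω = ω := by
  haveI := Fact.mk hp
  obtain ⟨P⟩ : Nonempty (Sylow p A) := inferInstance
  have hn : (P : Subgroup A).Normal := inferInstance
  have mem : (⟨x, xA⟩ : A) ∈ (P : Subgroup A) := by
    have : IsPGroup p (zpowers (⟨x, xA⟩ : A)) := by
      rw [IsPGroup.iff_card]
      obtain ⟨j, -, hj⟩ := (Nat.dvd_prime_pow hp).1 (orderOf_dvd_of_pow_eq_one (Subtype.ext hx : (⟨x, xA⟩ : A) ^ p ^ k = 1))
      exact ⟨j, by rw [Nat.card_zpowers, hj]⟩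
    obtain ⟨Q, hQ⟩ := this.exists_le_sylow
    haveI := Sylow.unique_of_normal P hn
    rw [Subsingleton.elim P Q]
    exact hQ (mem_zpowers _)
  obtain ⟨y, hy⟩ := P.isPGroup'.nonempty_fixed_point_of_prime_not_dvd_card Ω hΩ
  obtain rfl : y = ω := h y (hy ⟨_, mem⟩)
  intro a ha
  apply h
  have : (a⁻¹ * x * a) • y = y := hy ⟨_, hn.conj_mem' _ mem ⟨a, ha⟩⟩
  rw [mul_smul, mul_smul, inv_smul_eq_iff] at this
  exact this

open Subgroup in
theorem cop_comm {G : Type*} [Group G] [Finite G] {B : Subgroup G} (hB : Group.IsNilpotent B) {a b : G} (ha : a ∈ B)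
    (hb : b ∈ B) {m n : ℕ} (h1 : a ^ m = 1) (h2 : b ^ n = 1) (h : m.Coprime n) : a * b = b * a := by
  have := H1.commute_of_isNilpotent_of_coprime (L := B) (zpowers_le.2 ha) (zpowers_le.2 hb)
    (by
      rw [Nat.card_zpowers, Nat.card_zpowers]
      exact (h.coprime_dvd_left (orderOf_dvd_of_pow_eq_one h1)).coprime_dvd_right (orderOf_dvd_of_pow_eq_one h2))
  exact (this (mem_zpowers a) b (mem_zpowers b)).symm

section
open H4 OnePoint
open scoped MatrixGroups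
variable {K : Type*} [Field K] [DecidableEq K]

theorem pair {g h : PGL(2, K)} {α β : OnePoint K} (g1 : g ≠ 1) (ne : α ≠ β) (a : g • α = α) (b : g • β = β)
    (c : h * g = g * h) : (h • α = α ∧ h • β = β) ∨ (h • α = β ∧ h • β = α) := by
  have k : ∀ γ : OnePoint K, g • γ = γ → h • γ = α ∨ h • γ = β := fun γ e => by
    by_contra hc
    push Not at hc
    exact g1 (pgl_three g α β _ ne hc.1.symm hc.2.symm a b (by rw [← mul_smul, ← c, mul_smul, e]))
  have ne' : h • α ≠ h • β := fun e => ne (smul_left_cancel h e)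
  rcases k α a with e1 | e1 <;> rcases k β b with e2 | e2
  · exact absurd (e1.trans e2.symm) ne'
  · exact Or.inl ⟨e1, e2⟩
  · exact Or.inr ⟨e1, e2⟩
  · exact absurd (e1.trans e2.symm) ne'

theorem swap_sq {h : PGL(2, K)} {α β : OnePoint K} (ne : α ≠ β) (a : h • α = β) (b : h • β = α) : h ^ 2 = 1 := by
  obtain ⟨m, rfl, rfl⟩ := exists_double ne
  obtain ⟨s, rfl⟩ := swap2_iff.1 ⟨a, b⟩
  rw [conj_pow, pow_two, swp_sq]; simp

theorem swap_fix (h1 : IsSquare (-1 : K)) {h : PGL(2, K)} (hL : h ∈ Lsub K) {α β : OnePoint K} (ne : α ≠ β)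
    (a : h • α = β) (b : h • β = α) : ∃ ω : OnePoint K, h • ω = ω := by
  obtain ⟨m, rfl, rfl⟩ := exists_double ne
  obtain ⟨s, rfl⟩ := swap2_iff.1 ⟨a, b⟩
  have h2 : swp s ∈ Lsub K := by simpa [mul_assoc] using Lsub_normal.conj_mem' _ hL m
  obtain ⟨t, ht⟩ := h1.mul (swp_mem_Lsub.1 h2)
  rw [neg_mul_neg, one_mul] at ht
  have t0 : t ≠ 0 := by rintro rfl; simp at ht
  refine ⟨m • (t : OnePoint K), ?_⟩
  rw [mul_smul, mul_smul, inv_smul_smul]
  congr 1
  simp [swp, mob_smul_coe, t0, ht]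

theorem two [Fintype K] (hq : 4 ≤ Fintype.card K) (G : Subgroup PGL(2, K)) (hG : Lsub K ≤ G) : NoCov G := by
  obtain ⟨p, _, r, hp, hr⟩ := FiniteField.card' K
  haveI := Fact.mk hp
  have pq : p ∣ Fintype.card K := hr ▸ dvd_pow_self p r.ne_zero
  haveI : Finite PGL(2, K) := Quotient.finite _
  have hΩ : ¬ p ∣ Nat.card (OnePoint K) := by
    rw [show Nat.card (OnePoint K) = Fintype.card K + 1 from by rw [← Nat.card_eq_fintype_card]; exact Finite.card_option]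
    exact fun h => hp.one_lt.ne' (Nat.dvd_one.1 ((Nat.dvd_add_right pq).1 h))
  have ex : ∀ ω : OnePoint K, ∃ x : PGL(2, K), x ∈ Lsub K ∧ x ^ p ^ 1 = 1 ∧ x • ω = ω ∧ (∀ y, x • y = y → y = ω) ∧
      ∀ c, c • ω = ω → c * x = x * c → c ∈ Lsub K := by
    intro ω
    obtain ⟨m, rfl⟩ := exists_smul_infty ω
    have h : IsU (m * aff 1 1 * m⁻¹) (m • (∞ : OnePoint K)) := isU_iff_aff.2 ⟨1, rfl⟩
    refine ⟨_, Usub_le_L _ h, by rw [pow_one]; exact isU_pow_char h, h.1, h.2.resolve_left fun e => ?_, fun c c1 c2 => ?_⟩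
    · rw [mul_inv_eq_one, mul_eq_left, ← aff_one] at e
      exact one_ne_zero (aff_inj e).2
    · obtain ⟨a, b, rfl⟩ := fix_iff_aff.1 c1
      have : aff a b * aff 1 1 = aff 1 1 * aff a b := by
        have c3 := congrArg (fun t => m⁻¹ * t * m) c2
        simpa [mul_assoc] using c3
      rw [aff_mul, aff_mul] at this
      have h3 : a = 1 := Units.ext (by simpa [add_comm] using (aff_inj this).2)
      exact Usub_le_L (m • ∞) (isU_iff_aff.2 ⟨b, by rw [h3]⟩)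
  choose x x1 x2 x3 x4 x5 using ex
  have ne : (∞ : OnePoint K) ≠ ((0 : K) : OnePoint K) := by simp
  by_cases hL : G ≤ Lsub K
  swap
  · have k : ∀ ω (A : Subgroup PGL(2, K)), Group.IsNilpotent A → x ω ∈ A → A ≤ Lsub K := by
      intro ω A hA xA a ha
      obtain ⟨b, c, hb, hc, rfl, ⟨k, hk⟩, hcp⟩ := H2.exists_p_part (p := p) a (orderOf_pos a).ne'
      have bA : b ∈ A := (Subgroup.zpowers_le.2 ha) hb
      have cA : c ∈ A := (Subgroup.zpowers_le.2 ha) hc
      refine mul_mem (Usub_le_L ω (isU_of_pow (p := p) (n := k) (nf hp hΩ (x2 ω) (x4 ω) A hA xA b bA)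
        (hk ▸ pow_orderOf_eq_one b))) (x5 ω c (nf hp hΩ (x2 ω) (x4 ω) A hA xA c cA)
        (cop_comm hA cA xA (pow_orderOf_eq_one c) (x2 ω) (hcp.pow_right 1)))
    exact merge (hG (x1 ∞)) (hG (x1 (0 : K))) _ hL
      (fun A hA xA yA => ne (x4 _ _ (nf hp hΩ (x2 ∞) (x4 ∞) A hA xA _ yA))) (k _) (k _)
  obtain ⟨b, hb⟩ : ∃ b : Kˣ, b * b ≠ 1 := by
    by_contra hc
    push Not at hc
    obtain ⟨γ, hγ⟩ := IsCyclic.exists_ofOrder_eq_natCard (α := Kˣ)
    have := Nat.le_of_dvd (by norm_num) (orderOf_dvd_of_pow_eq_one (show γ ^ 2 = 1 by rw [pow_two, hc]))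
    rw [hγ, Nat.card_units, Nat.card_eq_fintype_card] at this
    omega
  set y := aff (b * b) (0 : K) with hy
  have y1 : y ≠ 1 := fun e => hb (aff_inj (e.trans aff_one.symm)).1
  have y2 : y • (∞ : OnePoint K) = ∞ := aff_smul_infty _ _
  have y3 : y • ((0 : K) : OnePoint K) = (0 : K) := by rw [hy, aff_smul_coe]; simp
  have y4 : ∀ k, (b * b) ^ k = 1 → y ^ k = 1 := fun k h => by rw [hy, aff_zero_pow, h, aff_one]
  have b1 : b ^ (Fintype.card K - 1) = 1 := by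
    have := pow_card_eq_one' (x := b)
    rwa [Nat.card_units, Nat.card_eq_fintype_card] at this
  refine count x (fun ω => hG (x1 ω)) (y := y) (hG (aff_mem_Lsub.2 ⟨b, rfl⟩)) (fun ω => ?_)
    (fun ω => nf hp hΩ (x2 ω) (x4 ω)) x4 fun B BG hB yB => ⟨?_, fun ω xB => ?_⟩
  · obtain ⟨ω', h⟩ : ∃ ω', ω ≠ ω' := by
      by_cases h : ω = ∞
      · exact ⟨_, h ▸ ne⟩
      · exact ⟨_, h⟩
    exact ⟨x ω', hG (x1 ω'), fun e => h (x4 _ _ e)⟩
  · haveI : Nontrivial B := ⟨⟨⟨y, yB⟩, 1, fun e => y1 (congrArg Subtype.val e)⟩⟩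
    obtain ⟨⟨⟨z, zB⟩, z2⟩, z1⟩ := Subgroup.ne_bot_iff_exists_ne_one.1 (Group.IsNilpotent.center_ne_bot (G := B))
    have z1 : z ≠ 1 := fun e => z1 (Subtype.ext (Subtype.ext e))
    have z2 : ∀ c ∈ B, c * z = z * c := fun c hc => congrArg Subtype.val (Subgroup.mem_center_iff.1 z2 ⟨c, hc⟩)
    intro c hc
    by_cases h1 : IsSquare (-1 : K)
    · obtain ⟨α, hα⟩ : ∃ α : OnePoint K, z • α = α := by
        rcases pair y1 ne y2 y3 (z2 y yB).symm with h | h
        · exact ⟨_, h.1⟩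
        · exact swap_fix h1 (hL (BG zB)) ne h.1 h.2
      by_cases h2 : c • α = α
      · exact ⟨α, h2⟩
      rcases pair z1 (Ne.symm h2) hα (by rw [← mul_smul, ← z2 c hc, mul_smul, hα]) (z2 c hc) with h | h
      · exact ⟨_, h.1⟩
      · exact swap_fix h1 (hL (BG hc)) (Ne.symm h2) h.1 h.2
    · rw [FiniteField.isSquare_neg_one_iff, not_not] at h1
      obtain ⟨j, hj⟩ : ∃ j, Fintype.card K - 1 = 2 * (2 * j + 1) := ⟨Fintype.card K / 4, by omega⟩
      have y5 : y ^ (2 * j + 1) = 1 := y4 _ (by rw [← pow_two, ← pow_mul, ← hj, b1])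
      have k : ∀ c : PGL(2, K), c * y = y * c → c • (∞ : OnePoint K) = (0 : K) → c • ((0 : K) : OnePoint K) = ∞ → False := by
        intro c c1 c2 c3
        have e1 := swap_sq ne c2 c3
        have e2 := swap_sq (h := c * y) ne (by rw [mul_smul, y2, c2]) (by rw [mul_smul, y3, c3])
        rw [Commute.mul_pow c1, e1, one_mul] at e2
        rw [pow_succ, pow_mul, e2, one_pow, one_mul] at y5
        exact y1 y5
      rcases pair y1 ne y2 y3 (z2 y yB).symm with h | h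
      · rcases pair z1 ne h.1 h.2 (z2 c hc) with h | h
        · exact ⟨_, h.1⟩
        · exact (k c (cop_comm hB hc yB (swap_sq ne h.1 h.2) y5 (by simp)) h.1 h.2).elim
      · exact (k z (z2 y yB).symm h.1 h.2).elim
  · have e1 := nf hp hΩ (x2 ω) (x4 ω) B hB xB y yB
    have e2 := cop_comm hB xB yB (x2 ω) (y4 _ (by rw [mul_pow, b1, one_mul])) (by
      rw [pow_one, hp.coprime_iff_not_dvd]
      intro h
      have := (Nat.dvd_sub_iff_right (by omega) pq).1 h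
      exact hp.one_lt.ne' (Nat.dvd_one.1 this))
    rcases pair y1 ne y2 y3 e2 with h | h
    · exact ne ((x4 _ _ h.1).trans (x4 _ _ h.2).symm)
    · by_cases a1 : ω = ∞
      · subst a1; exact ne ((x3 _).symm.trans h.1)
      by_cases a2 : ω = (0 : K)
      · subst a2; exact ne (h.2.symm.trans (x3 _))
      exact y1 (pgl_three y _ _ _ ne (Ne.symm a1) (Ne.symm a2) y2 y3 e1)

end

section
open Matrix
open scoped MatrixGroups
variable {F ι : Type*} [Field F] [Fintype ι] [DecidableEq ι]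

theorem ufix (g : GL ι F) {N : Matrix ι ι F} (hg : g.1 = 1 + N) {k : ℕ} (hN : N ^ k = 0) {i0 : ι}
    (h : ∀ v, N *ᵥ v = 0 → ∀ i, i ≠ i0 → v i = 0) (h0 : (Pi.single i0 1 : ι → F) ≠ 0) (η : Projectivization F (ι → F))
    (e : (ProjGenLinGroup.mk g : PGL(ι, F)) • η = η) : η = Projectivization.mk F _ h0 := by
  induction η using Projectivization.ind with
  | h v hv =>
    rw [Projectivization.PGL.mk_smul_mk, Projectivization.mk_eq_mk_iff'] at e
    obtain ⟨c, hc⟩ := e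
    have e1 : N *ᵥ v = (c - 1) • v := by
      have : c • v = (1 + N) *ᵥ v := by rw [hc, ← hg]; rfl
      rw [sub_smul, this, add_mulVec, one_mulVec, one_smul, add_sub_cancel_left]
    have e2 : ∀ j : ℕ, N ^ j *ᵥ v = (c - 1) ^ j • v := by
      intro j
      induction j with
      | zero => simp
      | succ j ih => rw [pow_succ', ← mulVec_mulVec, ih, mulVec_smul, e1, smul_smul, pow_succ]
    have e3 := e2 k
    rw [hN, zero_mulVec, eq_comm, smul_eq_zero] at e3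
    rw [eq_zero_of_pow_eq_zero (e3.resolve_right hv), zero_smul] at e1
    rw [Projectivization.mk_eq_mk_iff']
    refine ⟨v i0, funext fun i => ?_⟩
    by_cases hi : i = i0
    · subst hi; simp
    · simp [hi, h v e1 i hi]

theorem upow [Nonempty ι] {p : ℕ} [Fact p.Prime] [CharP F p] (g : GL ι F) {N : Matrix ι ι F} (hg : g.1 = 1 + N) {k : ℕ}
    (hN : N ^ k = 0) : (ProjGenLinGroup.mk g : PGL(ι, F)) ^ p ^ k = 1 := by
  have : g ^ p ^ k = 1 := by
    apply Units.ext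
    rw [Units.val_pow_eq_pow_val, hg, add_pow_char_pow_of_commute _ _ (Commute.one_left N), one_pow,
      pow_eq_zero_of_le (Nat.lt_pow_self (Fact.out : p.Prime).one_lt).le hN, add_zero, Units.val_one]
  rw [← map_pow, this, map_one]

theorem exists_dual : ∃ θ : PGL(ι, F) →* PGL(ι, F), ∀ g : GL ι F, ∃ g' : GL ι F, g'.1 = g.1ᵀ ∧
    θ (ProjGenLinGroup.mk g)⁻¹ = ProjGenLinGroup.mk g' := by
  let θ0 : GL ι F →* Matrix ι ι F :=
    { toFun := fun A => (A⁻¹).1ᵀ, map_one' := by simp,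
      map_mul' := fun A B => by rw [_root_.mul_inv_rev, Units.val_mul, transpose_mul] }
  let θ := θ0.toHomUnits
  have θθ : ∀ g, θ (θ g) = g := fun g => by
    apply Units.ext
    show ((θ g)⁻¹).1ᵀ = g.1
    rw [← map_inv]
    show ((g⁻¹⁻¹).1ᵀ)ᵀ = g.1
    rw [inv_inv, transpose_transpose]
  refine ⟨QuotientGroup.map _ _ θ fun z hz => Subgroup.mem_center_iff.2 fun g => ?_, fun g => ⟨θ g⁻¹, ?_, rfl⟩⟩
  · rw [← θθ g, ← map_mul, ← map_mul, Subgroup.mem_center_iff.1 hz]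
  · show (g⁻¹⁻¹).1ᵀ = _
    rw [inv_inv]

end

open Matrix MatrixGroups in
theorem three {F : Type*} [Field F] [Fintype F] (m : ℕ) (G : Subgroup (ProjGenLinGroup (Fin (m + 3)) F))
    (hG : (SpecialLinearGroup.toGL : SpecialLinearGroup (Fin (m + 3)) F →* GL (Fin (m + 3)) F).range.map
      ProjGenLinGroup.mk ≤ G) : NoCov G := by
  classical
  obtain ⟨p, _, r, hp, hr⟩ := FiniteField.card' F
  haveI := Fact.mk hp
  haveI : Finite (ProjGenLinGroup (Fin (m + 3)) F) := Quotient.finite _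
  have hΩ : ¬ p ∣ Nat.card (Projectivization F (Fin (m + 3) → F)) := fun h => by
    have := Cfsg.Agent.S2531.card_P (F := F) (V := Fin (m + 3) → F)
    rw [(CharP.cast_eq_zero_iff F p _).2 h] at this
    exact zero_ne_one this
  let N : Matrix (Fin (m + 3)) (Fin (m + 3)) F := of fun i j => if j.val = i.val + 1 then (1 : F) else 0
  obtain ⟨u, hu⟩ : ∃ u : SpecialLinearGroup (Fin (m + 3)) F, u.1 = 1 + N := by
    refine ⟨⟨_, ?_⟩, rfl⟩
    rw [det_of_upperTriangular]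
    · simp [N]
    · intro i j hij
      have hij' : j.val < i.val := hij
      simp only [N, Matrix.add_apply, of_apply]
      rw [one_apply_ne (show i ≠ j from ne_of_gt hij), if_neg (by omega), add_zero]
  have hN : N ^ (m + 3) = 0 := by
    refine Matrix.ext_of_mulVec_single fun j => ?_
    rw [Cfsg.Agent.S2280.N_pow, zero_mulVec]
    funext i
    exact dif_neg (by omega)
  set L := Fin.last (m + 2) with hL
  have s0 : ∀ i, (Pi.single i 1 : Fin (m + 3) → F) ≠ 0 := fun i => by simp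
  set g := SpecialLinearGroup.toGL u with hg
  have hg' : g.1 = 1 + N := hu
  let σ : Equiv.Perm (Fin (m + 3)) := Equiv.swap 1 L
  let P : GL (Fin (m + 3)) F := (permMatrixHom (R := F)).toHomUnits σ
  have n1 : (1 : Fin (m + 3)) ≠ L := by simp [hL, Fin.ext_iff]
  have n0 : (0 : Fin (m + 3)) ≠ L := by simp [hL, Fin.ext_iff]
  have x1 : ∀ η, (ProjGenLinGroup.mk g : (ProjGenLinGroup (Fin (m + 3)) F)) • η = η → η = Projectivization.mk F _ (s0 0) :=
    ufix g hg' hN (fun v hv i hi => by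
      have := Cfsg.Agent.S2280.N_pow (F := F) 1 v
      rw [pow_one, hv] at this
      obtain ⟨j, rfl⟩ := Fin.exists_succ_eq.2 hi
      have := congrFun this j.castSucc
      rw [dif_pos (by simp)] at this
      exact this.symm) _
  have P0 : (ProjGenLinGroup.mk P : (ProjGenLinGroup (Fin (m + 3)) F)) • Projectivization.mk F _ (s0 0) = Projectivization.mk F _ (s0 0) := by
    rw [Projectivization.PGL.mk_smul_mk]
    congr 1
    show Equiv.Perm.permMatrix F σ⁻¹ *ᵥ _ = _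
    rw [permMatrix_mulVec]
    funext i
    simp [σ, Pi.single_apply, Equiv.swap_apply_eq_iff, Equiv.swap_apply_of_ne_of_ne zero_ne_one n0]
  have hno : (SpecialLinearGroup.toGL : SpecialLinearGroup (Fin (m + 3)) F →* GL (Fin (m + 3)) F).range.Normal := by
    rw [H4.range_toGL]; infer_instance
  refine merge (x := ProjGenLinGroup.mk g) (y := ProjGenLinGroup.mk (P * g * P⁻¹)) (hG ⟨g, ⟨u, rfl⟩, rfl⟩)
    (hG ⟨_, hno.conj_mem g ⟨u, rfl⟩ P, rfl⟩)
    (MulAction.stabilizer _ (Projectivization.mk F _ (s0 0))) (fun h => ?_) (fun A hA xA yA => ?_)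
    (fun A hA xA => nf hp hΩ (upow g hg' hN) x1 A hA xA) (fun A hA yA => nf (k := m + 3) hp hΩ ?_ (fun η e => ?_) A hA yA)
  · have := h (hG ⟨_, ⟨SpecialLinearGroup.transvection (one_ne_zero (α := Fin (m + 3))) 1, rfl⟩, rfl⟩)
    rw [MulAction.mem_stabilizer_iff, Projectivization.PGL.mk_smul_mk, Projectivization.mk_eq_mk_iff'] at this
    obtain ⟨c, hc⟩ := this
    have h1 : c • (Pi.single 0 1 : Fin (m + 3) → F) = (1 + single (1 : Fin (m + 3)) (0 : Fin (m + 3)) (1 : F)) *ᵥ Pi.single 0 1 := hc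
    simpa using congrFun h1 1
  · obtain ⟨θ, hθ⟩ := exists_dual (F := F) (ι := Fin (m + 3))
    obtain ⟨g1, a1, a2⟩ := hθ g
    obtain ⟨g2, b1, b2⟩ := hθ (P * g * P⁻¹)
    have a3 : g1.1 = 1 + Nᵀ := by rw [a1, hg', transpose_add, transpose_one]
    have a4 : Nᵀ ^ (m + 3) = 0 := by rw [← transpose_pow, hN, transpose_zero]
    have := nf hp hΩ (upow g1 a3 a4) (ufix g1 a3 a4 (i0 := L) (fun v hv i hi => by
        obtain ⟨j, rfl⟩ := Fin.exists_castSucc_eq.2 hi
        have := congrFun hv j.succ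
        simp only [mulVec, dotProduct, N, transpose_apply, of_apply, ite_mul, one_mul, zero_mul, Pi.zero_apply] at this
        rwa [Finset.sum_eq_single j.castSucc (fun b _ hb => if_neg fun e => hb (Fin.ext (by simpa using e.symm))) (by simp),
          if_pos (by simp)] at this) (s0 L)) (A.map θ)
      (Group.nilpotent_of_surjective (θ.subgroupMap A) (θ.subgroupMap_surjective A)) ⟨_, inv_mem xA, a2⟩ _ ⟨_, inv_mem yA, b2⟩
    rw [Projectivization.PGL.mk_smul_mk, Projectivization.mk_eq_mk_iff'] at this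
    obtain ⟨c, hc⟩ := this
    have h1 : c • (Pi.single L 1 : Fin (m + 3) → F) = g2.1 *ᵥ Pi.single L 1 := hc
    have h2 : g2.1 = (Equiv.Perm.permMatrix F σ⁻¹ * (1 + N) * Equiv.Perm.permMatrix F σ⁻¹⁻¹)ᵀ := by
      rw [b1, Units.val_mul, Units.val_mul, hg', ← map_inv]; rfl
    have n2 : σ 2 ≠ L := by
      intro e
      have := σ.injective (e.trans (Equiv.swap_apply_left 1 L).symm)
      have h3 := congrArg Fin.val this
      rw [Fin.val_two, Fin.val_one] at h3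
      omega
    have := congrFun h1 (σ 2)
    rw [h2, mulVec_single_one, Equiv.Perm.permMatrix, Equiv.Perm.permMatrix, PEquiv.toMatrix_toPEquiv_mul,
      PEquiv.mul_toMatrix_toPEquiv] at this
    rw [Pi.smul_apply, Pi.single_eq_of_ne n2, col_apply, transpose_apply, submatrix_apply, submatrix_apply] at this
    have e1 : σ⁻¹ (id L) = 1 := Equiv.swap_apply_right 1 L
    have e2 : id (Equiv.symm σ⁻¹⁻¹ (σ 2)) = 2 := Equiv.symm_apply_apply σ 2
    rw [e1, e2, Matrix.add_apply, one_apply_ne (by rw [Ne, Fin.ext_iff, Fin.val_two, Fin.val_one]; omega)] at this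
    simp only [N, of_apply, Fin.val_two, Fin.val_one] at this
    simp at this
  · rw [map_mul, map_mul, map_inv, conj_pow, upow g hg' hN]; simp
  · rw [map_mul, map_mul, map_inv, mul_smul, mul_smul, smul_eq_iff_eq_inv_smul] at e
    rw [← P0, ← x1 _ e, smul_inv_smul]

end

/-- A cover of a group is a finite set of proper subgroups whose union is the whole group; it is minimal when no cover has fewer members, and nilpotent when all its members are nilpotent. Let F be a finite field with q elements and n ≥ 3, or n = 2 and q ≥ 4. Then no subgroup of PGL_n(F) = GL_n(F)/Z(GL_n(F)) containing the image of SL_n(F) has a nilpotent minimal cover. -/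
theorem result {F : Type*} [Field F] [Fintype F] (n : ℕ) (hn : 3 ≤ n ∨ (n = 2 ∧ 4 ≤ Fintype.card F))
    (G : Subgroup (GL (Fin n) F ⧸ Subgroup.center (GL (Fin n) F)))
    (hG : ((Matrix.SpecialLinearGroup.toGL : Matrix.SpecialLinearGroup (Fin n) F →* GL (Fin n) F).range).map
      (QuotientGroup.mk' (Subgroup.center (GL (Fin n) F))) ≤ G) :
    ¬ ∃ 𝓐 : Finset (Subgroup ↥G), ((∀ A ∈ 𝓐, A ≠ ⊤) ∧ (∀ g : ↥G, ∃ A ∈ 𝓐, g ∈ A)) ∧ (∀ 𝓑 : Finset (Subgroup ↥G), (∀ A ∈ 𝓑, A ≠ ⊤) ∧ (∀ g : ↥G, ∃ A ∈ 𝓑, g ∈ A) → 𝓐.card ≤ 𝓑.card) ∧ (∀ A ∈ 𝓐, Group.IsNilpotent ↥A) := by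
  open Subgroup in
  classical
  rcases hn with hn | ⟨rfl, hq⟩
  · obtain ⟨m, rfl⟩ : ∃ m, n = m + 3 := ⟨n - 3, by omega⟩
    exact three m G hG
  · refine two hq G (le_trans ?_ hG)
    intro x hx
    rw [H4.Lsub_eq] at hx
    obtain ⟨g, rfl⟩ := hx
    exact ⟨_, ⟨g, rfl⟩, rfl⟩

end Cfsg.Agent.S3894
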