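import Cfsg.Statements.S3941
import Cfsg.Agent.H1.V2
import Cfsg.Agent.H8.AutA

set_option autoImplicit false
open Cfsg

namespace Cfsg.Agent.S3941

open H7 H1B Subgroup

/-- Let n ≥ 5 and p an odd prime with p ≤ n, and suppose that every proper subgroup of the alternating group of degree n whose order is divisible by p has a normal Sylow p-subgroup. Then n = p. -/
theorem result (n p : ℕ) (hn : 5 ≤ n) [Fact p.Prime] (hp : p ≠ 2) (hpn : p ≤ n)
    (h : ∀ H : Subgroup ↥(alternatingGroup (Fin n)), H ≠ ⊤ → p ∣ Nat.card ↥H → Cfsg.IsPClosed p ↥H) : n = p := by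
  by_contra hne
  obtain ⟨m, rfl⟩ : ∃ m, n = m + 1 := ⟨n - 1, by omega⟩
  have hp' : p.Prime := Fact.out
  have hpm : p ≤ m := by omega
  haveI : MulAction.IsPretransitive (alternatingGroup (Fin (m + 1))) (Fin (m + 1)) :=
    alternatingGroup.isPretransitive_of_three_le_card _ (by simp; omega)
  have h1 := (MulAction.stabilizer (alternatingGroup (Fin (m + 1))) (0 : Fin (m + 1))).card_mul_index
  rw [MulAction.index_stabilizer_of_transitive, Nat.card_fin] at h1
  haveI : Nontrivial (Fin (m + 1)) := Fin.nontrivial_iff_two_le.2 (by omega)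
  have h2 := two_mul_nat_card_alternatingGroup (α := Fin (m + 1))
  rw [← h1, Nat.card_perm, Nat.card_fin, Nat.factorial_succ] at h2
  have h3 : 2 * ord (MulAction.stabilizer (alternatingGroup (Fin (m + 1))) (0 : Fin (m + 1))) = m.factorial :=
    Nat.eq_of_mul_eq_mul_left (show 0 < m + 1 by omega) (by rw [← h2]; ring)
  obtain ⟨e⟩ := H8.alt_stab (MonoidHom.ker_eq_bot_iff _ |>.2 MulAction.toPerm_injective) (0 : Fin (m + 1))
    (Nat.card_fin _) h3
  have h4 : p ∣ ord (MulAction.stabilizer (alternatingGroup (Fin (m + 1))) (0 : Fin (m + 1))) :=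
    ((Nat.coprime_primes hp' Nat.prime_two).2 hp).dvd_of_dvd_mul_left (h3 ▸ (hp'.dvd_factorial).2 hpm)
  have h5 := h _ (fun e => by
    have := (MulAction.stabilizer (alternatingGroup (Fin (m + 1))) (0 : Fin (m + 1))).card_mul_index
    have h6 := MulAction.index_stabilizer_of_transitive (alternatingGroup (Fin (m + 1))) (0 : Fin (m + 1))
    rw [e, index_top, Nat.card_fin] at h6
    omega) h4
  obtain ⟨P⟩ := (inferInstance : Nonempty (Sylow p (MulAction.stabilizer (alternatingGroup (Fin (m + 1))) (0 : Fin (m + 1)))))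
  have h6 : ((P : Subgroup _).map e.toMonoidHom).Normal := (h5 P).map _ e.surjective
  have h7 : H2.IsSylowIn p ((P : Subgroup _).map e.toMonoidHom) ⊤ :=
    map_top_of_surjective e.toMonoidHom e.surjective ▸ (syl_top P).map _
  rw [Nat.card_congr e.toEquiv] at h4 h3
  generalize (P : Subgroup _).map e.toMonoidHom = Q at h6 h7
  by_cases hm : 5 ≤ m
  · haveI := alternatingGroup.isSimpleGroup (α := Fin m) (by simpa using hm)
    rcases h6.eq_bot_or_eq_top with e | e
    · exact syl_ne_bot h7 (card_top (G := alternatingGroup (Fin m)) ▸ h4) e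
    · obtain ⟨k, hk⟩ := card_pgroup h7.isPGroup
      rw [e, card_top] at hk
      have h8 : 2 * 2 ∣ m.factorial := (show 2 * 2 ∣ Nat.factorial 4 by decide).trans
        (Nat.factorial_dvd_factorial (by omega))
      rw [← h3, hk] at h8
      exact hp ((Nat.prime_dvd_prime_iff_eq Nat.prime_two hp').1
        (Nat.prime_two.dvd_of_dvd_pow (Nat.dvd_of_mul_dvd_mul_left two_pos h8))).symm
  · obtain rfl : m = 4 := by omega
    obtain rfl : p = 3 := by
      have := hp'.two_le
      interval_cases p
      · exact absurd rfl hp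
      · rfl
      · exact absurd hp' (by decide)
    have k : ∀ x : alternatingGroup (Fin 4), x ^ 3 = 1 → x ∈ Q := fun x hx =>
      h7.le_of_le_normalizer (H7.isPGroup_zpowers (k := 1) hx) le_top (le_nrm_of_normal _ _) (mem_zpowers x)
    let a : alternatingGroup (Fin 4) := ⟨Equiv.swap 0 1 * Equiv.swap 1 2, Equiv.Perm.mem_alternatingGroup.2 (by decide)⟩
    let b : alternatingGroup (Fin 4) := ⟨Equiv.swap 1 2 * Equiv.swap 2 3, Equiv.Perm.mem_alternatingGroup.2 (by decide)⟩
    obtain ⟨j, hj⟩ := H2.orderOf_eq_pow_of_mem h7.isPGroup (mul_mem (k a (by decide)) (k b (by decide)))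
    have : orderOf (a * b) = 2 := ord2.2 (by decide)
    rw [this] at hj
    exact absurd (Nat.prime_two.pow_eq_iff.1 hj.symm).1 (by decide)

end Cfsg.Agent.S3941
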