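import Cfsg.Statements.S4113
import Mathlib
import Cfsg.Agent.H8.ClassCount
import Cfsg.Agent.H8.Frob

set_option autoImplicit false
open Cfsg

namespace Cfsg.Agent.S4113

/-- Let G be a finite group, M ≤ N non-trivial proper normal subgroups, and H a subgroup with HM = G and H ∩ M = 1. Then every element of G outside N acts fixed-point-freely on M (C_G(x) ≤ N for every x ∈ M, x ≠ 1) if and only if H ∩ gHg⁻¹ ≤ H ∩ N for every g outside H, with H proper and non-trivial and H ∩ N proper in H. -/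
theorem result {G : Type*} [Group G] [Finite G] (N M : Subgroup G) [N.Normal] [M.Normal] (hMN : M ≤ N) (hM1 : M ≠ ⊥) (hN2 : N ≠ ⊤)
    (H : Subgroup G) (hHM : H ⊔ M = ⊤) (hHM' : H ⊓ M = ⊥) :
    (∀ x ∈ M, x ≠ 1 → Subgroup.centralizer ({x} : Set G) ≤ N) ↔
      (H ≠ ⊥ ∧ H ≠ ⊤ ∧ H ⊓ N < H ∧ ∀ g : G, g ∉ H → H ⊓ H.map (MulAut.conj g).toMonoidHom ≤ N) := by
  have hM : M.Normal := inferInstance
  have hdec : ∀ g : G, ∃ m ∈ M, ∃ h ∈ H, m * h = g := fun g =>
    (H1.mem_sup_of_le_normalizer' (by rw [Subgroup.normalizer_eq_top]; exact le_top)).1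
      (by rw [sup_comm, hHM]; trivial)
  have hone : ∀ x ∈ H, x ∈ M → x = 1 := fun x h1 h2 => by
    have : x ∈ H ⊓ M := ⟨h1, h2⟩
    rwa [hHM'] at this
  have hHN : ¬ H ≤ N := fun h => hN2 (eq_top_iff.2 (hHM.ge.trans (sup_le h hMN)))
  constructor
  · intro h
    refine ⟨fun e => hHN (e ▸ bot_le), ?_, inf_lt_left.2 hHN, fun g hg => ?_⟩
    · rintro rfl
      exact hM1 (by simpa using hHM')
    · obtain ⟨m, hm, k, hk, rfl⟩ := hdec g
      rintro x ⟨hx1, hx2⟩
      have hx2 := H1.mem_map_conj.1 hx2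
      have hy : m⁻¹ * x * m ∈ H := by
        have := H.mul_mem (H.mul_mem hk hx2) (H.inv_mem hk)
        convert this using 1; group
      have h1 := hone (x⁻¹ * (m⁻¹ * x * m)) (H.mul_mem (H.inv_mem hx1) hy) (by
        simpa [mul_assoc] using M.mul_mem (hM.conj_mem _ (M.inv_mem hm) x⁻¹) hm)
      refine h m hm (fun e => hg (by simpa [e] using hk)) ?_
      rw [Subgroup.mem_centralizer_singleton_iff]
      calc x * m = m * x * (x⁻¹ * (m⁻¹ * x * m)) := by group
        _ = m * x := by rw [h1, mul_one]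
  · rintro ⟨-, -, -, h⟩
    -- first for elements of H
    have h1 : ∀ k ∈ H, k ∉ N → ∀ x ∈ M, k * x = x * k → x = 1 := by
      intro k hk hkN x hx e
      by_contra hx1
      refine hkN (h x (fun hxH => hx1 (hone x hxH hx)) ⟨hk, H1.mem_map_conj.2 ?_⟩)
      rw [mul_assoc, e]; simpa using hk
    intro x hx hx1 g hg
    by_contra hgN
    obtain ⟨m, hm, k, hk, rfl⟩ := hdec g
    have hkN : k ∉ N := fun e => hgN (N.mul_mem (hMN hm) e)
    obtain ⟨a, ha, e⟩ := H8.exists_conj_eq_of_fpf (N := M) (h := k)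
      (by rw [Subgroup.normalizer_eq_top]; trivial) (h1 k hk hkN) hm
    rw [Subgroup.mem_centralizer_singleton_iff, ← e] at hg
    have := h1 k hk hkN (a⁻¹ * x * a) (by simpa using hM.conj_mem _ hx a⁻¹) (by
      calc k * (a⁻¹ * x * a) = a⁻¹ * (a * k * a⁻¹ * x) * a := by group
        _ = _ := by rw [hg]; group)
    apply hx1
    calc x = a * (a⁻¹ * x * a) * a⁻¹ := by group
      _ = 1 := by rw [this]; group

end Cfsg.Agent.S4113
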