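import Cfsg.Statements.S4118
import Mathlib
import Cfsg.Agent.H8.FC6
import Cfsg.Agent.H7.FTc
import Cfsg.Agent.H7.Hall

set_option autoImplicit false
open Cfsg

namespace Cfsg.Agent.S4118

open H8 H7 H1B Subgroup
open scoped commutatorElement

variable {G : Type*} [Group G] [Finite G]

theorem cen_of_perfect {R H : Subgroup G} (hR : ⁅R, R⁆ = R) (hn : R ≤ nrm H) [IsZGroup H] :
    R ≤ cen H := by
  have e : (_root_.commutator H).map H.subtype = ⁅H, H⁆ := by
    rw [map_commutator_eq, range_subtype]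
  haveI := IsZGroup.isCyclic_commutator H
  haveI : IsCyclic (⁅H, H⁆ : Subgroup G) := e ▸ isCyclic_of_surjective _
    ((_root_.commutator H).equivMapOfInjective _ H.subtype_injective).surjective
  have n1 : R ≤ nrm ⁅H, H⁆ := nrm_commutator hn hn
  have n2 : H ≤ nrm ⁅H, H⁆ := nrm_commutator (le_nrm_self _) (le_nrm_self _)
  have c1 : R ≤ cen ⁅H, H⁆ := hR.ge.trans (H1.commutator_le_centralizer_of_isCyclic n1 n1)
  haveI := IsZGroup.of_surjective (imHom_surj (qm ⁅H, H⁆) n2)
  haveI : IsMulCommutative (im (qm ⁅H, H⁆) H) :=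
    isComm_iff.2 ((im_le_cen_iff n2 n2).2 (kr_qm _).ge)
  haveI : Group.IsNilpotent (im (qm ⁅H, H⁆) H) := nilp_of_comm_le_cen
    ((comm_eq_bot.2 (isComm_iff.1 this)).le.trans bot_le)
  have c2 := H1.commutator_le_centralizer_of_isCyclic (im_le_nrm (qm ⁅H, H⁆) hn) (im_le_nrm _ hn)
  rw [← im_commutator n1 n1, hR, im_le_cen_iff n1 n2, kr_qm] at c2
  have c3 : ⁅⁅R, H⁆, R⁆ ≤ ⊥ := (comm_eq_bot'.2 (c1.trans (cen_anti c2))).le
  have := three_subgroups (N := ⊥) (A := R) (B := R) (C := H) (le_nrm_bot _) (le_nrm_bot _)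
    (le_nrm_bot _) c3 (by rwa [commutator_comm H])
  rwa [hR, le_bot_iff, comm_eq_bot] at this

theorem fc_of_semi {H O : Subgroup G} (hO : Group.IsSolvable O) (hn : H ≤ nrm O)
    (hc : (ord H).Coprime (ord O)) (h1 : ¬ H ≤ cen O)
    (h : ∀ x ∈ H, x ≠ 1 → O ⊓ cen1 x ≤ cen H) : FC H := by
  set W := ⁅O, H⁆ with hW
  have WO : W ≤ O := comm_le_left hn
  have k : Cop H O := ⟨hn, hc, .inr hO⟩
  have n1 : H ≤ nrm W := nrm_commutator hn (le_nrm_self _)
  have n2 : H ≤ nrm ⁅W, W⁆ := nrm_commutator n1 n1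
  have n3 : W ≤ nrm ⁅W, W⁆ := nrm_commutator (le_nrm_self _) (le_nrm_self _)
  have le : ⁅W, W⁆ ≤ W := comm_le_of_le le_rfl le_rfl
  let f := qm ⁅W, W⁆
  have cm : IsMulCommutative (im f W) := isComm_iff.2 ((im_le_cen_iff n3 n3).2 (kr_qm _).ge)
  have e := comm_inf_cen_of_comm cm (im_le_nrm f n1) ((k.right WO n1).im f).cop
  rw [← im_commutator n3 n2, k.comm_comm] at e
  have hk : H ⊓ kr f = ⊥ := by
    rw [kr_qm, eq_bot_iff, ← k.inf_eq_bot]; exact inf_le_inf_left _ (le.trans WO)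
  refine (fc_of_reg (R := im f H) (K := im f W) ?_ (im_le_nrm f n1) fun e0 => h1 ?_).of_injective
    (imEquiv f n2 hk).toMonoidHom (imEquiv f n2 hk).injective
  · intro y hy y1
    obtain ⟨x, hx, rfl⟩ := (mem_im_of_le n2).1 hy
    rw [Cop.im_cen1 (n2 hx) n3 (n1 hx) (k.mono (zpowers_le.2 hx) (inf_le_left.trans WO)
      (nrm_inf (zpowers_le.2 (n1 hx)) ((zpowers_le.2 (n2 hx)).trans (le_nrm_kr f)))), eq_bot_iff, ← e]
    exact le_inf (im_mono f inf_le_left) (im_le_cen f ((inf_le_inf_right _ WO).trans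
      (h x hx fun e => y1 (by rw [e, ev_one]))))
  · rw [im_eq_bot_iff n3, kr_qm] at e0
    exact comm_eq_bot'.1 (le_bot_iff.1 (solv_le_of_le_sup_comm (solv_of_le WO hO) (le_nrm_bot _)
      (e0.trans le_sup_right)))

/-- Let G be a finite group and H a non-normal subgroup meeting each of its conjugates by elements outside N_G(H) trivially, with the order of H coprime to its index in N_G(H); let π be the set of primes dividing the order of H and suppose G is π-separable (it has a chain of normal subgroups from 1 to G each of whose factors has order divisible only by primes in π or coprime to the order of H). Let O be the largest normal subgroup of G of order coprime to the order of H. Then G = O·N_G(H), O·H is normal in G, and G is solvable if and only if O is solvable and H has no subgroup isomorphic to SL₂(5). -/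
theorem result {G : Type*} [Group G] [Finite G] (H : Subgroup G)
    (hTI : Cfsg.IsTISubset (H : Set G)) (hnn : ¬ H.Normal)
    (hHall : (Nat.card H).Coprime (H.subgroupOf (Subgroup.normalizer (H : Set G))).index)
    (hsep : ∃ (n : ℕ) (M : Fin (n + 1) → Subgroup G), M 0 = ⊥ ∧ M (Fin.last n) = ⊤ ∧ Monotone M ∧ (∀ i, (M i).Normal) ∧
      ∀ i : Fin n, (∀ q : ℕ, q.Prime → q ∣ (M i.castSucc).relIndex (M i.succ) → q ∣ Nat.card H) ∨
        ((M i.castSucc).relIndex (M i.succ)).Coprime (Nat.card H))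
    (O : Subgroup G) (hO : O = sSup {K : Subgroup G | K.Normal ∧ (Nat.card K).Coprime (Nat.card H)}) :
    O ⊔ Subgroup.normalizer (H : Set G) = ⊤ ∧ (O ⊔ H).Normal ∧
    (Group.IsSolvable G ↔ Group.IsSolvable O ∧
      ∀ K : Subgroup G, K ≤ H → ¬ Nonempty (K ≃* Matrix.SpecialLinearGroup (Fin 2) (ZMod 5))) := by
  set π : Set ℕ := {p | p.Prime ∧ p ∣ ord H} with hπ
  have cop : ∀ n : ℕ, n.Coprime (ord H) ↔ PiN πᶜ n := fun n =>
    ⟨fun h p hp hd e => hp.one_lt.ne' (Nat.eq_one_of_dvd_coprimes h hd e.2), fun h =>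
      Nat.coprime_of_dvd fun p hp hd e => h p hp hd ⟨hp, e⟩⟩
  have hN : Hall π H (nrm H) := hall_of_coprime (le_nrm_self H) hHall
  have ti : ∀ x ∈ H, x ≠ 1 → ∀ g, g * x * g⁻¹ ∈ H → g ∈ nrm H := fun x hx x1 g hg =>
    by_contra fun e => x1 (hTI g e x hx hg)
  have ti' : ∀ P ≤ H, P ≠ ⊥ → nrm P ≤ nrm H := fun P hP h1 g hg => by
    obtain ⟨⟨x, hx⟩, x1⟩ := ne_bot_iff_exists_ne_one.1 h1
    exact ti x (hP hx) (fun e => x1 (Subtype.ext e)) g (hP (nconj_mem hg hx))
  have hH : Hall π H ⊤ := hall_of_sylow le_top hN.pi fun p hp hd _ => by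
    haveI := Fact.mk hp
    obtain ⟨P, hP⟩ := H2.exists_isSylowIn p H
    exact ⟨P, syl_of_nrm le_top ((hN.syl hd hP).mono (le_inf le_top (le_nrm_self _))
      (inf_le_right.trans (ti' P hP.le (syl_ne_bot hP hd.2)))), hP.le⟩
  have eO : O = Opi πᶜ ⊤ := by
    rw [hO]
    exact le_antisymm (sSup_le fun K hK => le_Opi le_top (normal_iff_top_le_nrm.1 hK.1)
      ((cop _).1 hK.2)) (le_sSup ⟨normal_of (le_nrm_Opi _ _), (cop _).2 (piN_Opi _ _)⟩)
  haveI : O.Normal := eO ▸ normal_of (le_nrm_Opi _ _)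
  have pO : PiN πᶜ (ord O) := eO ▸ piN_Opi _ _
  have lO : ∀ K : Subgroup G, ⊤ ≤ nrm K → PiN πᶜ (ord K) → K ≤ O := fun K h1 h2 =>
    eO ▸ le_Opi le_top h1 h2
  have HO : H ⊓ O = ⊥ := hH.inf_eq_bot pO
  obtain ⟨n, M, m0, m1, mono, mn, hM⟩ := hsep
  obtain ⟨i, i1, i2⟩ : ∃ i : Fin n, M i.castSucc ≤ O ∧ ¬ M i.succ ≤ O := by
    by_contra! hh
    have : M (Fin.last n) ≤ O := Fin.induction (motive := fun i => M i ≤ O) (m0 ▸ bot_le) hh _
    rw [m1, top_le_iff] at this
    rw [this, inf_top_eq] at HO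
    exact hnn (HO ▸ inferInstance)
  haveI := mn i.succ
  have top : O ⊔ nrm H = ⊤ := by
    set K := M i.succ ⊔ O with hK
    have d : O.relIndex K ∣ (M i.castSucc).relIndex (M i.succ) := by
      rw [relIndex_sup_right]; exact relIndex_dvd_of_le_left _ i1
    have nK : ⊤ ≤ nrm K := le_nrm_of_normal _ _
    rcases hM i with h | h
    · have pk : PiN π (O.relIndex K) := fun q hq hd => ⟨hq, h q hq (hd.trans d)⟩
      obtain ⟨p, hp, hd⟩ := Nat.exists_prime_and_dvd (n := O.relIndex K) fun e =>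
        i2 (le_sup_left.trans (relIndex_eq_one.1 e))
      haveI := Fact.mk hp
      have hk := hH.inf le_top (le_top.trans nK)
      obtain ⟨P, hP⟩ := H2.exists_isSylowIn p (H ⊓ K)
      have hP' := hk.syl (pk p hp hd) hP
      rw [eq_top_iff, ← syl_frattini hP' le_top nK, ← hk.sup_normal le_sup_right pk]
      exact sup_le (inf_le_right.trans ((ti' P (hP.le.trans inf_le_left) (syl_ne_bot hP'
        (hd.trans (relIndex_dvd_card' _ _)))).trans le_sup_right))
        (sup_le (inf_le_left.trans ((le_nrm_self H).trans le_sup_right)) le_sup_left)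
    · refine absurd (le_sup_left.trans (lO K nK ?_)) i2
      rw [← relIndex_mul_card' (le_sup_right : O ≤ K)]
      exact (((cop _).1 h).dvd d).mul pO
  refine ⟨top, normal_of (top ▸ sup_le (le_sup_left.trans (le_nrm_self _))
    (nrm_sup (le_nrm_of_normal _ _) le_rfl)), fun _ => ⟨inferInstance, fun K _ ⟨e⟩ => ?_⟩,
    fun ⟨sO, hs⟩ => ?_⟩
  · haveI := Group.isSolvable_of_surjective (f := e.toMonoidHom) e.surjective
    haveI : Nontrivial (Matrix.SpecialLinearGroup (Fin 2) (ZMod 5)) := ⟨⟨_, _, sl_rel.2.2.2.2.1⟩⟩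
    exact (Group.IsSolvable.commutator_lt_top_of_nontrivial _).ne perfect_sl25
  have h : FC H := fc_of_semi sO (le_nrm_of_normal _ _) ((cop _).2 pO).symm (fun e => hnn
    (normal_of (top ▸ sup_le ((le_cen_symm e).trans (cen_le_nrm _)) le_rfl))) fun x hx x1 y hy => by
      have m := ti x hx x1 y (by rwa [mem_cen1.1 hy.2, mul_inv_cancel_right])
      refine mem_cen.2 fun b hb => ?_
      have : b * y * b⁻¹ * y⁻¹ ∈ H ⊓ O := ⟨by
        have := mul_mem hb (nconj_mem m (inv_mem hb)); simpa [mul_assoc] using this,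
        O.mul_mem (Normal.conj_mem ‹_› y hy.1 b) (O.inv_mem hy.1)⟩
      rwa [HO, mem_bot, mul_inv_eq_one, mul_inv_eq_iff_eq_mul] at this
  have sH : Group.IsSolvable H := by_contra fun e => by
    obtain ⟨-, -, -, -, ⟨e⟩⟩ := h.exists_a5 (h.gold_of_not_solvable e)
    exact hs _ (map_subtype_le (N3 H))
      ⟨((N3 H).equivMapOfInjective _ H.subtype_injective).symm.trans e⟩
  have sN : Group.IsSolvable (nrm H) := by
    by_cases h2 : 2 ∣ ord H
    · obtain ⟨E, e1, -, e3⟩ := exists_compl (le_nrm_self H) le_rfl hHall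
      rw [← e1]
      exact solv_sup (le_sup_left.trans e1.le) (solv_of_odd (Nat.not_even_iff_odd.1 fun e =>
        hN.not_dvd Nat.prime_two ⟨Nat.prime_two, h2⟩ (e3 ▸ e.two_dvd))) sH
    haveI := (h.isZ_of_odd (M := ⊤) (by rwa [card_top]))
    haveI := IsZGroup.of_surjective (f := (topEquiv (G := H)).toMonoidHom) topEquiv.surjective
    obtain ⟨R, r1, r2, r3, r4⟩ := exists_perfect_res (nrm H)
    have c := cen_of_perfect r3 r1
    have pR : PiN πᶜ (ord R) := fun p hp hd e => by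
      haveI := Fact.mk hp
      obtain ⟨P⟩ : Nonempty (Sylow p R) := inferInstance
      have le : (P : Subgroup R).map R.subtype ≤ H := hN.le_of_piN le_rfl
        ((map_subtype_le _).trans r1) fun q hq hq' => by
          rwa [show q = p from H1.isPGroup_iff_piNum.1 (P.isPGroup'.map R.subtype) q hq hq']
      have z : (P : Subgroup R) ≤ center R := fun x hx => mem_center_iff.2 fun y =>
        Subtype.ext (comm_of_le_cen c y.2 (le ⟨x, hx, rfl⟩))
      haveI : IsMulCommutative P := isComm_iff'.2 fun a _ b hb => mem_center_iff.1 (z hb) a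
      refine P.ne_bot_of_dvd_card hd (eq_bot_iff.2 fun x hx => eq_one_of_central_commutator P hx (z hx) ?_)
      rw [← mem_map_iff_mem R.subtype_injective, map_commutator_eq, range_subtype, r3]
      exact x.2
    refine r4 (solv_of_le (le_sup_left.trans (lO (R ⊔ O) ?_ ?_)) sO)
    · exact top ▸ sup_le (le_sup_right.trans (le_nrm_self _))
        (nrm_sup ((le_nrm_self _).trans r2) (le_nrm_of_normal _ _))
    · exact (pR.mul pO).dvd (card_sup_dvd (le_nrm_of_normal _ _))
  have := solv_sup (le_nrm_of_normal _ O) sN sO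
  rw [sup_comm, top] at this
  exact Group.isSolvable_of_surjective (f := (⊤ : Subgroup G).subtype) fun x => ⟨⟨x, trivial⟩, rfl⟩

end Cfsg.Agent.S4118
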