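import Cfsg.Statements.S4365
import Mathlib
import Cfsg.Agent.H8.Cls1

set_option autoImplicit false
open Cfsg

namespace Cfsg.Agent.S4365

open H8 H7 Subgroup
open scoped commutatorElement

/-- Let P be a finite p-group whose conjugacy class sizes are exactly 1 and pᵃ for some a ≥ 1. Then every element of P has its p-th power in the center of P (P/Z(P) has exponent p). -/
theorem result {P : Type*} [Group P] [Finite P] (p : ℕ) [Fact p.Prime]
    (hP : IsPGroup p P) (a : ℕ) (ha : 1 ≤ a)
    (hcs : {k : ℕ | ∃ x : P, (Subgroup.centralizer ({x} : Set P)).index = k} = {1, p ^ a}) (x : P) :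
    x ^ p ∈ Subgroup.center P := by
  have hp : p.Prime := Fact.out
  have h : ∀ x : P, x ∉ center P → (cen1 x).index = p ^ a := fun x hx => by
    have : (cen1 x).index ∈ ({1, p ^ a} : Set ℕ) := hcs ▸ ⟨x, rfl⟩
    exact this.resolve_left (mt index_cen1_eq_one.1 hx)
  by_contra hx
  have hnil : Group.IsNilpotent (⊤ : Subgroup P) := by haveI := hP.isNilpotent; infer_instance
  obtain ⟨A, -, hA⟩ := exists_scn hnil bot_le isComm_bot (le_nrm_bot _)
  haveI : A.Normal := normal_iff_top_le_nrm.2 hA.2.1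
  obtain ⟨h1, h2⟩ := mann (scn_comm hA) (by simpa using hA.2.2.le) (m := p ^ a)
    (fun x hx => (h x (mt index_cen1_eq_one.2 hx.ne')).ge) (M := ⊤) fun x _ => subset_closure
      ((em _).imp index_cen1_eq_one.2 (h x))
  have h3 : ∀ a b c : P, ⁅⁅a, b⁆, c⁆ ∈ center P := fun a b c => h1 (commutator_mem_commutator
    (h2 (commutator_mem_commutator (mem_top a) (mem_top b))) (mem_top c))
  -- elements with noncentral p-th power centralize every z of order p in Z₂/Z
  have hxc : x ∉ center P := fun h => hx (pow_mem h p)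
  obtain ⟨z0, -, hz0, hz1⟩ := nilp_exists_comm_le (U := center P) hnil le_rfl
    (lt_top_iff_ne_top.2 fun e => hxc (e ▸ mem_top x)) (le_nrm_self _) (le_nrm_of_normal _ _)
  obtain ⟨z, hz, hzp, hzc⟩ : ∃ z, z ∉ center P ∧ z ^ p ∈ center P ∧ ∀ g, ⁅z, g⁆ ∈ center P := by
    obtain ⟨k, hk⟩ := hP z0
    have hex : ∃ k, z0 ^ p ^ k ∈ center P := ⟨k, hk ▸ one_mem _⟩
    classical
    have h4 := Nat.find_spec hex
    obtain ⟨j, hj⟩ : ∃ j, Nat.find hex = j + 1 := Nat.exists_eq_succ_of_ne_zero fun e => by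
      rw [e] at h4; exact hz0 (by simpa using h4)
    refine ⟨z0 ^ p ^ j, Nat.find_min hex (by omega), by rwa [← pow_mul, ← pow_succ, ← hj], fun g => ?_⟩
    rw [comm_pow_left (mem_center_iff.1 (hz1 g trivial) z0).symm]
    exact pow_mem (hz1 g trivial) _
  have h5 : ∀ y : P, y ^ p ∉ center P → y ∈ cen1 z := fun y hy => by
    have e := eq_of_index_le (cen1_le_pow y p) (by rw [h _ hy, h y fun h => hy (pow_mem h p)])
    have h6 : ⁅y, z⁆ ∈ center P := by rw [← inv_mem_iff, commutatorElement_inv]; exact hzc y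
    have : z ∈ cen1 (y ^ p) := by
      rw [mem_cen1, eq_comm, ← commutatorElement_eq_one_iff_mul_comm,
        comm_pow_left (mem_center_iff.1 h6 y).symm, ← inv_eq_one, ← inv_pow, commutatorElement_inv,
        ← comm_pow_left (mem_center_iff.1 (hzc y) z).symm, commutatorElement_eq_one_iff_mul_comm]
      exact (mem_center_iff.1 hzp y).symm
    rw [← e] at this
    exact mem_cen1.2 (mem_cen1.1 this).symm
  let π := QuotientGroup.mk' (center P)
  have hπ : ∀ y, π y = 1 ↔ y ∈ center P := fun y => QuotientGroup.eq_one_iff y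
  have h6 : ∀ y, y ∉ cen1 z → π y ^ p = 1 := fun y hy => by
    rw [← map_pow, hπ]; by_contra h; exact hy (h5 y h)
  have h7 : ∀ a b c : P, Commute ⁅π a, π b⁆ (π c) := fun a b c => by
    rw [← commutatorElement_eq_one_iff_commute, ← map_commutatorElement, ← map_commutatorElement, hπ]
    exact h3 a b c
  have hxz := h5 x hx
  have hC : cen1 z ≠ ⊤ := fun e => hz (index_cen1_eq_one.1 (index_eq_one.2 e))
  obtain ⟨y, hy⟩ : ∃ y, y ∉ cen1 z := by
    by_contra h; push Not at h; exact hC (eq_top_iff.2 fun y _ => h y)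
  have hxy : ∀ y, y ∉ cen1 z → x * y ∉ cen1 z := fun y hy h => hy ((mul_mem_cancel_left hxz).1 h)
  by_cases h2' : p = 2
  swap
  · have h8 := h6 _ (hxy y hy)
    rw [map_mul, mul_pow_of_comm_odd h2' (h7 y x x) (h7 y x y) (by
      rw [← comm_pow_left (h7 y x y), h6 y hy]; simp), h6 y hy, mul_one, ← map_pow, hπ] at h8
    exact hx h8
  subst h2'
  have h8 : ∀ y, y ∉ cen1 z → π y * π x = (π x)⁻¹ * π y := fun y hy => by
    have e1 := h6 y hy
    have e2 := h6 _ (hxy y hy)
    rw [map_mul, pow_two] at e2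
    rw [pow_two] at e1
    calc π y * π x = (π x)⁻¹ * (π x * π y * (π x * π y)) * (π y)⁻¹ := by group
      _ = _ := by rw [e2, mul_one, inv_eq_of_mul_eq_one_right e1]
  have h9 : (cen1 z).index = 2 := by
    refine index_eq_two_iff.2 ⟨y, fun b => ?_⟩
    by_cases hb : b ∈ cen1 z
    · exact Or.inr ⟨hb, fun h => hy ((mul_mem_cancel_left hb).1 h)⟩
    refine Or.inl ⟨?_, hb⟩
    by_contra hby
    have e1 := h8 _ hby
    have e2 := h8 y hy
    have e3 : π b * (π x)⁻¹ = π x * π b := by
      calc _ = π x * ((π x)⁻¹ * π b) * (π x)⁻¹ := by group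
        _ = _ := by rw [← h8 b hb]; group
    rw [map_mul, mul_assoc, e2, ← mul_assoc, e3, mul_assoc] at e1
    have := mul_right_cancel e1
    exact hx ((hπ _).1 (by rw [map_pow, pow_two]; nth_rw 1 [this]; simp))
  rw [h z hz] at h9
  have h10 : ∀ u : P, commutator P ≤ cen1 u := fun u => by
    by_cases hu : u ∈ center P
    · rw [index_eq_one.1 (index_cen1_eq_one.2 hu)]; exact le_top
    · have hi := (h u hu).trans h9
      haveI := normal_of_index_eq_two hi
      refine commutator_le.2 fun a _ b _ => ?_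
      rw [commutatorElement_def, mul_mem_iff_of_index_two hi, mul_mem_iff_of_index_two hi,
        mul_mem_iff_of_index_two hi, inv_mem_iff, inv_mem_iff]
      tauto
  refine hx (mem_center_iff.2 fun g => ?_)
  have h11 : ∀ a b u : P, Commute ⁅a, b⁆ u := fun a b u =>
    mem_cen1.1 (h10 u (commutator_mem_commutator (mem_top a) (mem_top b)))
  rw [eq_comm, ← commutatorElement_eq_one_iff_mul_comm, comm_pow_left (h11 x g x), ← inv_eq_one,
    ← inv_pow, commutatorElement_inv, ← comm_pow_left (h11 g x g), commutatorElement_eq_one_iff_mul_comm]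
  exact mem_cen1.1 (sq_mem_of_index_two ((h x hxc).trans h9) g)

end Cfsg.Agent.S4365
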