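import Cfsg.Statements.S4134
import Mathlib
import Cfsg.Agent.H8.Cls2
import Cfsg.Agent.S4365

set_option autoImplicit false
open Cfsg

namespace Cfsg.Agent.S4134

open H8 H7 Subgroup

/-- Let G be a finite group whose conjugacy classes have exactly two sizes, 1 and n > 1. Then n is a power of a prime p and G is the direct product of a p-group and an abelian group of order prime to p: its Sylow p-subgroup P is normal with an abelian normal complement centralizing it; moreover P has an abelian normal subgroup A with P/A of exponent dividing p. -/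
theorem result {G : Type*} [Group G] [Finite G] (n : ℕ) (hn : 1 < n)
    (h : ∀ x : G, (Subgroup.centralizer ({x} : Set G)).index = 1 ∨ (Subgroup.centralizer ({x} : Set G)).index = n) (hex : ∃ x : G, (Subgroup.centralizer ({x} : Set G)).index = n) :
    ∃ (p : ℕ) (_ : Fact p.Prime) (a : ℕ), n = p ^ a ∧ ∀ P : Sylow p G, (P : Subgroup G).Normal ∧
      (∃ N : Subgroup G, N.Normal ∧ N.IsComplement' (P : Subgroup G) ∧ IsMulCommutative N ∧
        ∀ x ∈ N, ∀ y ∈ (P : Subgroup G), x * y = y * x) ∧
      ∃ A : Subgroup (P : Subgroup G), A.Normal ∧ IsMulCommutative A ∧ ∀ y : (P : Subgroup G), y ^ p ∈ A := by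
  have h' : ∀ x : G, x ∉ center G → (cen1 x).index = n := fun x hx =>
    (h x).resolve_left (mt index_cen1_eq_one.1 hx)
  obtain ⟨x, hx⟩ := hex
  have hxc : x ∉ center G := fun e => by
    have := index_cen1_eq_one.2 e
    change (cen1 x).index = n at hx
    omega
  obtain ⟨p, hp, a, rfl, hz⟩ := ito_pow h' hxc
  refine ⟨p, hp, a, rfl, fun P => ?_⟩
  have hP := H2.sylow_isSylowIn_top P
  obtain ⟨h1, -, h3⟩ := npc_of_index (p := p) (fun y hy => by
    rw [index_cen1_eq_one.2 (hz (H2.pRes_top (p := p) (G := G) ▸ H2.mem_pResidual_of_coprime hy))]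
    exact hp.out.not_dvd_one) hP
  rw [H2.pRes_top] at hz
  obtain ⟨N, hN, hc⟩ := (H2.hasNPC_iff_sylow P).1 h3
  have hNz : N ≤ center G := by rw [H2.eq_pResidual_of_isComplement' hc]; exact hz
  refine ⟨h1, ⟨N, hN, hc, ⟨⟨fun u v => Subtype.ext (mem_center_iff.1 (hNz v.2) u)⟩⟩,
    fun u hu v _ => (mem_center_iff.1 (hNz hu) v).symm⟩, center P, inferInstance, inferInstance, fun y => ?_⟩
  have hi : ∀ y : P, (cen1 y).index = (cen1 (y : G)).index := fun y => by
    rw [H1B.cen1_coe]
    refine (H1.fac_of_normal ?_).relIndex_eq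
    rw [eq_top_iff, ← hc.sup_eq_top]
    exact sup_le_sup_right (hNz.trans (center_le_cen1 _)) _
  have ha : 1 ≤ a := by
    rcases a with _ | a
    · simp at hn
    · omega
  refine Cfsg.Agent.S4365.result p P.isPGroup' a ha ?_ y
  ext k
  constructor
  · rintro ⟨u, rfl⟩
    change (cen1 u).index ∈ _
    rw [hi]
    exact h u
  · rintro (rfl | rfl)
    · exact ⟨1, index_cen1_eq_one.2 (one_mem _)⟩
    · by_contra hne
      refine hxc ((?_ : (⊤ : Subgroup G) ≤ center G) (mem_top x))
      rw [← hc.sup_eq_top]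
      refine sup_le hNz fun u hu => ?_
      by_contra hu'
      exact hne ⟨⟨u, hu⟩, (hi _).trans (h' u hu')⟩

end Cfsg.Agent.S4134
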