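import Cfsg.Statements.S4155
import Mathlib
import Cfsg.Agent.H8.FC6
import Cfsg.Agent.H1.Cores
import Cfsg.Agent.H1.Fitting

set_option autoImplicit false
open Cfsg

namespace Cfsg.Agent.S4155

/-- Let G be a finite group and N a proper non-trivial normal nilpotent subgroup whose order is not a prime power, such that for every x outside N all elements of the coset xN have the same order as x. Then N is the Fitting subgroup of G, and for every prime q every Sylow q-subgroup of G/N is cyclic or generalized quaternion. -/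
theorem result {G : Type*} [Group G] [Finite G] (N : Subgroup G) [N.Normal] (hN1 : N ≠ ⊥) (hN2 : N ≠ ⊤)
    (heq : ∀ x : G, x ∉ N → ∀ n ∈ N, orderOf (x * n) = orderOf x)
    (hnil : Group.IsNilpotent N) (hnpp : ¬ IsPrimePow (Nat.card N)) :
    N = Cfsg.fittingSubgroup G ∧
    ∀ (q : ℕ) [Fact q.Prime] (Q : Sylow q (G ⧸ N)), IsCyclic (Q : Subgroup (G ⧸ N)) ∨ ∃ n : ℕ, Nonempty ((Q : Subgroup (G ⧸ N)) ≃* QuaternionGroup (2 ^ n)) := by
  classical
  have ex : ∀ q : ℕ, q.Prime → ∃ K : Subgroup G, K.Normal ∧ K ≠ ⊥ ∧ K ≤ N ∧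
      (∀ R : Subgroup G, IsPGroup q R → (Nat.card R).Coprime (Nat.card K)) := fun q hq => by
    haveI := Fact.mk hq
    obtain ⟨p, hp, d, n⟩ : ∃ p : ℕ, p.Prime ∧ p ∣ Nat.card N ∧ p ≠ q := by
      by_contra h
      push Not at h
      have := Nat.eq_prime_pow_of_unique_prime_dvd (p := q) (Nat.card_pos (α := N)).ne'
        fun a b => h _ a b
      refine hnpp (this ▸ hq.isPrimePow.pow fun e => hN1 (Subgroup.card_eq_one.1 ?_))
      rw [this, e, pow_zero]
    haveI := Fact.mk hp
    obtain ⟨P⟩ : Nonempty (Sylow p N) := inferInstance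
    haveI := Sylow.characteristic_of_normal P inferInstance
    exact ⟨(P : Subgroup N).map N.subtype, inferInstance, fun e => P.ne_bot_of_dvd_card d
      ((Subgroup.map_eq_bot_iff_of_injective _ N.subtype_injective).1 e), Subgroup.map_subtype_le _,
      fun R hR => IsPGroup.coprime_card_of_ne q p n.symm _ _ hR (P.isPGroup'.map _)⟩
  have key : ∀ R K : Subgroup G, K ≤ N → (Nat.card R).Coprime (Nat.card K) → ∀ x ∈ R, ∀ n ∈ K,
      Commute x n → x ∈ N ∨ n = 1 := fun R K le c x hx n hn h => or_iff_not_imp_left.2 fun e => by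
    have := heq x e n (le hn)
    rwa [h.orderOf_mul_eq_mul_orderOf_of_coprime ((c.of_dvd_left (R.orderOf_dvd_natCard hx)
      ).of_dvd_right (K.orderOf_dvd_natCard hn)), mul_eq_left₀ (orderOf_pos x).ne',
      orderOf_eq_one_iff] at this
  refine ⟨le_antisymm H1.le_fitting (H1.fitting_le_of_pCore_le fun p _ x hx => ?_), fun q _ Q => ?_⟩
  · obtain ⟨K, -, k1, le, c⟩ := ex p Fact.out
    have c := c _ (H1.isPGroup_pCore (p := p) (G := G))
    obtain ⟨n, n1⟩ := Subgroup.ne_bot_iff_exists_ne_one.1 k1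
    exact (key _ K le c x hx n n.2 (H1.commute_of_isNilpotent_of_coprime H1.pCore_le_fitting
      (le.trans H1.le_fitting) c hx n n.2).symm).resolve_right fun e => n1 (Subtype.ext e)
  obtain ⟨K, _, k1, le, c⟩ := ex q Fact.out
  obtain ⟨R, rfl⟩ := Sylow.mapSurjective_surjective (QuotientGroup.mk'_surjective N) q Q
  haveI := (Subgroup.nontrivial_iff_ne_bot K).2 k1
  let f := (QuotientGroup.mk' N).subgroupMap R
  have hf : Function.Surjective f := MonoidHom.subgroupMap_surjective _ _
  let ψ : R →* MulAut K := MulAut.conjNormal.comp (R : Subgroup G).subtype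
  have hk : f.ker ≤ ψ.ker := fun x hx => MulEquiv.ext fun k => Subtype.ext (by
    have := H1.commute_of_isNilpotent_of_coprime (A := R ⊓ N) inf_le_right le
      (c _ (R.isPGroup'.to_le inf_le_left))
      ⟨x.2, (QuotientGroup.eq_one_iff _).1 (congrArg Subtype.val hx)⟩ k k.2
    simp [ψ, ← this])
  have h := H8.fc_of_mulAut (f.liftOfSurjective hf ⟨ψ, hk⟩) fun g k e => by
    obtain ⟨x, rfl⟩ := hf g
    rw [MonoidHom.liftOfRightInverse_comp_apply] at e
    exact (key _ K le (c _ R.isPGroup') x x.2 k k.2 (mul_inv_eq_iff_eq_mul.1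
      (congrArg Subtype.val e))).imp (fun h => Subtype.ext ((QuotientGroup.eq_one_iff _).2 h))
      Subtype.ext
  have hp : IsPGroup q (⊤ : Subgroup ((R : Subgroup G).map (QuotientGroup.mk' N))) :=
    (R.isPGroup'.map _).to_subgroup _
  by_cases q2 : q = 2
  · subst q2
    refine (h.ui'.cyclic_or_quat hp).imp (fun c => Subgroup.topEquiv.isCyclic.1 c) fun ⟨a, n, h⟩ => ⟨n + 1, ?_⟩
    obtain ⟨e⟩ := H8.equiv_of_Quat h
    exact ⟨Subgroup.topEquiv.symm.trans e⟩
  · exact .inl (Subgroup.topEquiv.isCyclic.1 (h.cyc q Fact.out q2 _ hp))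

end Cfsg.Agent.S4155
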