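import Cfsg.Statements.S4231
import Cfsg.Agent.S5164
import Cfsg.Agent.H8.AutA

set_option autoImplicit false
open Cfsg

namespace Cfsg.Agent.S4231
open H7
open scoped commutatorElement

section
open Subgroup

theorem odd_aut (n : ℕ) (hn : 5 ≤ n) (φ : MulAut (alternatingGroup (Fin n))) (h : Odd (orderOf φ)) :
    φ ∈ (MulAut.conjNormal : Equiv.Perm (Fin n) →* MulAut (alternatingGroup (Fin n))).range := by
  classical
  have hn4 : 4 ≤ Nat.card (Fin n) := by simp; omega
  have key : ∀ ψ : MulAut (alternatingGroup (Fin n)), (Nat.card (Fin n) ≠ 6 ∨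
      ∃ g : alternatingGroup (Fin n), (g : Equiv.Perm (Fin n)).IsThreeCycle ∧ (ψ g : Equiv.Perm (Fin n)).IsThreeCycle) →
      ψ ∈ (MulAut.conjNormal : Equiv.Perm (Fin n) →* MulAut (alternatingGroup (Fin n))).range := by
    intro ψ hψ
    obtain ⟨σ, h⟩ := H8.aut_alt hn4 ψ hψ
    exact ⟨σ, MulEquiv.ext fun x => Subtype.ext (h x).symm⟩
  by_cases h6 : n = 6
  swap
  · exact key φ (Or.inl (by simpa using h6))
  subst h6
  have hty : ∀ g : alternatingGroup (Fin 6), orderOf g = 3 → (g : Equiv.Perm (Fin 6)).IsThreeCycle ∨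
      (g : Equiv.Perm (Fin 6)).cycleType = {3, 3} := by
    intro g hg
    have hg' : orderOf (g : Equiv.Perm (Fin 6)) = 3 := by rw [Subgroup.orderOf_coe, hg]
    obtain ⟨k, hk⟩ := Equiv.Perm.cycleType_prime_order (σ := (g : Equiv.Perm (Fin 6))) (by rw [hg']; norm_num)
    have := Equiv.Perm.sum_cycleType_le (g : Equiv.Perm (Fin 6))
    rw [hk, hg'] at this
    simp at this
    rw [hg'] at hk
    have : k = 0 ∨ k = 1 := by omega
    rcases this with rfl | rfl
    · exact Or.inl hk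
    · exact Or.inr hk
  have hcj : ∀ g h : alternatingGroup (Fin 6), (g : Equiv.Perm (Fin 6)).cycleType = {3, 3} →
      (h : Equiv.Perm (Fin 6)).cycleType = {3, 3} → IsConj g h := by
    let h0 : Equiv.Perm (Fin 6) := Equiv.swap 0 1 * Equiv.swap 1 2 * (Equiv.swap 3 4 * Equiv.swap 4 5)
    let s0 : Equiv.Perm (Fin 6) := Equiv.swap 0 3 * Equiv.swap 1 4 * Equiv.swap 2 5
    have e0 : h0.cycleType = {3, 3} := by decide
    have e1 : s0 * h0 * s0⁻¹ = h0 := by decide
    have e2 : Equiv.Perm.sign s0 = -1 := by decide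
    have e3 : Equiv.Perm.sign h0 = 1 := by decide
    have : ∀ g : alternatingGroup (Fin 6), (g : Equiv.Perm (Fin 6)).cycleType = {3, 3} → IsConj ⟨h0, e3⟩ g := by
      intro g hg
      obtain ⟨σ, hσ⟩ := isConj_iff.1 (Equiv.Perm.isConj_iff_cycleType_eq.2 (e0.trans hg.symm))
      rcases Int.units_eq_one_or (Equiv.Perm.sign σ) with h | h
      · exact isConj_iff.2 ⟨⟨σ, h⟩, Subtype.ext hσ⟩
      · refine isConj_iff.2 ⟨⟨σ * s0, by rw [Equiv.Perm.mem_alternatingGroup, map_mul, h, e2]; decide⟩, Subtype.ext ?_⟩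
        show σ * s0 * h0 * (σ * s0)⁻¹ = g
        rw [← hσ]
        conv_rhs => rw [← e1]
        group
    exact fun g h hg hh => (this g hg).symm.trans (this h hh)
  let g0 : alternatingGroup (Fin 6) := ⟨Equiv.swap 0 1 * Equiv.swap 1 2, Equiv.Perm.mem_alternatingGroup.2 (by decide)⟩
  have hg0 : (g0 : Equiv.Perm (Fin 6)).IsThreeCycle := by
    show (Equiv.swap 0 1 * Equiv.swap 1 2 : Equiv.Perm (Fin 6)).cycleType = {3}
    decide
  have ho : orderOf g0 = 3 := by rw [← Subgroup.orderOf_coe, hg0.orderOf]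
  have ho1 : orderOf (φ g0) = 3 := by rw [MulEquiv.orderOf_eq, ho]
  have ho2 : orderOf (φ (φ g0)) = 3 := by rw [MulEquiv.orderOf_eq, ho1]
  rcases hty _ ho1 with h1 | h1
  · exact key φ (Or.inr ⟨g0, hg0, h1⟩)
  rcases hty _ ho2 with h2 | h2
  · have := key (φ * φ) (Or.inr ⟨g0, hg0, h2⟩)
    obtain ⟨k, hk⟩ := h
    have e : φ = (φ * φ) ^ (k + 1) := by
      rw [← pow_two, ← pow_mul, show 2 * (k + 1) = orderOf φ + 1 by omega, pow_succ, pow_orderOf_eq_one, one_mul]
    rw [e]; exact pow_mem this _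
  · exfalso
    have h3 := φ.symm.toMonoidHom.map_isConj (hcj _ _ h1 h2)
    simp only [MulEquiv.coe_toMonoidHom, MulEquiv.symm_apply_apply] at h3
    have h4 := Equiv.Perm.isConj_iff_cycleType_eq.1 ((alternatingGroup (Fin 6)).subtype.map_isConj h3)
    have h5 : (g0 : Equiv.Perm (Fin 6)).cycleType = {3} := hg0
    change (g0 : Equiv.Perm (Fin 6)).cycleType = (φ g0 : Equiv.Perm (Fin 6)).cycleType at h4
    rw [h5, h1] at h4
    exact absurd h4 (by decide)

end

/-- Let n ≥ 5 and let G be a group of automorphisms of the alternating group of degree n containing all inner automorphisms. If p ≠ q are primes and G has no element of order pq, then every Sylow p-subgroup of G is abelian or every Sylow q-subgroup of G is abelian. -/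
theorem result (n : ℕ) (hn : 5 ≤ n) (G : Subgroup (MulAut (alternatingGroup (Fin n))))
    (hG : (MulAut.conj : alternatingGroup (Fin n) →* MulAut (alternatingGroup (Fin n))).range ≤ G)
    (p q : ℕ) [Fact p.Prime] [Fact q.Prime] (hpq : p ≠ q) (h : ∀ g : G, orderOf g ≠ p * q) :
    (∀ P : Sylow p G, IsMulCommutative (P : Subgroup G)) ∨ (∀ Q : Sylow q G, IsMulCommutative (Q : Subgroup G)) := by
  open Subgroup in
  classical
  have hn4 : 4 ≤ Nat.card (Fin n) := by simp; omega
  have hinj := H8.conjNormal_inj hn4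
  have key : ∀ (r : ℕ) [Fact r.Prime], r ≠ 2 → (¬ ∀ P : Sylow r G, IsMulCommutative (P : Subgroup G)) → r ^ 2 ≤ n := by
    intro r hr h2 hP
    by_contra hlt
    apply hP
    intro P
    have hm : ∀ x : (P : Subgroup G), ((x : G) : MulAut (alternatingGroup (Fin n))) ∈
        (MulAut.conjNormal : Equiv.Perm (Fin n) →* MulAut (alternatingGroup (Fin n))).range := by
      intro x
      apply odd_aut n hn
      obtain ⟨k, hk⟩ := (IsPGroup.iff_orderOf.1 P.isPGroup') x
      rw [Subgroup.orderOf_coe, Subgroup.orderOf_coe, hk]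
      exact (hr.out.odd_of_ne_two h2).pow
    let ψ : (P : Subgroup G) →* Equiv.Perm (Fin n) := (MonoidHom.ofInjective hinj).symm.toMonoidHom.comp
      ((G.subtype.comp (P : Subgroup G).subtype).codRestrict _ hm)
    refine ⟨⟨Cfsg.Agent.S5164.comm_of_lt_sq P.isPGroup' ψ ?_ (by simpa using hlt)⟩⟩
    intro x y e
    have := (MonoidHom.ofInjective hinj).symm.injective e
    have h5 := congrArg Subtype.val this
    exact Subtype.ext (Subtype.ext h5)
  have ex : ∀ m : Multiset ℕ, m.sum ≤ n → (∀ a ∈ m, 2 ≤ a) → Even (m.sum + m.card) → ∃ g : G, orderOf g = m.lcm := by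
    intro m h1 h2 h3
    obtain ⟨σ, hσ⟩ := (Equiv.Perm.exists_with_cycleType_iff (Fin n) (m := m)).2 ⟨by simpa using h1, h2⟩
    have hs : σ ∈ alternatingGroup (Fin n) := by
      rw [Equiv.Perm.mem_alternatingGroup, Equiv.Perm.sign_of_cycleType, hσ]
      exact h3.neg_one_pow
    refine ⟨⟨MulAut.conj ⟨σ, hs⟩, hG ⟨_, rfl⟩⟩, ?_⟩
    rw [← Subgroup.orderOf_coe, ← hσ, Equiv.Perm.lcm_cycleType, ← orderOf_injective _ hinj σ]
    rfl
  by_contra hcon
  rw [not_or] at hcon
  have hp : p.Prime := Fact.out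
  have hq : q.Prime := Fact.out
  have two : ∀ r : ℕ, r.Prime → r ≠ 2 → r ^ 2 ≤ n → ∃ g : G, orderOf g = 2 * r := by
    intro r hr h2 hle
    have h3 : 3 ≤ r := by have := hr.two_le; omega
    obtain ⟨k, hk⟩ := hr.odd_of_ne_two h2
    obtain ⟨g, hg⟩ := ex {r, 2, 2} (by simp; nlinarith) (by simp; omega) (by simp [Nat.even_iff]; omega)
    refine ⟨g, ?_⟩
    rw [hg]
    simp only [Multiset.insert_eq_cons, Multiset.lcm_cons, Multiset.lcm_singleton, normalize_eq, lcm_same]
    rw [mul_comm]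
    exact Nat.Coprime.lcm_eq_mul ((Nat.coprime_primes hr Nat.prime_two).2 h2)
  by_cases h2 : p = 2
  · subst h2
    obtain ⟨g, hg⟩ := two q hq hpq.symm (key q hpq.symm hcon.2)
    exact h g hg
  by_cases h3 : q = 2
  · subst h3
    obtain ⟨g, hg⟩ := two p hp h2 (key p h2 hcon.1)
    exact h g (by rw [hg, mul_comm])
  have a1 := key p h2 hcon.1
  have a2 := key q h3 hcon.2
  have b1 := hp.two_le
  have b2 := hq.two_le
  obtain ⟨k, hk⟩ := hp.odd_of_ne_two h2
  obtain ⟨l, hl⟩ := hq.odd_of_ne_two h3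
  obtain ⟨g, hg⟩ := ex {p, q} (by simp; nlinarith) (by simp; omega) (by simp [Nat.even_iff]; omega)
  apply h g
  rw [hg]
  simp only [Multiset.insert_eq_cons, Multiset.lcm_cons, Multiset.lcm_singleton, normalize_eq]
  exact Nat.Coprime.lcm_eq_mul ((Nat.coprime_primes hp hq).2 hpq)

end Cfsg.Agent.S4231
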