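import Cfsg.Statements.S4408
import Cfsg.Agent.H7.GK
import Cfsg.Agent.S1349

set_option autoImplicit false
open Cfsg

namespace Cfsg.Agent.S4408
open H7
open scoped commutatorElement

section
open Subgroup

theorem ab {G : Type*} [Group G] [Finite G] (d : ℕ) : ∀ U A : Subgroup G, IsMulCommutative U → (ord U).Coprime 2 → EA 2 A →
    ord A = 2 ^ d → A ≤ nrm U → A ⊓ cen U = ⊥ → ∃ f : Fin d → Subgroup G, (∀ i, (ord (f i)).Prime ∧ f i ≤ U ∧ A ≤ nrm (f i)) ∧
      ord (⨆ i, f i) = ∏ i, ord (f i) ∧ A ⊓ cen (⨆ i, f i) = ⊥ := by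
  induction d with
  | zero => exact fun U A _ _ _ h _ _ => ⟨Fin.elim0, fun i => i.elim0, by simp, by rw [card_eq_one.1 h, bot_inf_eq]⟩
  | succ d ih =>
  intro U A cU oU hA oA n hf
  have co := cop_of_pgroup hA.isPGroup oU n
  have A1 := ne_bot_of_pow_le oA.ge
  obtain ⟨a, ⟨ha, a1⟩, hm⟩ := Set.exists_max_image {a | a ∈ A ∧ a ≠ 1} (fun a => ord (U ⊓ cen1 a)) (Set.toFinite _) (exists_ne_one A1)
  have nU : ¬ U ≤ cen1 a := fun l => a1 (mem_bot.1 (hf.le ⟨ha, le_cen1_iff.1 l⟩))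
  have o := hA.orderOf ha a1
  have e : A ⊓ cen (U ⊓ cen1 a : Subgroup G) = zpowers a := by
    have l : zpowers a ≤ A ⊓ cen (U ⊓ cen1 a : Subgroup G) := zpowers_le.2 ⟨ha, le_cen1_iff.1 inf_le_right⟩
    refine (eq_of_le_of_card_le l ?_).symm
    rw [card_zpowers_eq, o]
    refine (hA.of_le inf_le_left).card_le_of_cyc (by_contra fun k => nU ((co.left inf_le_left).le_of_cen1
      (hA.of_le inf_le_left).comm k fun b hb b1 => ?_))
    exact (eq_of_le_of_card_le (le_inf inf_le_left (le_cen1_iff.2 hb.2)) (hm b ⟨hb.1, b1⟩)).ge.trans inf_le_right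
  have za := zpowers_le.2 ha
  have nV := nrm_commutator n (hA.le_nrm za)
  have lV := comm_le_left (za.trans n)
  obtain ⟨B, hB, i, k⟩ : ∃ B ≤ A, B.relIndex A = 2 ∧ ⁅U, zpowers a⁆ ⊓ cen B ≠ ⊥ := by
    by_contra! k
    exact nU (by rw [← cen_zpowers]; exact comm_eq_bot.1 (le_bot_iff.1 ((co.right lV nV).le_of_hyper hA A1
      fun B a b => (k B a b).le)))
  obtain ⟨r, pr, dr⟩ := Nat.exists_prime_and_dvd (mt card_eq_one.1 k)
  haveI := Fact.mk pr
  obtain ⟨x, hx, ox⟩ := H2.exists_mem_orderOf_eq_prime dr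
  have x1 : x ≠ 1 := fun e => pr.one_lt.ne' (by rw [← ox, e, orderOf_one])
  have i0 := comm_inf_cen_of_comm cU (za.trans n) (co.left za).cop
  have a2 : a * a = 1 := by rw [← sq]; exact hA.pow ha
  have inv : a * x * a⁻¹ = x⁻¹ := by
    have m := conj_mem nV ha hx.1
    refine eq_inv_of_mul_eq_one_right (mem_bot.1 (i0.le ⟨mul_mem hx.1 m, ?_⟩))
    rw [cen_zpowers]; refine mem_cen1.2 ?_
    have c := isComm_iff'.1 cU _ (lV hx.1) _ (lV m)
    calc _ = (a * x * a⁻¹) * x * a := by rw [c]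
      _ = a * (x * ((a * a)⁻¹ * a * x * (a * a) * a⁻¹)) := by group
      _ = _ := by rw [a2]; group
  have xa : x ∉ cen (zpowers a) := fun h => x1 (i0.le ⟨hx.1, h⟩)
  have aB : a ∉ B := fun h => xa (cen_anti (zpowers_le.2 h) hx.2)
  have iB : B ⊓ zpowers a = ⊥ := by
    rw [inf_comm]; by_contra h; exact aB (le_of_card_p (by rw [card_zpowers_eq, o]) h (mem_zpowers a))
  have oB := card_of_hyper hB i
  have sB : B ⊔ zpowers a = A := eq_of_le_of_card_le (sup_le hB za) (by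
    rw [card_sup_of_inf_eq_bot (hB.trans (hA.le_nrm za)) iB, card_zpowers_eq, o]; omega)
  obtain ⟨f, h1, h2, h3⟩ := ih (U ⊓ cen1 a) B (isComm_of_le cU inf_le_left) (coprime_of_le inf_le_left oU) (hA.of_le hB)
    (by omega) (hB.trans (nrm_inf n (nrm_cen1 (hA.le_cen1 ha)))) (eq_bot_of_le (le_inf inf_le_left ((inf_le_inf_right _ hB).trans e.le)) iB)
  have lf : ⨆ i, f i ≤ U ⊓ cen1 a := iSup_le fun i => (h1 i).2.1
  have es : (⨆ i, (Fin.cons (zpowers x) f : Fin (d + 1) → Subgroup G) i) = zpowers x ⊔ ⨆ i, f i :=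
    le_antisymm (iSup_le fun i => Fin.cases le_sup_left (fun i => le_sup_of_le_right (le_iSup f i)) i)
      (sup_le (le_iSup_of_le 0 le_rfl) (iSup_le fun i => le_iSup_of_le i.succ le_rfl))
  have oz : ord (zpowers x) = r := (card_zpowers_eq x).trans ox
  have nx : A ≤ nrm (zpowers x) := by
    refine sB.ge.trans (sup_le (le_nrm_of_le_cen (le_cen_symm (zpowers_le.2 hx.2))) (zpowers_le.2 (mem_nrm_of_cj_le ?_)))
    rw [cj_zpowers, inv, zpowers_inv]
  refine ⟨Fin.cons (zpowers x) f, fun i => Fin.cases ⟨oz ▸ pr, zpowers_le.2 (lV hx.1), nx⟩ (fun i => ⟨(h1 i).1,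
    (h1 i).2.1.trans inf_le_left, sB.ge.trans (sup_le (h1 i).2.2 (le_nrm_of_le_cen (zpowers_le.2 (le_cen1_iff.1
      ((h1 i).2.1.trans inf_le_right)))))⟩) i, ?_, ?_⟩
  · rw [es, Fin.prod_univ_succ, card_sup_of_inf_eq_bot (le_nrm_of_le_cen (le_cen_of_comm cU (zpowers_le.2 (lV hx.1))
      (lf.trans inf_le_left))), h2]
    · rfl
    by_contra h
    exact xa (cen_zpowers a ▸ (lf (le_of_card_p oz h (mem_zpowers x))).2)
  rw [es]
  have l : B ≤ A ⊓ cen (zpowers x) := le_inf hB (le_cen_symm (zpowers_le.2 hx.2))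
  have : A ⊓ cen (zpowers x) ≤ B := by
    rw [← sB, modular (hB.trans (hA.le_nrm za)) (l.trans inf_le_right)]
    refine sup_le le_rfl (le_of_eq_of_le (by_contra fun h => ?_) bot_le)
    exact xa (le_cen_symm (le_of_card_p (by rw [card_zpowers_eq, o]) h) (mem_zpowers x))
  exact eq_bot_of_le (le_inf ((inf_le_inf_left _ (cen_anti le_sup_left)).trans this)
    (inf_le_right.trans (cen_anti le_sup_right))) h3

end

/-- Let S be a finite solvable group whose Fitting subgroup F(S) has odd order, and let I be an elementary abelian 2-subgroup of S of order 2ⁿ with n ≥ 1. Then F(S) contains subgroups A₁, …, Aₙ of prime order, each normalized by I, pairwise commuting and generating a subgroup A of order |A₁|⋯|Aₙ| (their internal direct product), such that no non-identity element of I centralizes A. -/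
theorem result {S : Type*} [Group S] [Finite S]
    [Group.IsSolvable S] (hF : Odd (Nat.card ↥(Cfsg.fittingSubgroup S)))
    (I : Subgroup S) (hI : Cfsg.IsElementaryAbelian 2 I) (n : ℕ) (hn : 1 ≤ n) (hIn : Nat.card ↥I = 2 ^ n) :
    ∃ f : Fin n → Subgroup S, (∀ i, (Nat.card ↥(f i)).Prime) ∧ (∀ i, f i ≤ Cfsg.fittingSubgroup S) ∧
      (∀ i, I ≤ Subgroup.normalizer ((f i) : Set S)) ∧ (∀ i j, i ≠ j → ∀ a ∈ f i, ∀ b ∈ f j, a * b = b * a) ∧
      Nat.card ↥(⨆ i, f i) = ∏ i, Nat.card ↥(f i) ∧ I ⊓ Subgroup.centralizer ((⨆ i, f i : Subgroup S) : Set S) = ⊥ := by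
  open Subgroup in
  rw [fitting_eq] at hF ⊢
  have oF := odd_iff_coprime.1 hF
  have nF : I ≤ normalizer (Fit (⊤ : Subgroup S) : Set S) := le_top.trans (le_nrm_Fit ⊤)
  obtain ⟨U, ⟨u1, u2, u3⟩, hm⟩ := Set.exists_max_image {U : Subgroup S | U ≤ Fit ⊤ ∧ IsMulCommutative U ∧ I ≤ normalizer (U : Set S)}
    (fun U => Nat.card U) (Set.toFinite _) ⟨⊥, bot_le, isComm_bot, le_nrm_bot _⟩
  have sc : Fit ⊤ ⊓ centralizer (U : Set S) ≤ U := by
    have m := nrm_inf nF (nrm_cen u3)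
    refine (cop_of_pgroup (EA.isPGroup hI) (coprime_of_le inf_le_left oF) m).le_of_hyper hI (ne_bot_of_pow_le (n := 0)
      (hIn ▸ Nat.pow_le_pow_right two_pos hn)) fun B hB i => by_contra fun k => ?_
    obtain ⟨x, hx, xU, h⟩ := S1349.eig hI hB i m u3 inf_le_right k
    exact xU ((eq_of_le_of_card_le le_sup_right (hm _ ⟨sup_le (zpowers_le.2 hx.1) u1, isComm_sup (isComm_zpowers x) u2
      (zpowers_le.2 hx.2), h⟩)).ge (mem_sup_left (mem_zpowers x)))
  have pA : IsPGroup 2 (I ⊓ centralizer (U : Set S) : Subgroup S) := (EA.isPGroup hI).to_le inf_le_left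
  have l : U ≤ Fit ⊤ ⊓ centralizer ((I ⊓ centralizer (U : Set S) : Subgroup S) : Set S) := le_inf u1 (le_cen_symm inf_le_right)
  have c := cen_of_self_cen (nilp_Fit ⊤) (inf_le_left.trans nF) (coprime_of_isPGroup pA oF).symm
    (((inf_le_inf_left _ (cen_anti l)).trans sc).trans l)
  have c2 := (le_inf le_top c).trans (cen_Fit_le (H := (⊤ : Subgroup S)) inferInstance)
  obtain ⟨f, h1, h2, h3⟩ := ab n U I u2 (coprime_of_le u1 oF) hI hIn u3
    (card_eq_one.1 (Nat.Coprime.eq_one_of_dvd (coprime_of_isPGroup pA oF).symm (card_dvd_of_le c2)))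
  exact ⟨f, fun i => (h1 i).1, fun i => (h1 i).2.1.trans u1, fun i => (h1 i).2.2,
    fun i j _ a ha b hb => isComm_iff'.1 u2 a ((h1 i).2.1 ha) b ((h1 j).2.1 hb), h2, h3⟩

end Cfsg.Agent.S4408
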