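import Cfsg.Statements.S4419
import Cfsg.Agent.H2.Ms1
import Cfsg.Agent.H1.U1
import Cfsg.Agent.H7.FTc
import Cfsg.Agent.H1.MC
import Cfsg.Agent.H1.BG4

set_option autoImplicit false
open Cfsg

namespace Cfsg.Agent.S4419

open Subgroup hiding upperCentralSeries
open H2 Cfsg.FusionSystem

open Subgroup H2 H7 H1B
open scoped commutatorElement

/-- Let p be a prime and G a finite group whose Sylow p-subgroups are metacyclic (a cyclic normal subgroup with cyclic quotient). Then G has a normal p-complement if and only if the order of G/O_{p′,p}(G) is coprime to p² − 1. -/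
theorem result {G : Type*} [Group G] [Finite G] (p : ℕ) [Fact p.Prime] (S : Sylow p G) (hS : Cfsg.IsMetacyclic ↥(S : Subgroup G)) : Cfsg.HasNormalPComplement p G ↔ Nat.Coprime (Nat.card (G ⧸ Cfsg.pPrimePCore p G)) (p ^ 2 - 1) := by
  rw [H7.npc_top_iff, H7.pPrimePCore_eq, ← index_eq_card]
  refine ⟨fun h => ?_, fun h => H1B.npc_frob fun Q _ hQ x _ hx c => zpowers_le.1 (le_of_sylows_le
    fun q hq d => ?_)⟩
  · rw [top_le_iff.1 (le_Omod le_rfl (le_nrm_self _) h.relIndex), index_top]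
    exact Nat.coprime_one_left _
  haveI := Fact.mk hq
  obtain ⟨T, hT⟩ := H2.exists_isSylowIn q (zpowers x)
  have n : T ≤ nrm Q := hT.le.trans (zpowers_le.2 hx)
  have qp : q ≠ p := fun e => coprime_iff_not_dvd.1 c (by rwa [← e, ← Nat.card_zpowers])
  refine ⟨T, hT, by_contra fun k => ?_⟩
  have l : ¬ T ≤ Op' p ⊤ := fun l => k (comm_eq_bot.1 (eq_bot_mono (le_inf (comm_le_right n)
    ((commutator_mono l le_top).trans (comm_le_left (le_nrm_Opi _ _))))
      (H7.inf_eq_bot_of_isPGroup hQ (coprime_Op' p ⊤))))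
  have d1 : q ∣ (Omod {p} (Op' p ⊤) (⊤ : Subgroup G)).index := by
    have a : q ∣ (Op' p ⊤).relIndex T := by
      by_contra a
      exact l (le_of_coprime_relIndex' (coprime_of_isPGroup hT.isPGroup (coprime_iff_not_dvd.2 a)).symm)
    have b := a.trans (relIndex_dvd_right (le_nrm_Opi _ _) le_top)
    rw [← relIndex_mul_relIndex _ _ _ (self_le_Omod {p} (Opi_le _ _) (le_nrm_Opi _ _)) le_top,
      relIndex_top_right] at b
    exact (hq.dvd_mul.1 b).resolve_left fun e => qp (piN_relIndex_Omod _ (le_nrm_Opi _ _) q hq e)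
  obtain ⟨g, -, e⟩ := (sylow_isSylowIn_top S).exists_cj_le hQ le_top
  obtain ⟨a, b, s, -⟩ := ((isMetacyclic_iff.1 hS).of_le e).gen
  replace s := congrArg (cj g⁻¹) s
  rw [H7.cj_inv_cj, H7.cj_sup, H7.cj_zpowers, H7.cj_zpowers] at s
  have nQ := le_nrm_Phi Q
  have V := ea_im_of_Phi_le hQ nQ (kr_qm _).ge
  have m1 := zpowers_le.1 (le_sup_left.trans s.le)
  have m2 := zpowers_le.1 (le_sup_right.trans s.le)
  refine hq.ne_one (Nat.eq_one_of_dvd_coprimes h d1 (dvd_of_act_EA V ?_ (isPGroup_im _ hT.isPGroup) qp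
    (im_le_nrm _ n) fun c => k (cen_of_comm_le_Phi n (coprime_pgroups hT.isPGroup hQ qp) ?_)))
  · have := congrArg (im (qm (Phi Q))) s
    rw [im_sup (le_sup_left.trans (s.le.trans nQ)) (le_sup_right.trans (s.le.trans nQ)),
      im_zpowers (nQ m1), im_zpowers (nQ m2)] at this
    have c := isComm_iff.1 V.1
    have d := H7.card_sup_dvd (le_nrm_of_le_cen ((le_sup_left.trans this.le).trans
      (c.trans (cen_anti (le_sup_right.trans this.le)))))
    rw [this, Nat.card_zpowers, Nat.card_zpowers] at d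
    exact Nat.le_of_dvd (pow_pos (Fact.out : p.Prime).pos _) (d.trans (pow_two p ▸ mul_dvd_mul
      (orderOf_dvd_of_pow_eq_one (V.2 _ (ev_mem_im m1))) (orderOf_dvd_of_pow_eq_one (V.2 _ (ev_mem_im m2)))))
  · rw [commutator_comm]
    exact (im_qm_le_cen (nrm_Phi n) nQ).1 c

end Cfsg.Agent.S4419
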