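import Cfsg.Statements.S4811
import Cfsg.Agent.H2.Cd7

set_option autoImplicit false
open Cfsg

namespace Cfsg.Agent.S4811

open Subgroup hiding upperCentralSeries
open H2 Cfsg.FusionSystem

open H3 H7

/-- For every finite solvable group G the character degree graph of G (vertices: the primes dividing some irreducible complex character degree; edges: distinct primes whose product divides some degree) has at most two connected components. -/
theorem result {G : Type*} [Group G] [Finite G] [Group.IsSolvable G] : Nat.card ((Cfsg.degreeGraph G).induce (Cfsg.degreePrimes G)).ConnectedComponent ≤ 2 := by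
  by_cases n : commutator G = ⊥
  · haveI : IsEmpty (Cfsg.degreePrimes G) := ⟨fun ⟨p, hp, _, ⟨χ, e⟩, d⟩ => hp.ne_one (Nat.dvd_one.1 (by
      rwa [← e, χ.2.isCharacter.dg_eq_one.2 (χ.2.deg_eq_one_of_comm (H2.der_eq_bot_iff.1 n))] at d))⟩
    haveI : IsEmpty ((Cfsg.degreeGraph G).induce (Cfsg.degreePrimes G)).ConnectedComponent :=
      ⟨fun c => c.ind fun v => isEmptyElim v⟩
    simp
  obtain ⟨r, f, hr, f1, f2, h⟩ := H2.solv_cases n
  obtain ⟨s, hs, sf⟩ := Nat.exists_prime_and_dvd f2
  set Γ := (Cfsg.degreeGraph G).induce (Cfsg.degreePrimes G)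
  have k : ∀ (u v : Cfsg.degreePrimes G), ∀ d ∈ H2.cds G, u.1 ∣ d → v.1 ∣ d →
      Γ.connectedComponentMk u = Γ.connectedComponentMk v := fun u v d hd a b => by
    by_cases e : u = v
    · rw [e]
    have e' : u.1 ≠ v.1 := fun f => e (Subtype.ext f)
    exact SimpleGraph.ConnectedComponent.connectedComponentMk_eq_of_adj
      ⟨e', u.2.1, v.2.1, d, hd, ((Nat.coprime_primes u.2.1 v.2.1).2 e').mul_dvd_of_dvd_of_dvd a b⟩
  classical
  let g : Bool → Γ.ConnectedComponent := fun b =>
    Γ.connectedComponentMk (if h : b ∧ r ∈ Cfsg.degreePrimes G then ⟨r, h.2⟩ else ⟨s, hs, f, f1, sf⟩)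
  refine (Nat.card_le_card_of_surjective g fun c => c.ind fun v => ?_).trans (by simp)
  obtain ⟨d, hd, vd⟩ := v.2.2
  obtain ⟨e, t, rfl, e1, e2⟩ := h d hd
  rcases (v.2.1.dvd_mul).1 vd with a | a
  · exact ⟨false, k _ _ f f1 (by simpa using sf) (a.trans e1)⟩
  rcases e2 with e2 | e2
  · exact ⟨false, k _ _ _ e2 (by simpa using sf.mul_right t) (a.mul_left f)⟩
  · have m : r ∈ Cfsg.degreePrimes G := ⟨hr, _, hd, e2.mul_left e⟩
    exact ⟨true, k _ _ _ hd (by simpa [m] using e2.mul_left e) vd⟩

end Cfsg.Agent.S4811
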