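import Cfsg.Statements.S5185
import Cfsg.Agent.H2.RL8

set_option autoImplicit false
universe u
open Cfsg

namespace Cfsg.Agent.S5185

open Subgroup hiding upperCentralSeries
open H2 Cfsg.FusionSystem


/-- Let F be a saturated fusion system over a finite p-group S and H an essential subgroup of order p². Then H is elementary abelian (isomorphic to C_p × C_p) and its F-automorphism group contains a subgroup isomorphic to SL(2,p). -/
theorem result {Ω : Type u} [Group Ω] {S : Subgroup Ω} [Finite S] (p : ℕ) [Fact p.Prime] (hS : IsPGroup p S)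
    (F : Cfsg.FusionSystem S) (hF : F.IsSaturated p) (H : Subgroup Ω) (hH : F.IsEssential p H) (hcard : Nat.card H = p ^ 2) :
    Cfsg.IsElementaryAbelian p H ∧
      ∃ K : Subgroup ↥(F.autGroup H), Nonempty (↥K ≃* Matrix.SpecialLinearGroup (Fin 2) (ZMod p)) := by
  obtain ⟨G, _, _, S', F', θ, θ', j, r⟩ := exists_real F
  obtain ⟨e⟩ := j.equiv hH.1.1
  obtain ⟨ea, K, l, ⟨k⟩⟩ := r.ess_p2 (j.isPGroup hS) (j.saturated hS hF) (j.essential hS hF hH)
    ((j.card hH.1.1).trans hcard)
  obtain ⟨ρ, -, r2, -⟩ := j.exists_trAut hH.1.1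
  have l' : K.map ρ.symm.toMonoidHom ≤ F.autGroup H := by
    rintro _ ⟨x, hx, rfl⟩
    obtain ⟨y, hy, rfl⟩ := r2.ge (l hx)
    simpa using hy
  exact ⟨ea_congr e ea, _, ⟨(subgroupOfEquivOfLe l').trans ((ρ.symm.subgroupMap K).symm.trans k)⟩⟩

end Cfsg.Agent.S5185
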