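import Cfsg.Statements.S5186
import Cfsg.Agent.H2.RL8

set_option autoImplicit false
universe u
open Cfsg

namespace Cfsg.Agent.S5186

open Subgroup hiding upperCentralSeries
open H2 Cfsg.FusionSystem


/-- Let F be a saturated fusion system over a finite p-group S and H an essential subgroup of order p³. Then H is elementary abelian, or p is odd and H is extraspecial of exponent p, or p = 2 and H is the quaternion group of order 8. -/
theorem result {Ω : Type u} [Group Ω] {S : Subgroup Ω} [Finite S] (p : ℕ) [Fact p.Prime] (hS : IsPGroup p S)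
    (F : Cfsg.FusionSystem S) (hF : F.IsSaturated p) (H : Subgroup Ω) (hH : F.IsEssential p H) (hcard : Nat.card H = p ^ 3) :
    Cfsg.IsElementaryAbelian p H ∨ (Odd p ∧ Cfsg.IsExtraspecial p ↥H ∧ ∀ x ∈ H, x ^ p = 1) ∨
      (p = 2 ∧ Nonempty (↥H ≃* QuaternionGroup 2)) := by
  obtain ⟨G, _, _, S', F', θ, θ', j, r⟩ := exists_real F
  obtain ⟨e⟩ := j.equiv hH.1.1
  rcases r.ess_p3 (j.isPGroup hS) (j.saturated hS hF) (j.essential hS hF hH)
    ((j.card hH.1.1).trans hcard) with h | ⟨a, b, c⟩ | ⟨a, ⟨k⟩⟩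
  exacts [.inl (ea_congr e h), .inr (.inl ⟨(Fact.out : p.Prime).odd_of_ne_two a, es_congr e.symm b, pow_congr e c⟩),
    .inr (.inr ⟨a, ⟨e.trans k⟩⟩)]

end Cfsg.Agent.S5186
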