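import Cfsg.Statements.S5187
import Cfsg.Agent.H2.RL8

set_option autoImplicit false
universe u
open Cfsg

namespace Cfsg.Agent.S5187

open Subgroup hiding upperCentralSeries
open H2 Cfsg.FusionSystem


/-- Let F be a saturated fusion system over a finite p-group S and H an abelian essential subgroup that can be generated by two elements (its Frattini quotient has order at most p²). Then H is elementary abelian of order p², or p ≤ 3 and H is homocyclic of rank two, that is isomorphic to C_{pᵏ} × C_{pᵏ} for some k. -/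
theorem result {Ω : Type u} [Group Ω] {S : Subgroup Ω} [Finite S] (p : ℕ) [Fact p.Prime] (hS : IsPGroup p S)
    (F : Cfsg.FusionSystem S) (hF : F.IsSaturated p) (H : Subgroup Ω) (hH : F.IsEssential p H) (hab : IsMulCommutative ↥H) (hrk : (frattini ↥H).index ≤ p ^ 2) :
    (Cfsg.IsElementaryAbelian p H ∧ Nat.card H = p ^ 2) ∨
      (p ≤ 3 ∧ ∃ k : ℕ, Nonempty (↥H ≃* Multiplicative (ZMod (p ^ k) × ZMod (p ^ k)))) := by
  obtain ⟨G, _, _, S', F', θ, θ', j, r⟩ := exists_real F
  obtain ⟨e⟩ := j.equiv hH.1.1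
  haveI := finite_of_le hH.1.1
  have c := (j.comm hH.1.1).2 hab
  have pS := j.isPGroup hS
  obtain ⟨k, o, h, ⟨i⟩⟩ := r.ab_rk2 pS (j.saturated hS hF) (j.essential hS hF hH) c
    (card_Om_le_of_Phi (pS.to_le (j.img_le hH.1.1)) c (le_trans (by
      rw [← index_map_equiv (frattini H) e]
      exact Nat.le_of_dvd (Nat.pos_of_ne_zero FiniteIndex.index_ne_zero)
        (index_dvd_of_le (H1.map_frattini_le e.surjective))) hrk))
  rcases h with ⟨rfl, h⟩ | ⟨-, h⟩
  exacts [.inl ⟨ea_congr e h, (j.card hH.1.1).symm.trans o⟩, .inr ⟨h, _, ⟨e.trans i⟩⟩]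

end Cfsg.Agent.S5187
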