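import Cfsg.Statements.S5188
import Cfsg.Agent.H2.RL8

set_option autoImplicit false
universe u
open Cfsg

namespace Cfsg.Agent.S5188

open Subgroup hiding upperCentralSeries
open H2 Cfsg.FusionSystem

open H7 H1B

/-- Let F be a saturated fusion system over a finite p-group S and H an essential subgroup of order p⁴. Then H is isomorphic to one of: C_p⁴ or C_{p²} × C_p × C_p (any p); C_{p²} × C_{p²} with p ∈ {2, 3}; p^{1+2}_+ × C_p with p odd (the direct product of an extraspecial group of order p³ and exponent p with a group of order p); Q₈ × C₂ (p = 2); or the non-abelian group of order p⁴ of exponent p² whose centre is cyclic of order p² (the central product of an extraspecial group of order p³ with a cyclic group of order p²; for p = 2 this is D₈ ∘ C₄). -/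
theorem result {Ω : Type u} [Group Ω] {S : Subgroup Ω} [Finite S] (p : ℕ) [Fact p.Prime] (hS : IsPGroup p S)
    (F : Cfsg.FusionSystem S) (hF : F.IsSaturated p) (H : Subgroup Ω) (hH : F.IsEssential p H) (hcard : Nat.card H = p ^ 4) :
    Cfsg.IsElementaryAbelian p H ∨
      Nonempty (↥H ≃* Multiplicative (ZMod (p ^ 2) × ZMod p × ZMod p)) ∨
      ((p = 2 ∨ p = 3) ∧ Nonempty (↥H ≃* Multiplicative (ZMod (p ^ 2) × ZMod (p ^ 2)))) ∨
      (Odd p ∧ ∃ (E : Type) (_ : Group E) (_ : Finite E), Cfsg.IsExtraspecial p E ∧ Nat.card E = p ^ 3 ∧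
        (∀ x : E, x ^ p = 1) ∧ Nonempty (↥H ≃* E × Multiplicative (ZMod p))) ∨
      (p = 2 ∧ Nonempty (↥H ≃* QuaternionGroup 2 × Multiplicative (ZMod 2))) ∨
      (¬ IsMulCommutative ↥H ∧ (∀ x ∈ H, x ^ (p ^ 2) = 1) ∧ IsCyclic ↥(Subgroup.center ↥H) ∧
        Nat.card (Subgroup.center ↥H) = p ^ 2) := by
  obtain ⟨G, _, _, S', F', θ, θ', j, r⟩ := exists_real F
  obtain ⟨e⟩ := j.equiv hH.1.1
  have hp : p.Prime := Fact.out
  have pS := j.isPGroup hS
  have sF := j.saturated hS hF
  have hR := j.essential hS hF hH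
  have o := (j.card hH.1.1).trans hcard
  have pR := pS.to_le hR.1.1
  by_cases c : IsMulCommutative (img θ H)
  · by_cases ea : EA p (img θ H)
    · exact .inl (ea_congr e ea)
    rcases (H1B.card_le_of_lt pR ((Om_le p _).lt_of_ne fun e => ea (e ▸ ea_Om c)) o.le).lt_or_eq with l | l
    · obtain ⟨k, o', h, ⟨i⟩⟩ := r.ab_rk2 pS sF hR c (le_of_not_gt fun k => l.not_ge (pow_le_of_lt (pR.to_le (Om_le p _)) k))
      rw [o, Nat.pow_right_inj hp.one_lt] at o'
      obtain rfl : k = 1 := by omega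
      have := (h.resolve_left fun a => one_ne_zero a.1).2
      have := hp.two_le
      exact .inr (.inr (.inl ⟨by omega, ⟨e.trans i⟩⟩))
    · obtain ⟨i⟩ := ab_p4 c o l
      exact .inr (.inl ⟨e.trans i⟩)
  rcases r.ess_p4 pS sF hR o c with ⟨a, b, d⟩ | ⟨E, A, z, xs, nc, oE, oA, EA', i, s, h⟩
  · have k : center H ≃* (img θ H ⊓ cen (img θ H) : Subgroup G) := (centerCongr e).trans
      ((MulEquiv.subgroupCongr (H7.center_eq_subgroupOf _)).trans ((MulEquiv.subgroupCongr
        (inf_subgroupOf_left _ _).symm).trans (subgroupOfEquivOfLe inf_le_left)))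
    exact .inr (.inr (.inr (.inr (.inr ⟨mt (j.comm hH.1.1).2 c, pow_congr e a, k.isCyclic.2 b,
      (Nat.card_congr k.toEquiv).trans d⟩))))
  obtain ⟨k⟩ := exists_prod EA' i
  have k' := e.trans ((MulEquiv.subgroupCongr s.symm).trans k)
  have kA : A ≃* Multiplicative (ZMod p) := by
    haveI := isCyclic_of_prime_card oA
    exact mulEquivOfCyclicCardEq (by simp [oA])
  rcases h with ⟨p2, ex⟩ | ⟨rfl, ⟨l⟩⟩
  · let φ : G →* Shrink.{0} G := (Shrink.mulEquiv.{0} (α := G)).symm.toMonoidHom
    have hφ : Function.Injective φ := (Shrink.mulEquiv.{0} (α := G)).symm.injective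
    haveI : Finite (Shrink.{0} G) := Finite.of_equiv G (equivShrink.{0} G)
    have i := E.equivMapOfInjective φ hφ
    exact .inr (.inr (.inr (.inl ⟨hp.odd_of_ne_two p2, E.map φ, inferInstance, inferInstance, es_congr i (xs.es nc),
      (Nat.card_congr i.toEquiv).symm.trans oE, fun x => Subtype.ext (pow_congr i.symm ex x x.2),
      ⟨k'.trans (i.prodCongr kA)⟩⟩)))
  · exact .inr (.inr (.inr (.inr (.inl ⟨rfl, ⟨k'.trans (l.prodCongr kA)⟩⟩))))

end Cfsg.Agent.S5188
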