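import Cfsg.Statements.S5192
import Cfsg.Agent.H2.TrF

set_option autoImplicit false
open Cfsg

namespace Cfsg.Agent.S5192

open Subgroup H2 Cfsg.FusionSystem


/-- A Thompson-type transfer for saturated fusion systems. Let F be a saturated fusion system on a finite 2-group S, T a subgroup of S of index 2, and i an involution of S such that every fully normalized F-conjugate of i lies in S but outside T. Then i does not lie in the hyperfocal subgroup of F (the Sylow group of the 2-residual subsystem). -/
theorem result {Ω : Type*} [Group Ω] [Finite Ω] {S : Subgroup Ω}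
    (hS : IsPGroup 2 ↥S) (F : Cfsg.FusionSystem S) (hF : F.IsSaturated 2)
    (T : Subgroup Ω) (hTS : T ≤ S) (hT : T.relIndex S = 2)
    (i : Ω) (hi : i ∈ S) (hi2 : orderOf i = 2)
    (h : ∀ j : Ω, F.IsConjElt i j → F.IsFullyNormalized (Subgroup.zpowers j) → j ∉ T) :
    i ∉ F.hyperfocalSubgroup 2 := by
  obtain ⟨Q, h1, h2⟩ := exists_fullyNormalized F (zpowers_le.2 hi)
  obtain ⟨f, hf, rfl⟩ := isConj_iff.1 h1
  rw [hf.homOn.img_zpowers] at h2
  refine fun hh => thompson_fs_transfer hS hF hT ((hf.orderOf (mem_zpowers i)).trans hi2) h2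
    (fun P g hg hP => h _ ?_) (hyp_le_focal F 2 (sc_mem (hyp_sc hS hF) hf (mem_zpowers i) hh))
  exact (hg.comp hf fun x hx => (hf.homOn.img_zpowers.le.trans (zpowers_le.2 hP))
    (mem_img_of_mem f hx)).isConjElt (mem_zpowers i)

end Cfsg.Agent.S5192
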