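import Cfsg.Statements.S5265
import Cfsg.Agent.H2.RL6

set_option autoImplicit false
open Cfsg

namespace Cfsg.Agent.S5265

open Subgroup H2 Cfsg.FusionSystem


/-- Let p be a prime, S a nontrivial finite p-group whose centre has index at most p², and F a saturated fusion system over S with no nontrivial normal subgroup and with hyperfocal subgroup equal to S. Then S is extraspecial of order p³; for odd p it has exponent p, and for p = 2 it is dihedral of order 8. -/
theorem result {Ω : Type*} [Group Ω] {S : Subgroup Ω} [Finite S] (p : ℕ) [Fact p.Prime] (hS : IsPGroup p ↥S) (F : Cfsg.FusionSystem S) (hF : F.IsSaturated p) (hS1 : S ≠ ⊥) (hcore : F.core = ⊥) (hhyp : F.hyperfocalSubgroup p = S) (hZ : (Subgroup.center ↥S).index ≤ p ^ 2) : Cfsg.IsExtraspecial p ↥S ∧ Nat.card S = p ^ 3 ∧ (p ≠ 2 → Monoid.exponent ↥S = p) ∧ (p = 2 → Nonempty (↥S ≃* DihedralGroup 4)) := by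
  obtain ⟨G, _, _, S', F', θ, θ', j, r⟩ := exists_real F
  obtain ⟨e⟩ := j.equiv le_rfl
  rw [j.onto] at e
  obtain ⟨z, xs, o, x, hx, y, hy, xy, xp, yp, g⟩ := r.idx_sq (j.isPGroup hS) (j.saturated hS hF)
    (fun h => hS1 ((j.img_eq_bot le_rfl).1 (j.onto.trans h))) (by rw [← j.core, hcore, j.img_bot])
    (by rw [← j.hyp, hhyp, j.onto]) (by
      rw [← j.ctr, ← j.onto, j.relIndex inf_le_left le_rfl, inf_relIndex_left]
      rwa [H7.center_eq_subgroupOf] at hZ)
  obtain ⟨nc, t2, t⟩ := xs_type xs o hx hy xy xp yp g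
  refine ⟨es_congr e.symm (xs.es nc), (Nat.card_congr e.toEquiv).trans o, fun h => ?_, fun h => ?_⟩
  · rw [Monoid.exponent_eq_of_mulEquiv e]
    exact H1B.exponent_eq_prime (fun h => nc (h ▸ bot_le)) (t h)
  · obtain ⟨k⟩ := t2 h
    exact ⟨e.trans k⟩

end Cfsg.Agent.S5265
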