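import Cfsg.Statements.S5270
import Cfsg.Agent.H2.MaxC3

set_option autoImplicit false
open Cfsg

namespace Cfsg.Agent.S5270

open Subgroup hiding upperCentralSeries
open H2 Cfsg.FusionSystem

open H7 H1B
open scoped commutatorElement Pointwise

theorem ess_of_move {Ω : Type*} [Group Ω] {S U : Subgroup Ω} [Finite S] {p : ℕ} [Fact p.Prime]
    {F : FusionSystem S} {f : Ω → Ω} {z : Ω} (hS : IsPGroup p S) (hF : F.IsSaturated p)
    (n : S ≤ nrm U) (c : U ≤ cen U) (mx : ∀ Q, S ⊓ cen U < Q → Q ≤ S → Q = S) (hf : Mor F U f)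
    (e : img f U = U) (hz : z ∈ U) (z1 : z ∈ cen S) (z2 : f z ∉ cen S) :
    F.IsEssential p (S ⊓ cen U) := by
  have l : U ≤ S ⊓ cen U := le_inf hf.le c
  obtain ⟨g, hg, k⟩ := receptive_ext (sat_receptive hS hF (fullyNormalized_of_normal hf.le n)) hf e
    (R := S ⊓ cen U) centralizerIn_le_extd
  rw [sup_eq_right.2 l] at hg
  haveI : Finite (S ⊓ cen U : Subgroup Ω) := finite_of_le inf_le_left
  obtain ⟨α, hα, k'⟩ := hg.exists_aut fun x hx => by
    have := hg.maps_centralizerIn l hx hx.2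
    rwa [img_congr k, e] at this
  have lZ : S ⊓ cen S ≤ S ⊓ cen U := inf_le_inf_left _ (cen_anti hf.le)
  refine essential_of_not_le hS hF (fullyNormalized_of_normal inf_le_left
    (nrm_inf (le_nrm_self S) (nrm_cen n))) (inf_lt_left.2 fun h => z2 (le_cen_symm h ?_)) fun h => ?_
  · exact e ▸ mem_img_of_mem f hz
  have : extAut F (S ⊓ cen U) ≤ MulAction.stabilizer _ ((S ⊓ cen S).subgroupOf (S ⊓ cen U)) := by
    refine (Subgroup.closure_le _).2 ?_
    rintro β ⟨Q, t, h1, h2, h3⟩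
    obtain rfl := mx Q h1 h2.le
    haveI : Finite (Q ⊓ cen Q : Subgroup Ω) := finite_of_le inf_le_left
    refine (map_subgroupOf_eq_iff β lZ).2 ?_
    rw [img_congr fun x hx => h3 x (lZ hx)]
    refine (h2.mono inf_le_left).img_eq_self fun x hx => ?_
    have := h2.maps_centralizerIn le_rfl hx.1 hx.2
    rwa [h2.img_eq_self fun x hx => h2.mem hx] at this
  have := (map_subgroupOf_eq_iff α lZ).1 (this (h hα))
  have h1 := this.le (mem_img_of_mem _ (⟨hf.le hz, z1⟩ : z ∈ S ⊓ cen S))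
  rw [k' z (l hz), k z hz] at h1
  exact z2 h1.2

theorem card_Z2 {G : Type*} [Group G] [Finite G] {S U : Subgroup G} {p n : ℕ} [hp : Fact p.Prime]
    (h : MxC p S n) (e : 2 ≤ n) (l : U ≤ S) (k : ⁅U, S⁆ ≤ cen S) : ord U ≤ p ^ 2 := by
  obtain ⟨s, u⟩ := h.exists_un
  have m : ∀ {x y}, x ∈ U → y ∈ S → ⁅x, y⁆ ∈ S.lowerCentralSeries n := fun hx hy =>
    h.ctr_le u (by omega) ⟨comm_le_of_le l le_rfl (commutator_mem_commutator hx hy),
      k (commutator_mem_commutator hx hy)⟩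
  have h1 := H1B.relIndex_cen1_le (R := U) fun r hr => m hr u.mem
  have h2 := h.card_cen u l fun hs => h.not_KK u (j := n - 2) (by omega) ((mem_KK u.mem).2 fun r hr => by
    have := H1B.relIndex_cen1_le (R := S) (a := s) fun r hr => by
      rw [← commutatorElement_inv]; exact inv_mem (m hs hr)
    have h3 := card_le_relIndex_mul (cen1 s) S
    rw [h.card_Ln (by omega)] at this
    have h4 := Nat.mul_le_mul this u.card
    rw [inf_comm, ← h3, h.card, ← pow_succ', pow_le_pow_iff_right₀ hp.out.one_lt] at h4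
    omega)
  rw [card_le_relIndex_mul (cen1 s) U, sq, inf_comm]
  exact Nat.mul_le_mul (h.card_Ln (by omega) ▸ h1) h2

/-- Let p ≥ 5 be a prime, S a finite p-group of maximal class of order p^n with n ≥ 4, and F a saturated fusion system over S. If some map of F defined on the second centre Z₂(S) with image Z₂(S) does not carry Z(S) into itself, then the centralizer C_S(Z₂(S)) is an F-essential subgroup. -/
theorem result {Ω : Type*} [Group Ω] {S : Subgroup Ω} [Finite S] (p : ℕ) [Fact p.Prime] (hS : IsPGroup p ↥S) (n : ℕ) (hn : Nat.card S = p ^ n) (h4 : 4 ≤ n) (hmax : Subgroup.lowerCentralSeries S (n - 2) ≠ ⊥) (F : Cfsg.FusionSystem S) (hF : F.IsSaturated p) (hp : 5 ≤ p) (φ : ↥((Subgroup.upperCentralSeries ↥S 2).map S.subtype) →* Ω) (hφ : φ ∈ F.Hom ((Subgroup.upperCentralSeries ↥S 2).map S.subtype)) (hφZ : φ.range = ((Subgroup.upperCentralSeries ↥S 2).map S.subtype)) (hmove : ∃ (z : Ω) (hz : z ∈ ((Subgroup.upperCentralSeries ↥S 2).map S.subtype)),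 z ∈ ((Subgroup.center ↥S).map S.subtype) ∧ φ ⟨z, hz⟩ ∉ ((Subgroup.center ↥S).map S.subtype)) : F.IsEssential p (S ⊓ Subgroup.centralizer (((Subgroup.upperCentralSeries ↥S 2).map S.subtype) : Set Ω)) := by
  obtain ⟨z, hz, z1, z2⟩ := hmove
  rw [center_map_subtype] at z1 z2
  obtain ⟨n, rfl⟩ : ∃ m, n = m + 2 := ⟨n - 2, by omega⟩
  have h : MxC p (⊤ : Subgroup S) n := ⟨hS.to_subgroup _, card_top.trans hn, fun e => hmax (by
    rw [← top_subtype_lowerCentralSeries, Nat.add_sub_cancel, e, Subgroup.map_bot])⟩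
  let U := Subgroup.upperCentralSeries S 2
  have o : ord U ≤ p ^ 2 := card_Z2 h (by omega) le_top (commutator_le.2 fun x hx y _ => by
    rw [cen_top, ← Subgroup.upperCentralSeries_one]
    exact Subgroup.mem_upperCentralSeries_succ_iff.1 hx y)
  have pU : IsPGroup p U := hS.to_subgroup _
  have hf := mor_fn hφ
  refine ess_of_move hS hF (le_nrm_map_subtype U)
    (map_le_cen_map _ (isComm_iff.1 (isComm_of_card_le_sq pU o))) (fun Q h1 h2 => ?_) hf
    ((img_fn φ).trans hφZ) hz z1.2 fun k => z2 ⟨by rw [← fn_mem φ hz]; exact hf.mem hz,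
      by rwa [← fn_mem φ hz]⟩
  have i := H7.relIndex_cen_le h.pg pU (le_nrm_of_normal _ _) o
  have m : ∀ x : S, x ∈ cen U ↔ (x : Ω) ∈ S ⊓ cen (U.map S.subtype) := fun x => by
    rw [← zpowers_le, ← map_le_cen_map_iff S.subtype_injective, MonoidHom.map_zpowers, zpowers_le]
    exact ⟨fun h => ⟨x.2, h⟩, fun h => h.2⟩
  obtain ⟨x, hx, hx'⟩ := SetLike.exists_of_lt h1
  refine le_antisymm h2 fun y hy => le_of_idx (X := Q.subgroupOf S) h.pg le_top ?_
    (mem_top ⟨x, h2 hx⟩) ((m _).not.2 hx') (fun w hw => h1.le ((m w).1 hw)) hx (mem_top ⟨y, hy⟩)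
  rw [← relIndex_mul_card' (le_top : cen U ≤ ⊤)]
  exact Nat.mul_le_mul_right _ i

end Cfsg.Agent.S5270
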