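import Cfsg.Statements.S5289
import Cfsg.Agent.H2.Blk4

set_option autoImplicit false
open Cfsg

namespace Cfsg.Agent.S5289

open Subgroup hiding upperCentralSeries
open H2 Cfsg.FusionSystem

open Subgroup H2 H7 H1B Cfsg.FusionSystem

/-- Let p ≥ 5 be a prime and S a finite p-group of p-rank two (it has an elementary abelian subgroup of order p² and none of order p³) which is not the extraspecial group of order p³ and exponent p. Then S is resistant: for every saturated fusion system F over S, S is normal in F, that is, every map of F extends to an F-automorphism of S. -/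
theorem result {Ω : Type*} [Group Ω] {S : Subgroup Ω} [Finite S] (p : ℕ) [Fact p.Prime] (hS : IsPGroup p S)
    (F : Cfsg.FusionSystem S) (hF : F.IsSaturated p)
    (hp : 5 ≤ p)
    (hrank2 : ∃ E : Subgroup Ω, E ≤ S ∧ Cfsg.IsElementaryAbelian p E ∧ Nat.card E = p ^ 2)
    (hrank3 : ∀ E : Subgroup Ω, E ≤ S → Cfsg.IsElementaryAbelian p E → Nat.card E ≤ p ^ 2)
    (hnotE : ¬ (Nat.card S = p ^ 3 ∧ Monoid.exponent ↥S = p)) : F.IsNormal S := by
  obtain ⟨G, _, _, S', F', θ, θ', j, r⟩ := exists_real F
  have t := j.onto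
  obtain ⟨e⟩ := j.equiv le_rfl
  refine (j.normal_iff le_rfl).1 (t.symm ▸ r.normal_rk2 (j.isPGroup hS) (j.saturated hS hF) (by omega)
    (fun A hA eA => ?_) fun k => hnotE ⟨?_, ?_⟩)
  · obtain ⟨e'⟩ := j.symm.equiv hA
    rw [← j.symm.card hA]
    exact hrank3 _ (j.symm.img_le hA) (ea_congr e'.symm eA)
  · rw [← j.card le_rfl, t]; exact k.1
  · have h := pow_congr e (t.symm ▸ k.2)
    obtain ⟨E, h1, h2, h3⟩ := hrank2
    refine ((Nat.dvd_prime Fact.out).1 (Monoid.exponent_dvd_of_forall_pow_eq_one fun x =>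
      Subtype.ext (h x x.2))).resolve_left fun o => ?_
    haveI := Monoid.exp_eq_one_iff.1 o
    have := Nat.card_le_card_of_injective _ (Subgroup.inclusion_injective h1)
    rw [h3, Nat.card_of_subsingleton (1 : S)] at this
    nlinarith

end Cfsg.Agent.S5289
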