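import Cfsg.Statements.S5308
import Cfsg.Agent.H2.CE4

set_option autoImplicit false
open Cfsg

namespace Cfsg.Agent.S5308

open Subgroup H2 Cfsg.FusionSystem


/-- A saturated fusion system F over a finite p-group S has a generalized Fitting subsystem — a central product of the inner fusion system of O_p(F) (the largest subgroup of S normal in F) with a layer of F — and every generalized Fitting subsystem of F is a normal subsystem of F. -/
theorem result {Ω : Type*} [Group Ω] {S : Subgroup Ω} [Finite S] (p : ℕ) [Fact p.Prime] (hS : IsPGroup p S) (F : Cfsg.FusionSystem S) (hF : F.IsSaturated p) :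
    (∃ (U : Subgroup Ω) (D : Cfsg.FusionSystem U), D.IsGeneralizedFittingOf F p) ∧
      ∀ (U : Subgroup Ω) (D : Cfsg.FusionSystem U), D.IsGeneralizedFittingOf F p → D.IsNormalIn F p := by
  exact ⟨exists_fstar hS hF, fun U D h => normalIn_iff.2 (fstar_nrm hS h)⟩

end Cfsg.Agent.S5308
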