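import Cfsg.Statements.S5343
import Cfsg.Agent.H2.Mod3

set_option autoImplicit false
universe u
open Cfsg

namespace Cfsg.Agent.S5343

open Subgroup H2 Cfsg.FusionSystem

theorem aux {Ω : Type u} [Group Ω] {S : Subgroup Ω} [Finite S] {p : ℕ} [Fact p.Prime] (hS : IsPGroup p S) {F : Cfsg.FusionSystem S} (hsimple : F.IsSimple p) (n : ℕ) :
    ∀ (G : Type u) [Group G] [Finite G] (ι : Ω → G), RzS F p ⊤ ι → Nat.card G = n → ∃ (G : Type u) (_ : Group G) (_ : Finite G) (_ : IsSimpleGroup G) (ι : Ω → G), RzS F p ⊤ ι := by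
  induction n using Nat.strong_induction_on with
  | _ n ih =>
  intro G _ _ ι h hn
  by_cases hG : IsSimpleGroup G
  · exact ⟨G, _, inferInstance, hG, ι, h⟩
  obtain ⟨D, π, h0, h1⟩ := h.toRz.fsi'
  obtain ⟨-, h3, h4⟩ := simple_iff.1 (h1.simple hS hsimple)
  haveI : Nontrivial G := by
    obtain ⟨x, -, hx⟩ := H7.exists_ne_one h3
    exact nontrivial_of_ne x 1 hx
  obtain ⟨N, hN, h5, h6⟩ : ∃ N : Subgroup G, N.Normal ∧ N ≠ ⊥ ∧ N ≠ ⊤ := by
    by_contra hc
    push Not at hc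
    exact hG ⟨fun N hN => or_iff_not_imp_left.2 (hc N hN)⟩
  have h7 := isGF_sub (inf_le_right : img ι S ⊓ N ≤ N)
  rcases h4 _ _ (h0.nrm h7 h.syl le_top (H7.le_nrm_of_normal _ _) rfl) with e | e
  · obtain ⟨ι', h8, -⟩ := h.smor (fsi_refl F).smor (homOn_hom (QuotientGroup.mk' N) ⊤) fun x hx =>
      ⟨fun e' => h.inj x hx (mem_bot.1 (e.le ⟨mem_img_of_mem _ hx, (QuotientGroup.eq_one_iff _).1 e'⟩)),
        fun e => by rw [e, h.hom.one, map_one]⟩
    rw [img_hom, map_top_of_surjective _ (QuotientGroup.mk'_surjective _)] at h8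
    refine ih _ ?_ _ _ h8 rfl
    rw [← hn, card_eq_card_quotient_mul_card_subgroup N]
    exact lt_mul_of_one_lt_right Nat.card_pos ((one_lt_card_iff_ne_bot N).2 h5)
  · have h8 := (h7.rzS (sylow_inf_normal h.syl.toSylowTop N)).of_sub e (h0.sub h7 inf_le_left le_top)
    refine ih _ ?_ _ _ (h1.rzS h8).top rfl
    rw [← hn, ← card_top (G := G)]
    exact card_lt_of_lt (lt_top_iff_ne_top.2 h6)

/-- Let F be a simple saturated fusion system over a finite p-group S that is realized by some finite group on a Sylow p-subgroup. Then F is realized by a finite simple group on a Sylow p-subgroup. -/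
theorem result {Ω : Type u} [Group Ω] {S : Subgroup Ω} [Finite S] (p : ℕ) [Fact p.Prime] (hS : IsPGroup p S) (F : Cfsg.FusionSystem S) (hsimple : F.IsSimple p) (hreal : F.IsRealizable p) : ∃ (G : Type u) (_ : Group G) (_ : Finite G) (_ : IsSimpleGroup G) (ι : ↥S →* G), F.IsRealizedBy ι ∧ ∃ T : Sylow p G, (T : Subgroup G) = ι.range := by
  obtain ⟨G, _, _, ι, h⟩ := hreal
  obtain ⟨G', _, _, _, ι', h'⟩ := aux hS hsimple _ G _ (rzS_iff.1 h) rfl
  exact ⟨G', _, inferInstance, inferInstance, _, h'.realized⟩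

end Cfsg.Agent.S5343
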