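import Cfsg.Statements.S5522
import Mathlib
import Cfsg.Agent.H8.MG

set_option autoImplicit false
open Cfsg

namespace Cfsg.Agent.S5522
open scoped Pointwise

/-- The Mathieu group M₁₁, realised as the stabiliser of one point of the dodecad of squares inside the stabiliser M₁₂ of that dodecad in M₂₄, acts on the twelve coordinate positions outside the dodecad of squares (its 3-transitive action of degree 12); in this action every element of prime order fixes a point, i.e. the action is elusive. -/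
theorem result (g : Equiv.Perm Cfsg.GolayPt) (hg : g ∈ Cfsg.Spor.M11) (hord : (orderOf g).Prime) :
    ∃ x : Cfsg.GolayPt, x ∉ Cfsg.Spor.squareDodecad ∧ g x = x := by
  have hp : H6.pt 0 ∈ H6.D0 := by decide +kernel
  haveI := H6.simple_M11 H6.D0_mem hp
  have hN := H6.card_M11 H6.D0_mem hp
  obtain ⟨q, hq, -⟩ := H8.exists_ne_compl H6.D0_mem none
  have c := H8.card_stab_compl H6.D0_mem hp hq
  rw [H6.sqD_eq]
  let x : ↥(MulAction.stabilizer Cfsg.M24 H6.D0 ⊓ MulAction.stabilizer Cfsg.M24 (H6.pt 0)) :=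
    ⟨⟨g, hg.1.1⟩, by rw [← H6.sqD_eq]; exact ⟨hg.1.2, hg.2⟩⟩
  have ox : orderOf x = orderOf g := by rw [← Subgroup.orderOf_coe, ← Subgroup.orderOf_coe]
  haveI := Fact.mk hord
  have hd := orderOf_dvd_natCard x
  have : orderOf g ∈ Nat.primeFactors 7920 := Nat.mem_primeFactors.2 ⟨hord, ox ▸ hN ▸ hd, by norm_num⟩
  rw [show Nat.primeFactors 7920 = {2, 3, 5, 11} by decide +kernel] at this
  simp only [Finset.mem_insert, Finset.mem_singleton] at this
  obtain ⟨y, hy⟩ := exists_prime_orderOf_dvd_card' (G := MulAction.stabilizer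
    ↥(MulAction.stabilizer Cfsg.M24 H6.D0 ⊓ MulAction.stabilizer Cfsg.M24 (H6.pt 0)) q) (orderOf g)
    (by rw [c]; rcases this with e | e | e | e <;> rw [e] <;> norm_num)
  rw [← Subgroup.orderOf_coe] at hy
  obtain ⟨h, z, hz, e⟩ : ∃ h z, z • q = q ∧ h * z * h⁻¹ = x := by
    have k : ¬ orderOf g ^ 2 ∣ 7920 → ∃ h z, z • q = q ∧ h * z * h⁻¹ = x := fun h2 => by
      obtain ⟨P, eP⟩ := H8.sylow_eq_zpowers
        (fun P => H8.card_sylow_of_not_sq (ox ▸ hd) (hN ▸ h2) P) hy
      obtain ⟨h, hh⟩ := H8.exists_conj_mem_sylow P (x := x) ⟨1, by rw [ox, pow_one]⟩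
      exact ⟨h, _, (Subgroup.zpowers_le.2 y.2) (eP ▸ hh), by group⟩
    rcases this with e | e | e | e
    · obtain ⟨h, hh⟩ := isConj_iff.1 (H8.m11_cls2 hN (hy.trans e) (ox.trans e))
      exact ⟨h, y, y.2, hh⟩
    · obtain ⟨h, hh⟩ := isConj_iff.1 (H8.m11_cls3 hN (hy.trans e) (ox.trans e))
      exact ⟨h, y, y.2, hh⟩
    · exact k (by rw [e]; norm_num)
    · exact k (by rw [e]; norm_num)
  refine ⟨h • q, H8.smul_notMem h hq, ?_⟩
  change x • h • q = h • q
  rw [← e, mul_smul, inv_smul_smul, mul_smul, hz]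

end Cfsg.Agent.S5522
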