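import Cfsg.Statements.S5726
import Mathlib
import Cfsg.Agent.H8.PermMod

set_option autoImplicit false
open Cfsg

namespace Cfsg.Agent.S5726

open Subgroup

/-- If a finite group acts faithfully and transitively on a set with p^k elements, p a prime and k ≥ 1, then some element of order p fixes no point. -/
theorem result {G Ω : Type*} [Group G] [Finite G] [MulAction G Ω] [FaithfulSMul G Ω] [Fintype Ω] (htr : MulAction.IsPretransitive G Ω)
    (p k : ℕ) (hp : p.Prime) (hk : 1 ≤ k) (hΩ : Fintype.card Ω = p ^ k) :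
    ∃ g : G, orderOf g = p ∧ ∀ ω : Ω, g • ω ≠ ω := by
  haveI := Fact.mk hp
  let P : Sylow p G := default
  haveI := H8.isPretransitive_sylow (Ω := Ω) (by rw [Nat.card_eq_fintype_card, hΩ]) P
  have h1 : 1 < Fintype.card Ω := hΩ ▸ Nat.one_lt_pow (by omega) hp.one_lt
  obtain ⟨a, b, hab⟩ := Fintype.one_lt_card_iff.1 h1
  haveI : Nontrivial (P : Subgroup G) := by
    obtain ⟨g, hg⟩ := MulAction.exists_smul_eq (P : Subgroup G) a b
    exact ⟨g, 1, fun e => hab (by rw [← hg, e, one_smul])⟩
  haveI := P.isPGroup'.center_nontrivial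
  obtain ⟨n, hn, hc⟩ := (P.isPGroup'.to_subgroup (center P)).nontrivial_iff_card.1 inferInstance
  obtain ⟨z, hz⟩ := exists_prime_orderOf_dvd_card' (G := center P) p (hc ▸ dvd_pow_self p hn.ne')
  have ho : orderOf (z : G) = p := by rwa [orderOf_coe, orderOf_coe]
  refine ⟨z, ho, fun ω h => hp.one_lt.ne' ?_⟩
  rw [← ho, orderOf_eq_one_iff]
  refine eq_of_smul_eq_smul fun c : Ω => ?_
  obtain ⟨g, rfl⟩ := MulAction.exists_smul_eq (P : Subgroup G) ω c
  rw [one_smul, Subgroup.smul_def, ← mul_smul,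
    ← show (g : G) * z = z * g from congrArg Subtype.val (mem_center_iff.1 z.2 g), mul_smul, h]

end Cfsg.Agent.S5726
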