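import Cfsg.Statements.S5727
import Cfsg.Agent.H3.Der

set_option autoImplicit false
open Cfsg

namespace Cfsg.Agent.S5727

open MulAction Subgroup H3.Der Finset

/-- If a finite group acts faithfully and transitively on a set with m·p elements, where p is a prime and 1 ≤ m ≤ p, then some element of order p fixes no point. -/
theorem result {G Ω : Type*} [Group G] [Finite G] [MulAction G Ω] [FaithfulSMul G Ω] [Fintype Ω] (htr : MulAction.IsPretransitive G Ω)
    (p m : ℕ) (hp : p.Prime) (hm : 1 ≤ m) (hmp : m ≤ p) (hΩ : Fintype.card Ω = m * p) :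
    ∃ g : G, orderOf g = p ∧ ∀ ω : Ω, g • ω ≠ ω := by
  set_option maxSynthPendingDepth 3 in
  classical
  haveI := Fact.mk hp
  rw [← Nat.card_eq_fintype_card] at hΩ
  haveI : Nonempty Ω := (Nat.card_pos_iff.1 (by rw [hΩ]; exact Nat.mul_pos hm hp.pos)).1
  obtain ⟨P⟩ : Nonempty (Sylow p G) := inferInstance
  have d : ∀ (k : ℕ) (x : Ω), p ^ k ∣ m * p → p ^ k ∣ (stabilizer P x).index := fun k x h => by
    have e := relIndex_mul_index (inf_le_right : stabilizer G x ⊓ P ≤ P)
    have l := index_dvd_of_le (inf_le_left : stabilizer G x ⊓ P ≤ _)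
    rw [index_stabilizer_of_transitive, hΩ, ← e, inf_relIndex_right] at l
    exact (Nat.Coprime.pow_left k (hp.coprime_iff_not_dvd.2 P.not_dvd_index)).dvd_of_dvd_mul_right (h.trans l)
  rcases hmp.eq_or_lt with rfl | hmp
  · obtain ⟨a⟩ : Nonempty Ω := inferInstance
    have t : orbit P a = Set.univ := (Set.eq_univ_iff_ncard _).2 (le_antisymm (Set.ncard_le_card _) (by
      rw [← index_stabilizer, hΩ, ← sq]
      exact Nat.le_of_dvd (Nat.pos_of_ne_zero FiniteIndex.index_ne_zero) (d 2 a (by rw [sq]))))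
    haveI : Nontrivial P := Finite.one_lt_card_iff_nontrivial.1 (hp.one_lt.trans_le (Nat.le_of_dvd Nat.card_pos
      ((pow_one m).symm.dvd.trans ((d 1 a (by simp)).trans (index_dvd_card _)))))
    haveI := P.2.center_nontrivial
    obtain ⟨n, n0, e⟩ := (P.2.to_subgroup (center P)).nontrivial_iff_card.1 ‹_›
    obtain ⟨z, hz⟩ := exists_prime_orderOf_dvd_card' (G := center P) m (e ▸ dvd_pow_self m n0.ne')
    refine ⟨z.1.1, by rw [orderOf_coe, orderOf_coe, hz], fun x h => hp.one_lt.ne' ?_⟩
    rw [← hz, orderOf_eq_one_iff]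
    refine Subtype.ext (Subtype.ext (eq_of_smul_eq_smul (α := Ω) fun y => ?_))
    obtain ⟨u, rfl⟩ := t.ge (Set.mem_univ x)
    obtain ⟨v, rfl⟩ := t.ge (Set.mem_univ y)
    have c : ∀ u : P, z.1 • u • a = u • z.1 • a := fun u => by rw [← mul_smul, ← mem_center_iff.1 z.2 u, mul_smul]
    exact (c v).trans ((congrArg _ (smul_left_cancel u ((c u).symm.trans h))).trans (one_smul G _).symm)
  haveI := Fintype.ofFinite P
  obtain ⟨g, h⟩ : ∃ g : P, ∀ ω : Ω, g • ω ≠ ω := by
    by_contra! z
    have b := burn P Ω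
    have l : ∀ g ∈ (univ : Finset P), p ≤ Nat.card (fixedBy Ω g) := fun g _ => by
      have := (P.2.to_subgroup (zpowers g)).card_modEq_card_fixedPoints Ω
      rw [hΩ, show fixedPoints (zpowers g) Ω = fixedBy Ω g from Set.ext fun x =>
        ⟨fun h => h ⟨g, mem_zpowers g⟩, fun h y => zpowers_le.2 (show g ∈ stabilizer P x from h) y.2⟩] at this
      exact Nat.le_of_dvd (Nat.pos_of_ne_zero fun e => (z g).elim (fix_zero.1 e))
        ((this.dvd_iff dvd_rfl).1 (dvd_mul_left p m))
    have s := card_nsmul_le_sum _ _ _ l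
    rw [b, card_univ, ← Nat.card_eq_fintype_card, smul_eq_mul, mul_comm] at s
    have s := Nat.le_of_mul_le_mul_right s Nat.card_pos
    haveI := Fintype.ofFinite (orbitRel.Quotient P Ω)
    have c := Nat.card_congr (selfEquivSigmaOrbits P Ω)
    rw [Nat.card_sigma] at c
    have := card_nsmul_le_sum univ (fun q : orbitRel.Quotient P Ω => Nat.card (orbit P q.out)) p fun q _ =>
      Nat.le_of_dvd (Nat.card_pos_iff.2 ⟨⟨⟨_, mem_orbit_self _⟩⟩, inferInstance⟩)
        (by simpa only [pow_one, index_stabilizer, Nat.card_coe_set_eq] using d 1 q.out (by simp))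
    rw [← c, card_univ, ← Nat.card_eq_fintype_card, hΩ, smul_eq_mul] at this
    nlinarith [hp.pos]
  have : g ^ p = 1 := Subtype.ext (eq_of_smul_eq_smul (α := Ω) fun x => by
    obtain ⟨k, e⟩ := P.2 g
    obtain ⟨j, -, e⟩ := (Nat.dvd_prime_pow hp).1 ((period_dvd_orderOf g x).trans (orderOf_dvd_of_pow_eq_one e))
    have l : period g x ≤ Nat.card Ω := by rw [Nat.card_eq_fintype_card]; exact Function.minimalPeriod_le_card
    have j0 : j ≠ 0 := fun z => h x (period_eq_one_iff.1 (by rw [e, z, pow_zero]))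
    have : j < 2 := (Nat.pow_lt_pow_iff_right hp.one_lt).1 (by rw [← e]; nlinarith [hp.pos])
    rw [show j = 1 by omega, pow_one] at e
    have := pow_period_smul g x
    rw [e] at this; exact this.trans (one_smul G x).symm)
  obtain ⟨a⟩ : Nonempty Ω := inferInstance
  exact ⟨g, by rw [orderOf_coe, orderOf_eq_prime this fun z => h a (by rw [z, one_smul])], h⟩

end Cfsg.Agent.S5727
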