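import Cfsg.Statements.S5728
import Mathlib

set_option autoImplicit false
open Cfsg

namespace Cfsg.Agent.S5728

/-- An elusive transitive action. Let p = 2^s − 1 be a prime and let F be the field with p² elements. Inside the group of affine maps x ↦ a·x + b of F (a ≠ 0), consider the subgroup of maps with both coefficients in the prime field. Then every element of prime order of the affine group is conjugate, within the affine group, to an element of that subgroup; equivalently, in the transitive action of the affine group on the cosets of that subgroup (of degree p(p + 1)) every element of prime order fixes a point. -/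
theorem result (p s : ℕ) [Fact p.Prime] (hs : p = 2 ^ s - 1)
    (g : Equiv.Perm (GaloisField p 2)) (hg : g ∈ Cfsg.affineGroup (GaloisField p 2)) (hord : (orderOf g).Prime) :
    ∃ x ∈ Cfsg.affineGroup (GaloisField p 2), ∃ a b : ZMod p, a ≠ 0 ∧
      ∀ y : GaloisField p 2, (x * g * x⁻¹) y = algebraMap (ZMod p) (GaloisField p 2) a * y + algebraMap (ZMod p) (GaloisField p 2) b := by
  set_option maxSynthPendingDepth 3 in
  have hp : p.Prime := Fact.out
  haveI := Fintype.ofFinite (GaloisField p 2)
  obtain ⟨a, b, h⟩ := hg
  by_cases a1 : a = 1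
  · have b0 : b ≠ 0 := fun z => hord.one_lt.ne' (orderOf_eq_one_iff.2 (Equiv.ext fun y => by simp [h, a1, z]))
    refine ⟨(Units.mk0 b b0)⁻¹.mulLeft, ⟨(Units.mk0 b b0)⁻¹, 0, fun y => by simp⟩, 1, 1, one_ne_zero, fun y => ?_⟩
    simp [h, a1, mul_add, b0, Equiv.Perm.inv_def]
  have a0 : (a : GaloisField p 2) - 1 ≠ 0 := fun z => a1 (Units.ext (sub_eq_zero.1 z))
  have e : ∀ y, (Equiv.addRight (b / (a - 1)) * g * (Equiv.addRight (b / (a - 1)))⁻¹) y = a * y := fun y => by
    simp [h]; field_simp; ring
  have o : orderOf a = orderOf g := by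
    rw [← orderOf_injective (MulAction.toPermHom (GaloisField p 2)ˣ (GaloisField p 2)) (MulAction.toPerm_injective) a,
      show MulAction.toPermHom _ _ a = _ from (Equiv.ext e).symm]
    exact (MulAut.conj _).orderOf_eq g
  have d : orderOf g ∣ p - 1 := by
    have := orderOf_dvd_natCard a
    have s1 := Nat.one_le_two_pow (n := s)
    rw [o, Nat.card_units, GaloisField.card p 2 two_ne_zero, ← one_pow 2, Nat.sq_sub_sq,
      show p + 1 = 2 ^ s by omega] at this
    refine (hord.dvd_mul.1 this).elim (fun z => ?_) id
    rw [(Nat.prime_dvd_prime_iff_eq hord Nat.prime_two).1 (hord.dvd_of_dvd_pow z)]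
    rcases s with _ | s
    · exact absurd hs hp.ne_zero
    · have := hp.pos
      rw [pow_succ] at hs s1; omega
  have : (a : GaloisField p 2) ^ p = a := by
    rw [← pow_sub_one_mul hp.ne_zero, ← Units.val_pow_eq_pow_val, orderOf_dvd_iff_pow_eq_one.1 (o ▸ d)]; simp
  obtain ⟨c, hc⟩ := (ZMod.fieldRange_castHom_eq_bot (K := GaloisField p 2) p).ge
    ((Subfield.mem_bot_iff_pow_eq_self _ p).2 this)
  have hc : algebraMap (ZMod p) (GaloisField p 2) c = a := (DFunLike.congr_fun (Subsingleton.elim _ _) c).trans hc
  exact ⟨Equiv.addRight (b / (a - 1)), ⟨1, b / (a - 1), fun y => by simp⟩, c, 0, fun z => a.ne_zero (by rw [← hc, z, map_zero]),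
    fun y => by rw [e, hc, map_zero, add_zero]⟩

end Cfsg.Agent.S5728
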