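import Cfsg.Statements.S5911
import Mathlib
import Cfsg.Agent.H8.AutA
import Cfsg.Agent.H8.ClassCount

set_option autoImplicit false
open Cfsg

namespace Cfsg.Agent.S5911

open H8 Subgroup Equiv MulAction

/-- Let Ω be a finite set whose size n is not 6. Then every subgroup of the symmetric group on Ω of index n is the stabilizer of a point. -/
theorem result {Ω : Type*} [Fintype Ω] [DecidableEq Ω] (h6 : Fintype.card Ω ≠ 6)
    (H : Subgroup (Equiv.Perm Ω)) (hH : H.index = Fintype.card Ω) :
    ∃ x : Ω, H = MulAction.stabilizer (Equiv.Perm Ω) x := by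
  rw [← Nat.card_eq_fintype_card] at h6 hH
  have h0 := H.index_ne_zero_of_finite
  suffices ∃ x : Ω, ∀ g : H, g • x = x by
    obtain ⟨x, hx⟩ := this
    exact ⟨x, eq_of_le_of_index_le (fun g hg => hx ⟨g, hg⟩) (by rw [hH, index_stabilizer_of_transitive])⟩
  obtain ⟨a⟩ := (Nat.card_pos_iff.1 (by omega : 0 < Nat.card Ω)).1
  rcases subsingleton_or_nontrivial Ω with h1 | h1
  · exact ⟨a, fun _ => Subsingleton.elim _ _⟩
  have h2 := H.card_mul_index
  have h3 := Finite.one_lt_card_iff_nontrivial.2 h1
  by_cases h4 : Nat.card Ω < 4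
  · refine (fix_or_prim fun L hL => by omega).resolve_right fun hp => ?_
    have := index_stabilizer_of_transitive H a ▸ (stabilizer H a).index_dvd_card
    rw [Nat.card_perm, hH] at h2
    interval_cases Nat.card Ω <;> simp only [Nat.factorial] at h2 <;> omega
  have h5 := relIndex_mul_index (inf_le_left : H ⊓ alternatingGroup Ω ≤ H)
  have h7 := relIndex_mul_index (inf_le_right : H ⊓ alternatingGroup Ω ≤ _)
  rw [alternatingGroup.index_eq_two, inf_relIndex_right] at h7
  rw [inf_relIndex_left, hH] at h5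
  have h8 : (H.subgroupOf (alternatingGroup Ω)).index = Nat.card Ω := by
    rcases (Nat.dvd_prime Nat.prime_two).1 (alternatingGroup.index_eq_two (α := Ω) ▸
      relIndex_dvd_index_of_normal (alternatingGroup Ω) H) with e | e <;> rw [e] at h5
    · have := alt_index_large (n := Nat.card Ω) (by omega) ((H.subgroupOf (alternatingGroup Ω)).map
        (Finite.equivFin Ω).altCongrHom.toMonoidHom)
      rw [MulEquiv.toMonoidHom_eq_coe, index_map_equiv] at this
      rw [relIndex] at h7
      omega
    · rw [relIndex] at h7; omega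
  haveI := alternatingGroup.isPretransitive_of_three_le_card Ω (by omega)
  obtain ⟨x, hx⟩ := fix_of_index (by omega) h8 (Or.inl h6)
  have h9 : H.subgroupOf (alternatingGroup Ω) = stabilizer _ x :=
    eq_of_le_of_index_le (fun g hg => hx ⟨g, hg⟩) (by rw [h8, index_stabilizer_of_transitive])
  refine ⟨x, fun σ => by_contra fun e => ?_⟩
  obtain ⟨z, -, hz⟩ := Finset.exists_mem_notMem_of_card_lt_card (s := {x, σ • x}) (t := Finset.univ) (by
    rw [Finset.card_univ, ← Nat.card_eq_fintype_card]; exact Finset.card_le_two.trans_lt (by omega))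
  obtain ⟨w, -, hw⟩ := Finset.exists_mem_notMem_of_card_lt_card (s := {x, σ • x, z}) (t := Finset.univ) (by
    rw [Finset.card_univ, ← Nat.card_eq_fintype_card]; exact Finset.card_le_three.trans_lt (by omega))
  simp only [Finset.mem_insert, Finset.mem_singleton, not_or] at hz hw
  have ha := Perm.mul_mem_alternatingGroup_of_isSwap ⟨_, _, Ne.symm hz.2, rfl⟩ ⟨_, _, Ne.symm hw.2.1, rfl⟩
  have hb : swap (σ • x) z * swap (σ • x) w ∈ H := mem_subgroupOf.1 (h9.ge (show (⟨_, ha⟩ : alternatingGroup Ω) ∈ _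
    from show (swap (σ • x) z * swap (σ • x) w) x = x by
      rw [Perm.mul_apply, swap_apply_of_ne_of_ne (Ne.symm e) (Ne.symm hw.1),
        swap_apply_of_ne_of_ne (Ne.symm e) (Ne.symm hz.1)]))
  have hc := hx ⟨⟨_, (alternatingGroup.normal (α := Ω)).conj_mem' _ ha σ⟩, mul_mem (mul_mem (inv_mem σ.2) hb) σ.2⟩
  have hd : (swap (σ • x) z * swap (σ • x) w) (σ • x) = σ • x := Perm.inv_eq_iff_eq.1 hc
  rw [Perm.mul_apply, swap_apply_left, swap_apply_of_ne_of_ne hw.2.1 hw.2.2] at hd
  exact hw.2.1 hd

end Cfsg.Agent.S5911
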